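import Groth.Agent.DRingLib.Basic
import Groth.Agent.KFlatLib.Factor

/-!
# K-flat complexes over a ring: filtered colimits, tensor, factorisation
-/

set_option autoImplicit false

universe u

open CategoryTheory CategoryTheory.Limits HomologicalComplex
open CochainComplex (mappingCone)
open KFlatLib (DegSplit)

namespace Groth.Agent.DRingLib

variable {R : Type u} [CommRing R]

theorem quasiIso_tensor_of_kFlat {P Q : CochainComplex (ModuleCat.{u} R) ℤ} (α : P ⟶ Q) [QuasiIso α]
    (hP : DRing.IsKFlat R P) (hQ : DRing.IsKFlat R Q) (F : CochainComplex (ModuleCat.{u} R) ℤ) :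
    QuasiIso (KFlatLib.tMap (𝟙 F) α) := by
  have : QuasiIso ((resψ R).app F) := quasiIso_resψ F
  let q : (resP R).obj F ⟶ F := (resψ R).app F
  have : QuasiIso q := quasiIso_resψ F
  have h1 : QuasiIso (KFlatLib.tMap (𝟙 ((resP R).obj F)) α) :=
    KFlatLib.quasiIso_tMap_left (good_resP F).1 α
  have h2 : QuasiIso (KFlatLib.tMap q (𝟙 P)) := KFlatLib.quasiIso_tMap_right hP q
  have h3 : QuasiIso (KFlatLib.tMap q (𝟙 Q)) := KFlatLib.quasiIso_tMap_right hQ q
  have e : KFlatLib.tMap q (𝟙 P) ≫ KFlatLib.tMap (𝟙 F) α =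
      KFlatLib.tMap (𝟙 ((resP R).obj F)) α ≫ KFlatLib.tMap q (𝟙 Q) := by
    exact (MonoidalCategory.tensorHom_comp_tensorHom q (𝟙 P) (𝟙 F) α).trans
      (((congrArg₂ (fun x y => MonoidalCategoryStruct.tensorHom x y)
        ((Category.comp_id q).trans (Category.id_comp q).symm)
        ((Category.id_comp α).trans (Category.comp_id α).symm))).trans
      (MonoidalCategory.tensorHom_comp_tensorHom (𝟙 ((resP R).obj F)) α q (𝟙 Q)).symm)
  have : QuasiIso (KFlatLib.tMap q (𝟙 P) ≫ KFlatLib.tMap (𝟙 F) α) := by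
    rw [e]
    infer_instance
  exact quasiIso_of_comp_left (KFlatLib.tMap q (𝟙 P)) _

/-- The split sequence of a biproduct. -/
noncomputable def biprodSplit (A B : CochainComplex (ModuleCat.{u} R) ℤ) :
    DegSplit (ShortComplex.mk (biprod.inl : A ⟶ A ⊞ B) biprod.snd biprod.inl_snd) := fun n =>
  (ShortComplex.Splitting.map
    { r := biprod.fst, s := biprod.inr, f_r := biprod.inl_fst, s_g := biprod.inr_snd,
      id := biprod.total } (eval (ModuleCat.{u} R) (ComplexShape.up ℤ) n))

theorem isKFlat_biprod_left {A B : CochainComplex (ModuleCat.{u} R) ℤ} (hA : DRing.IsKFlat R A)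
    (hB : DRing.IsKFlat R B) : DRing.IsKFlat R (A ⊞ B) := by
  let S : ShortComplex (CochainComplex (ModuleCat.{u} R) ℤ) :=
    ShortComplex.mk (biprod.inl : A ⟶ A ⊞ B) biprod.snd biprod.inl_snd
  have h : DegSplit S := biprodSplit A B
  have h₁ : DRing.IsKFlat R S.X₁ := hA
  have h₃ : DRing.IsKFlat R S.X₃ := hB
  have h₂ : DRing.IsKFlat R S.X₂ := KFlatLib.isKFlat_X₂_of_degSplit h h₁ h₃
  exact h₂

theorem flat_biprod {A B : CochainComplex (ModuleCat.{u} R) ℤ} (hA : ∀ n, Module.Flat R (A.X n))
    (hB : ∀ n, Module.Flat R (B.X n)) (n : ℤ) : Module.Flat R ((A ⊞ B).X n) := by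
  let S : ShortComplex (ModuleCat.{u} R) :=
    (ShortComplex.mk (biprod.inl : A ⟶ A ⊞ B) biprod.snd biprod.inl_snd).map
      (eval (ModuleCat.{u} R) (ComplexShape.up ℤ) n)
  let s : S.Splitting := biprodSplit A B n
  have : Module.Flat R S.X₁ := hA n
  have : Module.Flat R S.X₃ := hB n
  exact KFlatLib.flat_of_splitting s

theorem exists_factor_kFlat {K L : CochainComplex (ModuleCat.{u} R) ℤ} (a : K ⟶ L) (hK : DRing.IsKFlat R K) :
    ∃ (N : CochainComplex (ModuleCat.{u} R) ℤ) (b : K ⟶ N) (c : N ⟶ L), DRing.IsKFlat R N ∧ QuasiIso c ∧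
      a = b ≫ c ∧ ((∀ n : ℤ, Module.Flat R (K.X n)) → ∀ n : ℤ, Module.Flat R (N.X n)) := by
  let RK := (resP R).obj K
  let RL := (resP R).obj L
  let qK : RK ⟶ K := (resψ R).app K
  let qL : RL ⟶ L := (resψ R).app L
  let Ra : RK ⟶ RL := (resP R).map a
  let φ : RK ⟶ K ⊞ RL := biprod.lift qK (-Ra)
  have hzero : φ ≫ biprod.desc a qL = 0 := by
    rw [biprod.lift_desc, Preadditive.neg_comp,
      show Ra ≫ qL = qK ≫ a from (resψ R).naturality a, add_neg_cancel]
  let c : mappingCone φ ⟶ L := CochainComplex.mappingCone.desc φ 0 (biprod.desc a qL)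
    (by rw [CochainComplex.HomComplex.δ_zero, hzero, CochainComplex.HomComplex.Cochain.ofHom_zero])
  have hc : ∀ n, (CochainComplex.mappingCone.inr φ).f n ≫ c.f n = (biprod.desc a qL).f n :=
    fun n => CochainComplex.mappingCone.inr_f_desc_f _ _ _ _ n
  let i : RL ⟶ mappingCone φ := biprod.inr ≫ CochainComplex.mappingCone.inr φ
  let p : mappingCone φ ⟶ mappingCone qK :=
    CochainComplex.mappingCone.map φ qK (𝟙 RK) (biprod.fst : K ⊞ RL ⟶ K)
      (by rw [biprod.lift_fst, Category.id_comp])
  have hip : i ≫ p = 0 := by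
    ext n : 1
    simp only [i, p, comp_f, Category.assoc, CochainComplex.mappingCone.map,
      CochainComplex.mappingCone.inr_f_desc_f, zero_f]
    rw [← Category.assoc, ← comp_f, biprod.inr_fst, zero_f, zero_comp]
  have hid : ∀ n : ℤ, ((CochainComplex.mappingCone.snd φ).v n n (add_zero n) ≫
      (biprod.snd : K ⊞ RL ⟶ RL).f n) ≫ i.f n + p.f n ≫
        ((CochainComplex.mappingCone.fst qK).1.v n (n + 1) rfl ≫
          (CochainComplex.mappingCone.inl φ).v (n + 1) n (by omega) +
        (CochainComplex.mappingCone.snd qK).v n n (add_zero n) ≫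
          (biprod.inl : K ⟶ K ⊞ RL).f n ≫ (CochainComplex.mappingCone.inr φ).f n) =
      𝟙 ((mappingCone φ).X n) := by
    intro n
    refine (CochainComplex.mappingCone.ext_from_iff φ (n + 1) n rfl _ _).mpr ⟨?_, ?_⟩
    · simp [p, i, CochainComplex.mappingCone.map]
    · simp [p, i, CochainComplex.mappingCone.map]
      rw [← Category.assoc, ← Category.assoc ((biprod.fst : K ⊞ RL ⟶ K).f n),
        ← Preadditive.add_comp, ← comp_f, ← comp_f, ← add_f_apply,
        add_comm (biprod.snd ≫ biprod.inr), biprod.total, id_f, Category.id_comp]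
  let T : ShortComplex (CochainComplex (ModuleCat.{u} R) ℤ) := ShortComplex.mk i p hip
  have hT : DegSplit T := fun n =>
  { r := (CochainComplex.mappingCone.snd φ).v n n (add_zero n) ≫ (biprod.snd : K ⊞ RL ⟶ RL).f n
    s := (CochainComplex.mappingCone.fst qK).1.v n (n + 1) rfl ≫
        (CochainComplex.mappingCone.inl φ).v (n + 1) n (by omega) +
      (CochainComplex.mappingCone.snd qK).v n n (add_zero n) ≫ (biprod.inl : K ⟶ K ⊞ RL).f n ≫
        (CochainComplex.mappingCone.inr φ).f n
    f_r := by
      change ((biprod.inr : RL ⟶ K ⊞ RL).f n ≫ (CochainComplex.mappingCone.inr φ).f n) ≫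
        (CochainComplex.mappingCone.snd φ).v n n (add_zero n) ≫
          (biprod.snd : K ⊞ RL ⟶ RL).f n = 𝟙 (RL.X n)
      rw [Category.assoc, CochainComplex.mappingCone.inr_f_snd_v_assoc, ← comp_f,
        biprod.inr_snd, id_f]
    s_g := by
      change (_ + _) ≫ p.f n = 𝟙 ((mappingCone qK).X n)
      refine (CochainComplex.mappingCone.ext_from_iff qK (n + 1) n rfl _ _).mpr ⟨?_, ?_⟩
      · simp only [p, CochainComplex.mappingCone.map, Preadditive.add_comp, Preadditive.comp_add,
          Category.assoc, CochainComplex.mappingCone.inl_v_fst_v_assoc,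
          CochainComplex.mappingCone.inl_v_snd_v_assoc, zero_comp, add_zero,
          CochainComplex.mappingCone.inl_v_desc_f, Category.comp_id,
          CochainComplex.HomComplex.Cochain.zero_cochain_comp_v,
          CochainComplex.HomComplex.Cochain.ofHom_v, id_f, Category.id_comp]
      · simp only [p, CochainComplex.mappingCone.map, Preadditive.add_comp, Preadditive.comp_add,
          Category.assoc, CochainComplex.mappingCone.inr_f_fst_v_assoc,
          CochainComplex.mappingCone.inr_f_snd_v_assoc, zero_comp, zero_add,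
          CochainComplex.mappingCone.inr_f_desc_f, Category.comp_id, comp_f]
        rw [← Category.assoc, ← comp_f, biprod.inl_fst, id_f, Category.id_comp]
    id := hid n }
  have hqK : QuasiIso qK := quasiIso_resψ K
  have hcone : ∀ j, IsZero ((mappingCone qK).homology j) := by
    exact fun j => isZero_homology_cone qK j
  have : QuasiIso i := KFlatLib.quasiIso_f_of_acyclic (KFlatLib.shortExact_of_degSplit hT) hcone
  have hic : i ≫ c = qL := by
    ext n : 1
    rw [comp_f, comp_f, Category.assoc, hc, ← comp_f, biprod.inr_desc]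
  refine ⟨mappingCone φ, biprod.inl ≫ CochainComplex.mappingCone.inr φ, c, ?_, ?_, ?_, ?_⟩
  · exact KFlatLib.isKFlat_mappingCone (good_resP K).1 (isKFlat_biprod_left hK (good_resP L).1) φ
  · have : QuasiIso (i ≫ c) := by rw [hic]; exact quasiIso_resψ L
    exact quasiIso_of_comp_left i c
  · ext n : 1
    rw [comp_f, comp_f, Category.assoc, hc, ← comp_f, biprod.inl_desc]
  · intro h
    exact flat_cone (good_resP K).2 (flat_biprod h (good_resP L).2) φ
where
  isZero_homology_cone {A K : CochainComplex (ModuleCat.{u} R) ℤ} (f : A ⟶ K) [QuasiIso f] (j : ℤ) :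
      IsZero ((mappingCone f).homology j) := by
    let T : Pretriangulated.Triangle (HomotopyCategory (ModuleCat.{u} R) (ComplexShape.up ℤ)) :=
      CochainComplex.mappingCone.triangleh f
    have hT : T ∈ Pretriangulated.distinguishedTriangles :=
      HomotopyCategory.mappingCone_triangleh_distinguished f
    have hq : HomotopyCategory.quasiIso (ModuleCat.{u} R) (ComplexShape.up ℤ) T.mor₁ :=
      (HomotopyCategory.quotient_map_mem_quasiIso_iff f).mpr
        ((HomologicalComplex.mem_quasiIso_iff _).mpr inferInstance)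
    rw [HomotopyCategory.quasiIso_eq_trW_subcategoryAcyclic,
      ObjectProperty.trW_iff_of_distinguished _ T hT] at hq
    exact (exactAt_iff_isZero_homology _ _).mp
      ((HomotopyCategory.quotient_obj_mem_subcategoryAcyclic_iff_exactAt _).mp hq j)

end Groth.Agent.DRingLib
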