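import Groth.Agent.DRingLib.Amplitude

/-!
# Tor amplitude and perfectness in triangles and for retracts
-/

set_option autoImplicit false

universe u

open CategoryTheory CategoryTheory.Limits HomologicalComplex MonoidalCategory
open CategoryTheory.Pretriangulated (Triangle)
open CochainComplex (mappingCone)
open KFlatLib (tensorN)

attribute [local instance] HasDerivedCategory.standard

namespace Groth.Agent.DRingLib

variable {R : Type u} [CommRing R]

theorem isZero_homology_cone {P Q : CochainComplex (ModuleCat.{u} R) ℤ} (f : P ⟶ Q) (i : ℤ)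
    (h₁ : IsZero (P.homology (i + 1))) (h₂ : IsZero (Q.homology i)) :
    IsZero ((mappingCone f).homology i) := by
  apply isZero_homology_of_Hn
  exact (DerivedCategory.HomologySequence.exact₃ _
    (DerivedCategory.mappingCone_triangle_distinguished f) i (i + 1) rfl).isZero_X₂
      ((isZero_Hn_of_homology h₂).eq_of_src _ _) ((isZero_Hn_of_homology h₁).eq_of_tgt _ _)

theorem amp_cone {P Q : CochainComplex (ModuleCat.{u} R) ℤ} (f : P ⟶ Q) {a c : ℤ}
    (hP : Amp (a + 1) (c + 1) P) (hQ : Amp a c Q) : Amp a c (mappingCone f) := fun N i hi =>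
  (isZero_homology_cone ((tensorNF N).map f) i (hP N (i + 1) (by omega)) (hQ N i hi)).of_iso
    ((homologyFunctor _ _ i).mapIso
      (CochainComplex.mappingCone.mapHomologicalComplexIso f (tensorRight N)))

theorem hasTorAmplitudeIn_shift {K : Dual.D R} {a c : ℤ}
    (h : DRing.HasTorAmplitudeIn R a c K) (n : ℤ) :
    DRing.HasTorAmplitudeIn R (a - n) (c - n) (K⟦n⟧) := by
  obtain ⟨E, h₁, h₂, ⟨e⟩⟩ := h
  exact ⟨E⟦n⟧, fun i hi => h₁ (i + n) (by omega), fun i => h₂ (i + n),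
    ⟨(DerivedCategory.Q.commShiftIso n).app E ≪≫
      (shiftFunctor (DerivedCategory (ModuleCat.{u} R)) n).mapIso e⟩⟩

theorem isZero_Hn_of_hasTorAmplitudeIn {K : Dual.D R} {a c : ℤ}
    (h : DRing.HasTorAmplitudeIn R a c K) (i : ℤ) (hi : i < a ∨ c < i) :
    IsZero ((Hn R i).obj K) := by
  obtain ⟨E, h₁, -, ⟨e⟩⟩ := h
  exact (isZero_Hn_Q E i (h₁ i hi)).of_iso ((Hn R i).mapIso e.symm)

theorem exists_free_rep_of_amplitude {K : Dual.D R} {a c : ℤ}
    (h : DRing.HasTorAmplitudeIn R a c K) :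
    ∃ P : CochainComplex (ModuleCat.{u} R) ℤ, P.IsKProjective ∧ DRing.IsKFlat R P ∧ Amp a c P ∧
      Nonempty (DerivedCategory.Q.obj P ≅ K) := by
  obtain ⟨P, hb, hf, ⟨e⟩⟩ := exists_free_rep K c fun i hi =>
    isZero_Hn_of_hasTorAmplitudeIn h i (Or.inr hi)
  exact ⟨P, isKProjective_of_free P c hb hf, isKFlat_of_free P c hb hf,
    amp_of_hasTorAmplitudeIn h (isKFlat_of_free P c hb hf) e, ⟨e⟩⟩

theorem hasTorAmplitudeIn_obj₃ (T : Triangle (DerivedCategory (ModuleCat.{u} R)))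
    (hT : T ∈ Pretriangulated.distinguishedTriangles) {a c : ℤ}
    (h₁ : DRing.HasTorAmplitudeIn R (a + 1) (c + 1) T.obj₁)
    (h₂ : DRing.HasTorAmplitudeIn R a c T.obj₂) : DRing.HasTorAmplitudeIn R a c T.obj₃ := by
  obtain ⟨P, hPp, hPf, hPa, ⟨eP⟩⟩ := exists_free_rep_of_amplitude h₁
  obtain ⟨Q, -, hQf, hQa, ⟨eQ⟩⟩ := exists_free_rep_of_amplitude h₂
  obtain ⟨f, hf⟩ := Q_map_surjective P Q (eP.hom ≫ T.mor₁ ≫ eQ.inv)
  have hcomm : DerivedCategory.Q.map f ≫ eQ.hom = eP.hom ≫ T.mor₁ := by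
    rw [hf, Category.assoc, Category.assoc, eQ.inv_hom_id, Category.comp_id]
  have hV := DerivedCategory.mappingCone_triangle_distinguished f
  let e := Pretriangulated.isoTriangleOfIso₁₂ _ T hV hT eP eQ hcomm
  exact hasTorAmplitudeIn_of_amp (KFlatLib.isKFlat_mappingCone hPf hQf f)
    (Triangle.π₃.mapIso e) (amp_cone f hPa hQa)

theorem hasTorAmplitudeIn_obj₂ (T : Triangle (DerivedCategory (ModuleCat.{u} R)))
    (hT : T ∈ Pretriangulated.distinguishedTriangles) {a c : ℤ}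
    (h₁ : DRing.HasTorAmplitudeIn R a c T.obj₁)
    (h₃ : DRing.HasTorAmplitudeIn R a c T.obj₃) : DRing.HasTorAmplitudeIn R a c T.obj₂ := by
  have h : DRing.HasTorAmplitudeIn R (a + 1) (c + 1) (T.obj₃⟦(-1 : ℤ)⟧) := by
    have := hasTorAmplitudeIn_shift h₃ (-1)
    rwa [sub_neg_eq_add, sub_neg_eq_add] at this
  exact hasTorAmplitudeIn_obj₃ T.invRotate (Pretriangulated.inv_rot_of_distTriang _ hT) h h₁

theorem hasTorAmplitudeIn_obj₁ (T : Triangle (DerivedCategory (ModuleCat.{u} R)))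
    (hT : T ∈ Pretriangulated.distinguishedTriangles) {a c : ℤ}
    (h₂ : DRing.HasTorAmplitudeIn R (a + 1) (c + 1) T.obj₂)
    (h₃ : DRing.HasTorAmplitudeIn R a c T.obj₃) :
    DRing.HasTorAmplitudeIn R (a + 1) (c + 1) T.obj₁ := by
  have h2 : DRing.HasTorAmplitudeIn R (a + 1 + 1) (c + 1 + 1) (T.obj₂⟦(-1 : ℤ)⟧) := by
    have := hasTorAmplitudeIn_shift h₂ (-1)
    rwa [sub_neg_eq_add, sub_neg_eq_add] at this
  have h3 : DRing.HasTorAmplitudeIn R (a + 1) (c + 1) (T.obj₃⟦(-1 : ℤ)⟧) := by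
    have := hasTorAmplitudeIn_shift h₃ (-1)
    rwa [sub_neg_eq_add, sub_neg_eq_add] at this
  exact hasTorAmplitudeIn_obj₃ T.invRotate.invRotate
    (Pretriangulated.inv_rot_of_distTriang _ (Pretriangulated.inv_rot_of_distTriang _ hT)) h2 h3

theorem hasTorAmplitudeIn_of_retract {K L : Dual.D R} (i : K ⟶ L) (r : L ⟶ K)
    (hir : i ≫ r = 𝟙 K) {a c : ℤ} (h : DRing.HasTorAmplitudeIn R a c L) :
    DRing.HasTorAmplitudeIn R a c K := by
  obtain ⟨Q, hQp, hQf, hQa, ⟨eQ⟩⟩ := exists_free_rep_of_amplitude h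
  obtain ⟨P, hb, hf, ⟨eP⟩⟩ := exists_free_rep K c fun n hn => by
    refine (IsZero.iff_id_eq_zero _).mpr ?_
    rw [← (Hn R n).map_id, ← hir, Functor.map_comp,
      (isZero_Hn_of_hasTorAmplitudeIn h n (Or.inr hn)).eq_of_tgt ((Hn R n).map i) 0, zero_comp]
  have := isKProjective_of_free P c hb hf
  have hPf := isKFlat_of_free P c hb hf
  obtain ⟨i', hi'⟩ := Q_map_surjective P Q (eP.hom ≫ i ≫ eQ.inv)
  obtain ⟨r', hr'⟩ := Q_map_surjective Q P (eQ.hom ≫ r ≫ eP.inv)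
  have hid : DerivedCategory.Q.map (i' ≫ r') = 𝟙 _ := by
    rw [Functor.map_comp, hi', hr', Category.assoc, Category.assoc, eQ.inv_hom_id_assoc,
      reassoc_of% hir, eP.hom_inv_id]
  have : QuasiIso (i' ≫ r') := (DerivedCategory.isIso_Q_map_iff_quasiIso (φ := i' ≫ r')).mp <| by
    rw [hid]
    infer_instance
  refine hasTorAmplitudeIn_of_amp hPf eP fun N n hn => ?_
  have hq := quasiIso_tensorN (i' ≫ r') hPf hPf N
  have hiso : IsIso (homologyMap ((tensorNF N).map i' ≫ (tensorNF N).map r') n) := by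
    rw [← Functor.map_comp]
    exact (quasiIsoAt_iff_isIso_homologyMap _ _).mp (hq.quasiIsoAt n)
  rw [homologyMap_comp, (hQa N n hn).eq_of_tgt (homologyMap ((tensorNF N).map i') n) 0,
    zero_comp] at hiso
  exact IsZero.of_mono_eq_zero (X := (tensorN P N).homology n) (Y := (tensorN P N).homology n) 0 rfl

theorem isPerfect_iff {K : Dual.D R} :
    DRing.IsPerfect R K ↔
      (∀ m, DRing.IsPseudoCoherent R m K) ∧ ∃ a c : ℤ, DRing.HasTorAmplitudeIn R a c K :=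
  ⟨fun h => ⟨isPseudoCoherent_of_isPerfect h, hasTorAmplitudeIn_of_isPerfect h⟩,
    fun ⟨h, _, _, h'⟩ => isPerfect_of_forall_of_amplitude h h'⟩

theorem isPerfect_obj₃ (T : Triangle (DerivedCategory (ModuleCat.{u} R)))
    (hT : T ∈ Pretriangulated.distinguishedTriangles) (h₁ : DRing.IsPerfect R T.obj₁)
    (h₂ : DRing.IsPerfect R T.obj₂) : DRing.IsPerfect R T.obj₃ := by
  obtain ⟨p₁, a₁, c₁, t₁⟩ := isPerfect_iff.mp h₁
  obtain ⟨p₂, a₂, c₂, t₂⟩ := isPerfect_iff.mp h₂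
  exact isPerfect_iff.mpr ⟨fun m => isPseudoCoherent_obj₃ T hT m (p₁ _) (p₂ _),
    min (a₁ - 1) a₂, max (c₁ - 1) c₂, hasTorAmplitudeIn_obj₃ T hT
      (hasTorAmplitudeIn_mono (by omega) (by omega) t₁)
      (hasTorAmplitudeIn_mono (by omega) (by omega) t₂)⟩

theorem isPerfect_obj₂ (T : Triangle (DerivedCategory (ModuleCat.{u} R)))
    (hT : T ∈ Pretriangulated.distinguishedTriangles) (h₁ : DRing.IsPerfect R T.obj₁)
    (h₃ : DRing.IsPerfect R T.obj₃) : DRing.IsPerfect R T.obj₂ := by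
  obtain ⟨p₁, a₁, c₁, t₁⟩ := isPerfect_iff.mp h₁
  obtain ⟨p₂, a₂, c₂, t₂⟩ := isPerfect_iff.mp h₃
  exact isPerfect_iff.mpr ⟨fun m => isPseudoCoherent_obj₂ T hT m (p₁ _) (p₂ _),
    min a₁ a₂, max c₁ c₂, hasTorAmplitudeIn_obj₂ T hT
      (hasTorAmplitudeIn_mono (by omega) (by omega) t₁)
      (hasTorAmplitudeIn_mono (by omega) (by omega) t₂)⟩

theorem isPerfect_obj₁ (T : Triangle (DerivedCategory (ModuleCat.{u} R)))
    (hT : T ∈ Pretriangulated.distinguishedTriangles) (h₂ : DRing.IsPerfect R T.obj₂)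
    (h₃ : DRing.IsPerfect R T.obj₃) : DRing.IsPerfect R T.obj₁ := by
  obtain ⟨p₁, a₁, c₁, t₁⟩ := isPerfect_iff.mp h₂
  obtain ⟨p₂, a₂, c₂, t₂⟩ := isPerfect_iff.mp h₃
  refine isPerfect_iff.mpr ⟨fun m => ?_, min (a₁ - 1) a₂ + 1, max (c₁ - 1) c₂ + 1,
    hasTorAmplitudeIn_obj₁ T hT
      (hasTorAmplitudeIn_mono (by omega) (by omega) t₁)
      (hasTorAmplitudeIn_mono (by omega) (by omega) t₂)⟩
  have := isPseudoCoherent_obj₁ T hT (m - 1) (p₁ _) (p₂ _)
  rwa [sub_add_cancel] at this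

end Groth.Agent.DRingLib
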