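import Groth.Agent.DRingLib.PCohResolution

/-!
# More calculus of pseudo-coherent objects: descending induction, finiteness, summands
-/

set_option autoImplicit false

universe u

open CategoryTheory CategoryTheory.Limits HomologicalComplex
open CategoryTheory.Pretriangulated (Triangle)
open CochainComplex (mappingCone)

attribute [local instance] HasDerivedCategory.standard

namespace Groth.Agent.DRingLib

variable {R : Type u} [CommRing R]

theorem isPseudoCoherent_mono {m m' : ℤ} (h : m ≤ m') {K : Dual.D R}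
    (hK : DRing.IsPseudoCoherent R m K) : DRing.IsPseudoCoherent R m' K := by
  obtain ⟨E, α, hE, hα⟩ := isPseudoCoherent_iff.1 hK
  exact isPseudoCoherent_iff.2 ⟨E, α, hE, hα.mono h⟩

theorem isPseudoCoherent_bddFree {E : CochainComplex (ModuleCat.{u} R) ℤ} (hE : IsBddFree E)
    (m : ℤ) : DRing.IsPseudoCoherent R m (DerivedCategory.Q.obj E) :=
  isPseudoCoherent_iff.2 ⟨E, 𝟙 _, hE, Approx.of_isIso _ _⟩

theorem isPseudoCoherent'_iff_forall {K : Dual.D R} :
    DRing.IsPseudoCoherent' R K ↔ ∀ m, DRing.IsPseudoCoherent R m K := by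
  refine ⟨?_, isPseudoCoherent'_of_forall⟩
  rintro ⟨E, b, hb, hf, ⟨e⟩⟩ m
  refine forall_isPseudoCoherent_of_projective E b hb (fun i => ?_) e m
  have := (hf i).2
  exact ⟨(hf i).1, inferInstance⟩

/-- An object with vanishing cohomology above `m` and finite `H^m` is `m`-pseudo-coherent. -/
theorem isPseudoCoherent_of_finite_top {K : Dual.D R} {m : ℤ}
    (hz : ∀ i, m < i → IsZero ((Hn R i).obj K)) (hfin : Module.Finite R ((Hn R m).obj K)) :
    DRing.IsPseudoCoherent R m K := by
  obtain ⟨P, hPb, hPf, ⟨e⟩⟩ := exists_free_rep K m hz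
  have hfin' : Module.Finite R (P.homology m) := by
    have : Module.Finite R ((Hn R m).obj K) := hfin
    exact Module.Finite.equiv ((Hn R m).mapIso e.symm ≪≫
      (DerivedCategory.homologyFunctorFactors (ModuleCat.{u} R) m).app P).toLinearEquiv
  obtain ⟨k, Z, hZd, hZ⟩ := exists_cycles_generators P m hfin'
  let f : (single (ModuleCat.{u} R) (ComplexShape.up ℤ) m).obj (ModuleCat.of R (Fin k → R)) ⟶ P :=
    mkHomFromSingle Z fun l hl => by
      obtain rfl : m + 1 = l := hl
      exact hZd
  refine isPseudoCoherent_iff.2 ⟨_, DerivedCategory.Q.map f ≫ e.hom, isBddFree_single m k, ?_⟩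
  refine Approx.comp ((Approx.iff_cone m _
    (DerivedCategory.mappingCone_triangle_distinguished f)).2 fun i hi =>
      isZero_Hn_of_homology ?_) (Approx.of_isIso _ _)
  rcases hi.eq_or_lt with rfl | hi
  swap
  · refine (exactAt_iff_isZero_homology _ i).mp (ShortComplex.exact_of_isZero_X₂ _ ?_)
    exact IsZero.of_iso (biprod_isZero_iff _ _ |>.mpr
      ⟨isZero_single_obj_X _ m _ (i + 1) (by omega), hPb i hi⟩)
      (HomologicalComplex.homotopyCofiber.XIsoBiprod f i (i + 1) rfl)
  rw [KFlatLib.isZero_homology_iff_exists _ (m - 1) m (m + 1) (by omega) rfl]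
  intro z _
  have hzero := isZero_single_obj_X (ComplexShape.up ℤ) m (ModuleCat.of R (Fin k → R)) (m + 1)
    (by omega)
  let p : P.X m := ((CochainComplex.mappingCone.snd f).v m m (add_zero m)).hom z
  have hz' : z = ((CochainComplex.mappingCone.inr f).f m).hom p := by
    have h := congr($(CochainComplex.mappingCone.id_X f m (m + 1) rfl).hom z)
    refine (h.symm.trans ?_)
    have h0 : (CochainComplex.mappingCone.fst f).1.v m (m + 1) rfl = 0 := hzero.eq_of_tgt _ _
    rw [h0, zero_comp, zero_add]
    rfl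
  have hdp : (P.d m (m + 1)).hom p = 0 := by
    have := ModuleCat.subsingleton_of_isZero (hPb (m + 1) (by omega))
    exact Subsingleton.elim _ _
  obtain ⟨c, y, hy⟩ := hZ p hdp
  have e1 : (CochainComplex.mappingCone.inl f).v m (m - 1) (by omega) ≫
      (mappingCone f).d (m - 1) m = f.f m ≫ (CochainComplex.mappingCone.inr f).f m := by
    rw [CochainComplex.mappingCone.inl_v_d f m (m - 1) (m + 1) (by omega) (by omega), single_obj_d,
      zero_comp, sub_zero]
  have e2 : (CochainComplex.mappingCone.inr f).f (m - 1) ≫ (mappingCone f).d (m - 1) m =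
      P.d (m - 1) m ≫ (CochainComplex.mappingCone.inr f).f m :=
    (CochainComplex.mappingCone.inr f).comm (m - 1) m
  let x : ↥(((single (ModuleCat.{u} R) (ComplexShape.up ℤ) m).obj
      (ModuleCat.of R (Fin k → R))).X m) :=
    (singleObjXSelf (ComplexShape.up ℤ) m (ModuleCat.of R (Fin k → R))).inv.hom c
  have hx : (f.f m).hom x = Z.hom c := by
    have h := mkHomFromSingle_f (K := P) Z (fun l hl => by
      obtain rfl : m + 1 = l := hl
      exact hZd)
    have h' : (singleObjXSelf (ComplexShape.up ℤ) m (ModuleCat.of R (Fin k → R))).inv ≫ f.f m = Z := by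
      rw [h, Iso.inv_hom_id_assoc]
    exact congr($(h').hom c)
  refine ⟨((CochainComplex.mappingCone.inl f).v m (m - 1) (by omega)).hom x +
    ((CochainComplex.mappingCone.inr f).f (m - 1)).hom y, ?_⟩
  change ((mappingCone f).d (m - 1) m).hom _ = z
  rw [map_add, hz', hy, map_add, ← hx]
  exact congrArg₂ (· + ·) congr($(e1).hom x) congr($(e2).hom y)

theorem isPseudoCoherent_of_isZero {K : Dual.D R} {m : ℤ}
    (hz : ∀ i, m ≤ i → IsZero ((Hn R i).obj K)) : DRing.IsPseudoCoherent R m K :=
  isPseudoCoherent_of_finite_top (fun i hi => hz i hi.le) (finite_of_isZero (hz m le_rfl))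

/-- Improving an approximation by one degree. -/
theorem isPseudoCoherent_of_cone {E : CochainComplex (ModuleCat.{u} R) ℤ} (hE : IsBddFree E)
    (T : Triangle (DerivedCategory (ModuleCat.{u} R)))
    (hT : T ∈ Pretriangulated.distinguishedTriangles) (e : DerivedCategory.Q.obj E ≅ T.obj₁) {n : ℤ}
    (hz : ∀ i, n < i → IsZero ((Hn R i).obj T.obj₃))
    (hfin : Module.Finite R ((Hn R n).obj T.obj₃)) : DRing.IsPseudoCoherent R n T.obj₂ :=
  isPseudoCoherent_obj₂ T hT n (isPseudoCoherent_of_iso e (isPseudoCoherent_bddFree hE n))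
    (isPseudoCoherent_of_finite_top hz hfin)

theorem isPseudoCoherent_step {K : Dual.D R} {n : ℤ} (h : DRing.IsPseudoCoherent R (n + 1) K)
    (hfin : ∀ (E : CochainComplex (ModuleCat.{u} R) ℤ) (T : Triangle (DerivedCategory (ModuleCat.{u} R))),
      IsBddFree E → T ∈ Pretriangulated.distinguishedTriangles → T.obj₁ = DerivedCategory.Q.obj E →
        T.obj₂ = K → Approx (n + 1) T.mor₁ → Module.Finite R ((Hn R n).obj T.obj₃)) :
    DRing.IsPseudoCoherent R n K := by
  obtain ⟨E, α, hE, hα⟩ := isPseudoCoherent_iff.1 h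
  obtain ⟨C, p, q, hC⟩ := Pretriangulated.distinguished_cocone_triangle α
  exact isPseudoCoherent_of_cone hE _ hC (Iso.refl _)
    (fun i hi => (Approx.iff_cone (n + 1) _ hC).1 hα i (by omega))
    (hfin E _ hE hC rfl rfl hα)

/-- The cohomology of the cone is an extension. -/
theorem finite_Hn_obj₃ (T : Triangle (DerivedCategory (ModuleCat.{u} R)))
    (hT : T ∈ Pretriangulated.distinguishedTriangles) (n : ℤ)
    (h₂ : Module.Finite R ((Hn R n).obj T.obj₂))
    (h₁ : (LinearMap.ker ((Hn R (n + 1)).map T.mor₁).hom).FG) :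
    Module.Finite R ((Hn R n).obj T.obj₃) := by
  have hA := (ShortComplex.ShortExact.moduleCat_exact_iff_function_exact _).mp
    (DerivedCategory.HomologySequence.exact₃ T hT n (n + 1) rfl)
  have hB := (ShortComplex.ShortExact.moduleCat_exact_iff_function_exact _).mp
    (DerivedCategory.HomologySequence.exact₁ T hT n (n + 1) rfl)
  refine ⟨Submodule.fg_of_fg_map_of_fg_inf_ker
    (DerivedCategory.HomologySequence.δ T n (n + 1) rfl).hom ?_ ?_⟩
  · rw [← LinearMap.range_eq_map, ← hB.linearMap_ker_eq]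
    exact h₁
  · rw [top_inf_eq, hA.linearMap_ker_eq, LinearMap.range_eq_map]
    exact Submodule.FG.map _ Module.Finite.fg_top

/-- A summand of an `m`-pseudo-coherent object is `m`-pseudo-coherent. -/
theorem isPseudoCoherent_of_biprod {m : ℤ} {K L : Dual.D R} [HasBinaryBiproduct K L]
    (h : DRing.IsPseudoCoherent R m (K ⊞ L)) :
    DRing.IsPseudoCoherent R m K ∧ DRing.IsPseudoCoherent R m L := by
  obtain ⟨E, α, hE, hα⟩ := isPseudoCoherent_iff.1 h
  obtain ⟨b, hb⟩ := hE.bddAbove
  have hzM : ∀ i, max b m < i → IsZero ((Hn R i).obj (K ⊞ L)) := fun i hi => by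
    have := hα.1 i (by omega)
    exact (isZero_Hn_Q E i (hb i (by omega))).of_iso (asIso ((Hn R i).map α)).symm
  suffices ∀ (k : ℕ), DRing.IsPseudoCoherent R (max (max b m + 1 - k) m) K ∧
      DRing.IsPseudoCoherent R (max (max b m + 1 - k) m) L by
    have := this (max b m + 1 - m).toNat
    rwa [max_eq_right (by have := Int.self_le_toNat (max b m + 1 - m); omega)] at this
  intro k
  induction k with
  | zero =>
    refine ⟨isPseudoCoherent_of_isZero fun i hi => ?_, isPseudoCoherent_of_isZero fun i hi => ?_⟩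
    · have h0 := hzM i (by omega)
      rw [IsZero.iff_id_eq_zero] at h0 ⊢
      rw [← (Hn R i).map_id, ← biprod.inl_fst (X := K) (Y := L), Functor.map_comp,
        ← Category.comp_id ((Hn R i).map biprod.inl), h0, comp_zero, zero_comp]
    · have h0 := hzM i (by omega)
      rw [IsZero.iff_id_eq_zero] at h0 ⊢
      rw [← (Hn R i).map_id, ← biprod.inr_snd (X := K) (Y := L), Functor.map_comp,
        ← Category.comp_id ((Hn R i).map biprod.inr), h0, comp_zero, zero_comp]
  | succ k ih =>
    rcases le_or_gt (max b m + 1 - k) m with hk | hk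
    · rwa [max_eq_right (by push_cast; omega), ← max_eq_right hk]
    obtain ⟨n, hn, hn'⟩ : ∃ n, max (max b m + 1 - k) m = n + 1 ∧
        max (max b m + 1 - (k + 1 : ℕ)) m = n := ⟨_, by push_cast; omega, rfl⟩
    rw [hn] at ih
    rw [hn']
    have hmn : m ≤ n := by omega
    obtain ⟨E₁, α₁, hE₁, hα₁⟩ := isPseudoCoherent_iff.1 ih.1
    obtain ⟨E₂, α₂, hE₂, hα₂⟩ := isPseudoCoherent_iff.1 ih.2
    let γ : DerivedCategory.Q.obj E₁ ⊞ DerivedCategory.Q.obj E₂ ⟶ K ⊞ L := biprod.map α₁ α₂
    have hE₁₂ : DRing.IsPseudoCoherent R (n + 1)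
        (DerivedCategory.Q.obj E₁ ⊞ DerivedCategory.Q.obj E₂) :=
      isPseudoCoherent_obj₂ _ (Pretriangulated.binaryBiproductTriangle_distinguished _ _) (n + 1)
        (isPseudoCoherent_bddFree hE₁ _) (isPseudoCoherent_bddFree hE₂ _)
    have hepi : ∀ i, Epi ((Hn R i).map α₁) → Epi ((Hn R i).map α₂) → Epi ((Hn R i).map γ) := by
      intro i _ _
      refine Preadditive.epi_of_cancel_zero _ fun g hg => ?_
      have e₁ : (Hn R i).map biprod.inl ≫ g = 0 := zero_of_epi_comp ((Hn R i).map α₁) (by
        rw [← Category.assoc, ← Functor.map_comp, ← biprod.inl_map α₁ α₂, Functor.map_comp,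
          Category.assoc]
        exact (congrArg (_ ≫ ·) hg).trans comp_zero)
      have e₂ : (Hn R i).map biprod.inr ≫ g = 0 := zero_of_epi_comp ((Hn R i).map α₂) (by
        rw [← Category.assoc, ← Functor.map_comp, ← biprod.inr_map α₁ α₂, Functor.map_comp,
          Category.assoc]
        exact (congrArg (_ ≫ ·) hg).trans comp_zero)
      rw [← Category.id_comp g, ← (Hn R i).map_id, ← biprod.total, Functor.map_add,
        Preadditive.add_comp, Functor.map_comp, Functor.map_comp, Category.assoc, Category.assoc,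
        e₁, e₂, comp_zero, comp_zero, add_zero]
    have hmono : ∀ i, Mono ((Hn R i).map α₁) → Mono ((Hn R i).map α₂) → Mono ((Hn R i).map γ) := by
      intro i _ _
      refine Preadditive.mono_of_cancel_zero _ fun g hg => ?_
      have e₁ : g ≫ (Hn R i).map biprod.fst = 0 := zero_of_comp_mono ((Hn R i).map α₁) (by
        rw [Category.assoc, ← Functor.map_comp, ← biprod.map_fst α₁ α₂, Functor.map_comp,
          ← Category.assoc]
        exact (congrArg (· ≫ _) hg).trans zero_comp)
      have e₂ : g ≫ (Hn R i).map biprod.snd = 0 := zero_of_comp_mono ((Hn R i).map α₂) (by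
        rw [Category.assoc, ← Functor.map_comp, ← biprod.map_snd α₁ α₂, Functor.map_comp,
          ← Category.assoc]
        exact (congrArg (· ≫ _) hg).trans zero_comp)
      rw [← Category.comp_id g, ← (Hn R i).map_id, ← biprod.total, Functor.map_add,
        Preadditive.comp_add, Functor.map_comp, Functor.map_comp, ← Category.assoc, ← Category.assoc,
        e₁, e₂, zero_comp, zero_comp, add_zero]
    have hγ : Approx (n + 1) γ := by
      refine ⟨fun i hi => ?_, hepi _ hα₁.2 hα₂.2⟩
      have := hα₁.1 i hi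
      have := hα₂.1 i hi
      have := hepi i inferInstance inferInstance
      have := hmono i inferInstance inferInstance
      exact isIso_of_mono_of_epi _
    obtain ⟨C, p, q, hC⟩ := Pretriangulated.distinguished_cocone_triangle γ
    have hzC := (Approx.iff_cone (n + 1) _ hC).1 hγ
    have hCfin : Module.Finite R ((Hn R n).obj C) :=
      finite_of_isPseudoCoherent
        (isPseudoCoherent_obj₃ _ hC n hE₁₂ (isPseudoCoherent_mono hmn h))
        fun i hi => hzC i (by omega)
    have key : ∀ (E' : CochainComplex (ModuleCat.{u} R) ℤ) (N : Dual.D R)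
        (β : DerivedCategory.Q.obj E' ⟶ N)
        (a : DerivedCategory.Q.obj E₁ ⊞ DerivedCategory.Q.obj E₂ ⟶ DerivedCategory.Q.obj E')
        (a' : DerivedCategory.Q.obj E' ⟶ DerivedCategory.Q.obj E₁ ⊞ DerivedCategory.Q.obj E₂)
        (c : K ⊞ L ⟶ N) (c' : N ⟶ K ⊞ L), IsBddFree E' → Approx (n + 1) β → a' ≫ a = 𝟙 _ →
          c' ≫ c = 𝟙 _ → γ ≫ c = a ≫ β → β ≫ c' = a' ≫ γ → DRing.IsPseudoCoherent R n N := by
      intro E' N β a a' c c' hE' hβ haa hcc hγc hβc
      obtain ⟨C', p', q', hC'⟩ := Pretriangulated.distinguished_cocone_triangle β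
      obtain ⟨d, hd1, hd2⟩ : ∃ d : C ⟶ C', p ≫ d = c ≫ p' ∧ q ≫ a⟦(1 : ℤ)⟧' = d ≫ q' :=
        Pretriangulated.complete_distinguished_triangle_morphism _ _ hC hC' a c hγc
      obtain ⟨d', hd1', hd2'⟩ : ∃ d' : C' ⟶ C, p' ≫ d' = c' ≫ p ∧ q' ≫ a'⟦(1 : ℤ)⟧' = d' ≫ q :=
        Pretriangulated.complete_distinguished_triangle_morphism _ _ hC' hC a' c' hβc
      let φ : Triangle.mk β p' q' ⟶ Triangle.mk β p' q' :=
        { hom₁ := 𝟙 _
          hom₂ := 𝟙 _
          hom₃ := d' ≫ d
          comm₁ := (Category.comp_id _).trans (Category.id_comp _).symm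
          comm₂ := by
            change p' ≫ d' ≫ d = 𝟙 _ ≫ p'
            rw [← Category.assoc, hd1', Category.assoc, hd1, ← Category.assoc, hcc]
          comm₃ := by
            change q' ≫ (𝟙 _)⟦(1 : ℤ)⟧' = (d' ≫ d) ≫ q'
            rw [Category.assoc, ← hd2, ← Category.assoc, ← hd2', Category.assoc, ← Functor.map_comp,
              haa] }
      have : IsIso (d' ≫ d) := Pretriangulated.isIso₃_of_isIso₁₂ φ hC' hC'
        (inferInstanceAs (IsIso (𝟙 _))) (inferInstanceAs (IsIso (𝟙 _)))
      have hepi : Epi ((Hn R n).map d) := by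
        have : Epi ((Hn R n).map d' ≫ (Hn R n).map d) := by
          rw [← Functor.map_comp]
          infer_instance
        exact epi_of_epi ((Hn R n).map d') _
      have hC'fin : Module.Finite R ((Hn R n).obj C') :=
        Module.Finite.of_surjective ((Hn R n).map d).hom ((ModuleCat.epi_iff_surjective _).1 hepi)
      exact isPseudoCoherent_of_cone hE' _ hC' (Iso.refl _)
        (fun i hi => (Approx.iff_cone (n + 1) _ hC').1 hβ i (by omega)) hC'fin
    exact ⟨key E₁ K α₁ biprod.fst biprod.inl biprod.fst biprod.inl hE₁ hα₁ biprod.inl_fst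
        biprod.inl_fst (biprod.map_fst _ _) (biprod.inl_map _ _).symm,
      key E₂ L α₂ biprod.snd biprod.inr biprod.snd biprod.inr hE₂ hα₂ biprod.inr_snd
        biprod.inr_snd (biprod.map_snd _ _) (biprod.inr_map _ _).symm⟩

/-- Finitely presented cohomology in degree `m + 1`, finite in degree `m`, none above. -/
theorem isPseudoCoherent_of_finitePresentation {K : Dual.D R} {m : ℤ}
    (hz : ∀ i, m + 1 < i → IsZero ((Hn R i).obj K))
    (hfp : Module.FinitePresentation R ((Hn R (m + 1)).obj K))
    (hfin : Module.Finite R ((Hn R m).obj K)) : DRing.IsPseudoCoherent R m K := by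
  refine isPseudoCoherent_step (isPseudoCoherent_of_finite_top hz inferInstance) ?_
  intro E T hE hT h₁ h₂ hα
  subst h₂
  refine finite_Hn_obj₃ T hT m hfin ?_
  obtain ⟨b, hb⟩ := hE.bddAbove
  have hex : ∀ i, m + 1 < i → IsZero (E.homology i) := fun i hi => by
    have := hα.1 i hi
    refine isZero_homology_of_Hn ?_
    rw [← h₁]
    exact (hz i hi).of_iso (asIso ((Hn R i).map T.mor₁))
  have hE' : ∀ i, Module.Finite R (E.X i) ∧ Module.Projective R (E.X i) := fun i => by
    obtain ⟨a, b', -, hf⟩ := hE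
    have := (hf i).2
    exact ⟨(hf i).1, inferInstance⟩
  have : Module.Finite R ((Hn R (m + 1)).obj T.obj₁) := by
    rw [h₁]
    exact finite_Hn_Q (homology_finite_of_cycles E (m + 1)
      (finite_projective_cycles E b hb hE' (m + 1) hex).1)
  exact Module.FinitePresentation.fg_ker _ ((ModuleCat.epi_iff_surjective _).1 hα.2)

/-- Over a Noetherian ring finite cohomology in degrees `≥ m` gives `m`-pseudo-coherence. -/
theorem isPseudoCoherent_of_finite_noetherian [IsNoetherianRing R] {K : Dual.D R} {m b : ℤ}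
    (hz : ∀ i, b < i → IsZero ((Hn R i).obj K))
    (hfin : ∀ i, m ≤ i → Module.Finite R ((Hn R i).obj K)) : DRing.IsPseudoCoherent R m K := by
  suffices ∀ (k : ℕ), DRing.IsPseudoCoherent R (max (b + 1 - k) m) K by
    have := this (b + 1 - m).toNat
    rwa [max_eq_right (by have := Int.self_le_toNat (b + 1 - m); omega)] at this
  intro k
  induction k with
  | zero => exact isPseudoCoherent_of_isZero fun i hi => hz i (by omega)
  | succ k ih =>
    rcases le_or_gt (b + 1 - k) m with hk | hk
    · rwa [max_eq_right (by push_cast; omega), ← max_eq_right hk]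
    obtain ⟨n, hn, hn'⟩ : ∃ n, max (b + 1 - k) m = n + 1 ∧ max (b + 1 - (k + 1 : ℕ)) m = n :=
      ⟨_, by push_cast; omega, rfl⟩
    rw [hn] at ih
    rw [hn']
    refine isPseudoCoherent_step ih ?_
    intro E T hE hT h₁ h₂ hα
    subst h₂
    refine finite_Hn_obj₃ T hT n (hfin n (by omega)) ?_
    have hEX : Module.Finite R (E.X (n + 1)) := by
      obtain ⟨a, b', -, hf⟩ := hE
      exact (hf _).1
    have : Module.Finite R ((Hn R (n + 1)).obj T.obj₁) := by
      rw [h₁]
      exact finite_Hn_Q (homology_finite_of_cycles E (n + 1) inferInstance)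
    exact IsNoetherian.noetherian _

/-- `H^0(M[0]) ≅ M`. -/
noncomputable def inDEquiv (M : Type u) [AddCommGroup M] [Module R M] :
    ((Hn R 0).obj (Dual.inD R M) : Type u) ≃ₗ[R] M :=
  ((DerivedCategory.singleFunctorCompHomologyFunctorIso (ModuleCat.{u} R) 0).app
    (ModuleCat.of R M)).toLinearEquiv

theorem isZero_Hn_inD (M : Type u) [AddCommGroup M] [Module R M] {i : ℤ} (hi : i ≠ 0) :
    IsZero ((Hn R i).obj (Dual.inD R M)) := by
  rcases lt_or_gt_of_ne hi with h | h
  · exact DerivedCategory.isZero_of_isGE _ 0 i h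
  · exact DerivedCategory.isZero_of_isLE _ 0 i h

end Groth.Agent.DRingLib
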