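import Groth.Agent.DRingLib.AmplitudeTri

/-!
# Devissage: properties of bounded objects from terms or cohomology modules
-/

set_option autoImplicit false

universe u

open CategoryTheory CategoryTheory.Limits HomologicalComplex
open CategoryTheory.Pretriangulated (Triangle)

attribute [local instance] HasDerivedCategory.standard

namespace Groth.Agent.DRingLib

open ZeroObject

variable {R : Type u} [CommRing R]

/-- A property of objects of `D(R)` stable under isomorphisms and extensions, true for zero. -/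
structure Devissable (P : DerivedCategory (ModuleCat.{u} R) → Prop) : Prop where
  iso : ∀ {X Y : DerivedCategory (ModuleCat.{u} R)}, (X ≅ Y) → P X → P Y
  zero : ∀ {X : DerivedCategory (ModuleCat.{u} R)}, IsZero X → P X
  ext : ∀ T : Triangle (DerivedCategory (ModuleCat.{u} R)),
    T ∈ Pretriangulated.distinguishedTriangles → P T.obj₁ → P T.obj₃ → P T.obj₂

theorem isZero_of_isZero_Hn {X : DerivedCategory (ModuleCat.{u} R)}
    (h : ∀ i, IsZero ((Hn R i).obj X)) : IsZero X := by
  have : IsIso (0 : X ⟶ 0) := by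
    rw [DerivedCategory.isIso_iff]
    exact fun n => ⟨0, (h n).eq_of_src _ _, ((Hn R n).map_isZero (isZero_zero _)).eq_of_src _ _⟩
  exact (isZero_zero _).of_iso (asIso (0 : X ⟶ 0))

variable {P : DerivedCategory (ModuleCat.{u} R) → Prop}

theorem Devissable.of_terms (hP : Devissable P) (c : ℤ) :
    ∀ (k : ℕ) (K : CochainComplex (ModuleCat.{u} R) ℤ),
      (∀ i, (i < c ∨ c + k ≤ i) → IsZero (K.X i)) →
      (∀ i, P ((DerivedCategory.singleFunctor (ModuleCat.{u} R) i).obj (K.X i))) →
        P (DerivedCategory.Q.obj K) := by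
  intro k
  induction k with
  | zero =>
    exact fun K hK _ => hP.zero (isZero_of_isZero_Hn fun i => isZero_Hn_Q K i (hK i (by omega)))
  | succ k ih =>
    intro K hK h
    obtain ⟨b, hb⟩ : ∃ b, b = c + k := ⟨_, rfl⟩
    let A := (single (ModuleCat.{u} R) (ComplexShape.up ℤ) b).obj (K.X b)
    let ι : A ⟶ K := mkHomFromSingle (𝟙 (K.X b)) fun l hl => by
      obtain rfl : b + 1 = l := hl
      exact (hK (b + 1) (Or.inr (by push_cast; omega))).eq_of_tgt _ _
    have hι : IsIso (ι.f b) := by
      rw [show ι.f b = (singleObjXSelf (ComplexShape.up ℤ) b (K.X b)).hom ≫ 𝟙 _ from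
        mkHomFromSingle_f _ _, Category.comp_id]
      infer_instance
    have hmono : Mono ι := by
      refine mono_of_mono_f ι fun i => ?_
      by_cases h : i = b
      · subst h
        infer_instance
      · exact ⟨fun _ _ _ => (isZero_single_obj_X _ b _ i h).eq_of_tgt _ _⟩
    let S : ShortComplex (CochainComplex (ModuleCat.{u} R) ℤ) :=
      ShortComplex.mk ι (cokernel.π ι) (cokernel.condition ι)
    have hS : S.ShortExact :=
      { exact := ShortComplex.exact_of_g_is_cokernel _ (cokernelIsCokernel ι) }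
    have hdeg := (shortExact_iff_degreewise_shortExact S).mp hS
    have hC : ∀ i, i = b → IsZero (S.X₃.X i) := by
      rintro i rfl
      exact (hdeg i).isIso_f_iff.1 hι
    have hC' : ∀ i, i ≠ b → IsIso ((cokernel.π ι).f i) := fun i hi =>
      (hdeg i).isIso_g_iff.2 (isZero_single_obj_X (ComplexShape.up ℤ) b (K.X b) i hi)
    refine hP.ext _ (DerivedCategory.triangleOfSES_distinguished hS)
      (hP.iso ((DerivedCategory.singleFunctorIsoCompQ (ModuleCat.{u} R) b).app (K.X b)) (h b))
      (ih _ ?_ ?_)
    · intro i hi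
      by_cases h : i = b
      · exact hC i h
      · have := hC' i h
        exact (hK i (by push_cast; omega)).of_iso (asIso ((cokernel.π ι).f i)).symm
    · intro i
      by_cases hi : i = b
      · exact hP.zero ((DerivedCategory.singleFunctor (ModuleCat.{u} R) i).map_isZero (hC i hi))
      · have := hC' i hi
        exact hP.iso ((DerivedCategory.singleFunctor (ModuleCat.{u} R) i).mapIso
          (asIso ((cokernel.π ι).f i))) (h i)

theorem Devissable.of_homology (hP : Devissable P) (c : ℤ) :
    ∀ (k : ℕ) (K : DerivedCategory (ModuleCat.{u} R)),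
      (∀ i, (i < c ∨ c + k ≤ i) → IsZero ((Hn R i).obj K)) →
      (∀ i, P ((DerivedCategory.singleFunctor (ModuleCat.{u} R) i).obj ((Hn R i).obj K))) →
        P K := by
  intro k
  induction k with
  | zero => exact fun K hK _ => hP.zero (isZero_of_isZero_Hn fun i => hK i (by omega))
  | succ k ih =>
    intro K hK h
    obtain ⟨b, hb⟩ : ∃ b, b = c + k := ⟨_, rfl⟩
    obtain ⟨X, Y, hX, hY, f, g, d, hT⟩ :=
      DerivedCategory.TStructure.t.exists_triangle K (b - 1) b (by omega)
    have : X.IsLE (b - 1) := ⟨hX⟩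
    have : Y.IsGE b := ⟨hY⟩
    let T : Triangle (DerivedCategory (ModuleCat.{u} R)) := Triangle.mk f g d
    have hX0 : ∀ i, b ≤ i → IsZero ((Hn R i).obj X) := fun i hi =>
      DerivedCategory.isZero_of_isLE X (b - 1) i (by omega)
    have hY0 : ∀ i, i < b → IsZero ((Hn R i).obj Y) := fun i hi =>
      DerivedCategory.isZero_of_isGE Y b i hi
    have hf : ∀ i, i < b → IsIso ((Hn R i).map f) := fun i hi => by
      have := (DerivedCategory.HomologySequence.mono_homologyMap_mor₁_iff T hT (i - 1) i
        (by omega)).mpr ((hY0 (i - 1) (by omega)).eq_of_src _ _)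
      have := (DerivedCategory.HomologySequence.epi_homologyMap_mor₁_iff T hT i).mpr
        ((hY0 i hi).eq_of_tgt _ _)
      exact isIso_of_mono_of_epi ((Hn R i).map T.mor₁)
    have hg : ∀ i, b ≤ i → IsIso ((Hn R i).map g) := fun i hi => by
      have := (DerivedCategory.HomologySequence.exact₂ T hT i).mono_g
        ((hX0 i hi).eq_of_src _ _)
      have := (DerivedCategory.HomologySequence.exact₃ T hT i (i + 1) rfl).epi_f
        ((hX0 (i + 1) (by omega)).eq_of_tgt _ _)
      exact isIso_of_mono_of_epi ((Hn R i).map T.mor₂)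
    have : Y.IsLE b := (DerivedCategory.isLE_iff Y b).mpr fun i hi => by
      have := hg i hi.le
      exact (hK i (by push_cast; omega)).of_iso (asIso ((Hn R i).map g)).symm
    obtain ⟨N, ⟨eN⟩⟩ := DerivedCategory.exists_iso_singleFunctor_obj_of_isGE_of_isLE Y b
    refine hP.ext T hT (ih X ?_ ?_) ?_
    · intro i hi
      by_cases hib : b ≤ i
      · exact hX0 i hib
      · have := hf i (by omega)
        exact (hK i (by omega)).of_iso (asIso ((Hn R i).map f))
    · intro i
      rcases lt_or_ge i b with hi | hi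
      · have := hf i hi
        exact hP.iso ((DerivedCategory.singleFunctor (ModuleCat.{u} R) i).mapIso
          (asIso ((Hn R i).map f)).symm) (h i)
      · exact hP.zero ((DerivedCategory.singleFunctor (ModuleCat.{u} R) i).map_isZero (hX0 i hi))
    · have := hg b le_rfl
      let e : (Hn R b).obj K ≅ N := asIso ((Hn R b).map g) ≪≫ (Hn R b).mapIso eN ≪≫
        (DerivedCategory.singleFunctorCompHomologyFunctorIso (ModuleCat.{u} R) b).app N
      exact hP.iso ((DerivedCategory.singleFunctor (ModuleCat.{u} R) b).mapIso e ≪≫ eN.symm) (h b)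

/-- Shifting `M[0]` to degree `i`. -/
noncomputable def singleShiftIso (N : ModuleCat.{u} R) (i : ℤ) :
    (Dual.inD R N)⟦-i⟧ ≅ (DerivedCategory.singleFunctor (ModuleCat.{u} R) i).obj N :=
  ((DerivedCategory.singleFunctors (ModuleCat.{u} R)).shiftIso (-i) i 0 (neg_add_cancel i)).app N

theorem hasTorAmplitudeIn_of_isZero {K : Dual.D R} (hK : IsZero K) (a c : ℤ) :
    DRing.HasTorAmplitudeIn R a c K := by
  have hz : ∀ i, IsZero ((0 : CochainComplex (ModuleCat.{u} R) ℤ).X i) := fun i =>
    (HomologicalComplex.eval (ModuleCat.{u} R) (ComplexShape.up ℤ) i).map_isZero (isZero_zero _)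
  refine ⟨0, fun i _ => hz i, fun i => ?_,
    ⟨(DerivedCategory.Q.map_isZero (isZero_zero _)).iso hK⟩⟩
  have := free_of_isZero (hz i)
  infer_instance

theorem isPerfect_of_iso {K L : Dual.D R} (e : K ≅ L) (h : DRing.IsPerfect R K) :
    DRing.IsPerfect R L := by
  obtain ⟨E, a, b, h₁, h₂, ⟨e'⟩⟩ := h
  exact ⟨E, a, b, h₁, h₂, ⟨e' ≪≫ e⟩⟩

theorem isPerfect_of_isZero {K : Dual.D R} (hK : IsZero K) : DRing.IsPerfect R K :=
  isPerfect_iff.mpr ⟨fun _ => isPseudoCoherent_of_isZero fun i _ => (Hn R i).map_isZero hK,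
    0, 0, hasTorAmplitudeIn_of_isZero hK 0 0⟩

theorem isPerfect_shift {K : Dual.D R} (h : DRing.IsPerfect R K) (n : ℤ) :
    DRing.IsPerfect R (K⟦n⟧) := by
  obtain ⟨p, a, c, t⟩ := isPerfect_iff.mp h
  refine isPerfect_iff.mpr ⟨fun m => ?_, a - n, c - n, hasTorAmplitudeIn_shift t n⟩
  have := isPseudoCoherent_shift (p (m + n)) n
  rwa [add_sub_cancel_right] at this

theorem devissable_isPerfect : Devissable (fun K : Dual.D R => DRing.IsPerfect R K) where
  iso e h := isPerfect_of_iso e h
  zero h := isPerfect_of_isZero h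
  ext T hT h₁ h₃ := isPerfect_obj₂ T hT h₁ h₃

theorem devissable_amplitude (a c : ℤ) :
    Devissable (fun K : Dual.D R => DRing.HasTorAmplitudeIn R a c K) where
  iso e h := hasTorAmplitudeIn_of_iso e h
  zero h := hasTorAmplitudeIn_of_isZero h a c
  ext T hT h₁ h₃ := hasTorAmplitudeIn_obj₂ T hT h₁ h₃

theorem isPerfect_singleFunctor {N : ModuleCat.{u} R} (h : DRing.IsPerfectModule R N) (i : ℤ) :
    DRing.IsPerfect R ((DerivedCategory.singleFunctor (ModuleCat.{u} R) i).obj N) :=
  isPerfect_of_iso (singleShiftIso N i) (isPerfect_shift h (-i))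

theorem hasTorAmplitudeIn_singleFunctor {N : ModuleCat.{u} R} {a c i : ℤ}
    (h : DRing.HasTorAmplitudeIn R (a - i) (c - i) (Dual.inD R N)) :
    DRing.HasTorAmplitudeIn R a c ((DerivedCategory.singleFunctor (ModuleCat.{u} R) i).obj N) := by
  have := hasTorAmplitudeIn_shift h (-i)
  rw [sub_neg_eq_add, sub_neg_eq_add, sub_add_cancel, sub_add_cancel] at this
  exact hasTorAmplitudeIn_of_iso (singleShiftIso N i) this

end Groth.Agent.DRingLib
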