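import Groth.Agent.DRingLib.Basic
import Mathlib.CategoryTheory.Triangulated.Triangulated

/-!
# Pseudo-coherent objects of `D(R)`: shifts, triangles, finiteness of the top cohomology
-/

set_option autoImplicit false

universe u

open CategoryTheory CategoryTheory.Limits HomologicalComplex
open CategoryTheory.Pretriangulated (Triangle)
open CochainComplex (mappingCone)

attribute [local instance] HasDerivedCategory.standard

namespace Groth.Agent.DRingLib

variable {R : Type u} [CommRing R]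

/-- A map in `D(R)` is iso on cohomology above `m` and epi at `m`. -/
def Approx (m : ℤ) {X Y : DerivedCategory (ModuleCat.{u} R)} (f : X ⟶ Y) : Prop :=
  (∀ i, m < i → IsIso ((Hn R i).map f)) ∧ Epi ((Hn R m).map f)

theorem Approx.iff_cone (m : ℤ) (T : Triangle (DerivedCategory (ModuleCat.{u} R)))
    (hT : T ∈ Pretriangulated.distinguishedTriangles) :
    Approx m T.mor₁ ↔ ∀ i, m ≤ i → IsZero ((Hn R i).obj T.obj₃) :=
  isoAboveEpiAt_iff T hT m

theorem Approx.comp {m : ℤ} {X Y Z : DerivedCategory (ModuleCat.{u} R)} {f : X ⟶ Y} {g : Y ⟶ Z}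
    (hf : Approx m f) (hg : Approx m g) : Approx m (f ≫ g) := by
  refine ⟨fun i hi => ?_, ?_⟩
  · have := hf.1 i hi
    have := hg.1 i hi
    rw [Functor.map_comp]
    infer_instance
  · have := hf.2
    have := hg.2
    rw [Functor.map_comp]
    infer_instance

theorem Approx.of_isIso (m : ℤ) {X Y : DerivedCategory (ModuleCat.{u} R)} (f : X ⟶ Y) [IsIso f] :
    Approx m f :=
  ⟨fun _ _ => inferInstance, inferInstance⟩

theorem Approx.mono {m m' : ℤ} (h : m ≤ m') {X Y : DerivedCategory (ModuleCat.{u} R)} {f : X ⟶ Y}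
    (hf : Approx m f) : Approx m' f := by
  refine ⟨fun i hi => hf.1 i (by omega), ?_⟩
  rcases h.eq_or_lt with rfl | h
  · exact hf.2
  · have := hf.1 m' h
    infer_instance

/-- A bounded complex of finite free modules. -/
def IsBddFree (E : CochainComplex (ModuleCat.{u} R) ℤ) : Prop :=
  ∃ a b : ℤ, DRing.VanishesOutside E a b ∧ DRing.TermwiseFiniteFree E

theorem isPseudoCoherent_iff {m : ℤ} {K : Dual.D R} :
    DRing.IsPseudoCoherent R m K ↔
      ∃ (E : CochainComplex (ModuleCat.{u} R) ℤ) (α : DerivedCategory.Q.obj E ⟶ K),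
        IsBddFree E ∧ Approx m α :=
  ⟨fun ⟨E, a, b, α, h, hf, hα⟩ => ⟨E, α, ⟨a, b, h, hf⟩, hα⟩,
    fun ⟨E, α, ⟨a, b, h, hf⟩, hα⟩ => ⟨E, a, b, α, h, hf, hα⟩⟩

theorem IsBddFree.bddAbove {E : CochainComplex (ModuleCat.{u} R) ℤ} (h : IsBddFree E) :
    ∃ b, (∀ i, b < i → IsZero (E.X i)) := by
  obtain ⟨a, b, hab, -⟩ := h
  exact ⟨b, fun i hi => hab i (Or.inr hi)⟩

theorem IsBddFree.isKProjective {E : CochainComplex (ModuleCat.{u} R) ℤ} (h : IsBddFree E) :
    E.IsKProjective := by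
  obtain ⟨b, hb⟩ := h.bddAbove
  obtain ⟨a, b', hab, hf⟩ := h
  exact isKProjective_of_free E b hb fun i => (hf i).2

theorem IsBddFree.isKFlat {E : CochainComplex (ModuleCat.{u} R) ℤ} (h : IsBddFree E) :
    DRing.IsKFlat R E := by
  obtain ⟨b, hb⟩ := h.bddAbove
  obtain ⟨a, b', hab, hf⟩ := h
  exact isKFlat_of_free E b hb fun i => (hf i).2

theorem IsBddFree.cone {E F : CochainComplex (ModuleCat.{u} R) ℤ} (hE : IsBddFree E)
    (hF : IsBddFree F) (f : E ⟶ F) : IsBddFree (mappingCone f) := by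
  obtain ⟨a, b, hab, hf⟩ := hE
  obtain ⟨a', b', hab', hf'⟩ := hF
  have hX : ∀ i, (mappingCone f).X i ≅ (E.X (i + 1) ⊞ F.X i : ModuleCat.{u} R) := fun i =>
    HomologicalComplex.homotopyCofiber.XIsoBiprod f i (i + 1) rfl
  refine ⟨min (a - 1) a', max b b', fun i hi => ?_, fun i => ?_⟩
  · refine IsZero.of_iso ?_ (hX i)
    exact biprod_isZero_iff _ _ |>.mpr ⟨hab _ (by omega), hab' _ (by omega)⟩
  · let e : (mappingCone f).X i ≅ ModuleCat.of R (E.X (i + 1) × F.X i) :=
      hX i ≪≫ ModuleCat.biprodIsoProd _ _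
    have := (hf (i + 1)).1
    have := (hf (i + 1)).2
    have := (hf' i).1
    have := (hf' i).2
    exact ⟨Module.Finite.equiv e.toLinearEquiv.symm, Module.Free.of_equiv e.toLinearEquiv.symm⟩

theorem IsBddFree.shift {E : CochainComplex (ModuleCat.{u} R) ℤ} (hE : IsBddFree E) (n : ℤ) :
    IsBddFree (E⟦n⟧) := by
  obtain ⟨a, b, hab, hf⟩ := hE
  exact ⟨a - n, b - n, fun i hi => hab (i + n) (by omega), fun i => hf (i + n)⟩

/-- The brutal truncation keeping degrees `≥ n`. -/
noncomputable abbrev stupid (E : CochainComplex (ModuleCat.{u} R) ℤ) (n : ℤ) :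
    CochainComplex (ModuleCat.{u} R) ℤ :=
  E.stupidTrunc (ComplexShape.embeddingUpIntGE n)

theorem approx_shift {X Y : DerivedCategory (ModuleCat.{u} R)} {f : X ⟶ Y} {m : ℤ}
    (hf : Approx m f) (n : ℤ) : Approx (m - n) (f⟦n⟧') := by
  have h : ∀ i, IsIso ((Hn R (i + n)).map f) → IsIso ((Hn R i).map (f⟦n⟧')) := fun i hi =>
    (NatIso.isIso_map_iff ((DerivedCategory.homologyFunctor (ModuleCat.{u} R) 0).shiftIso n i
      (i + n) (by omega)) f).mpr hi
  refine ⟨fun i hi => h i (hf.1 _ (by omega)), ?_⟩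
  let e := (DerivedCategory.homologyFunctor (ModuleCat.{u} R) 0).shiftIso n (m - n) m (by omega)
  exact ((MorphismProperty.epimorphisms _).arrow_mk_iso_iff
    (Arrow.isoMk (e.app X) (e.app Y) (e.hom.naturality f).symm)).mpr hf.2

/-- Shifts of pseudo-coherent objects. -/
theorem isPseudoCoherent_shift {m : ℤ} {K : Dual.D R} (h : DRing.IsPseudoCoherent R m K) (n : ℤ) :
    DRing.IsPseudoCoherent R (m - n) (K⟦n⟧) := by
  obtain ⟨E, α, hE, hα⟩ := isPseudoCoherent_iff.1 h
  refine isPseudoCoherent_iff.2 ⟨E⟦n⟧, (DerivedCategory.Q.commShiftIso n).hom.app E ≫ α⟦n⟧',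
    hE.shift n, ?_⟩
  exact (Approx.of_isIso _ _).comp (approx_shift hα n)

theorem isPseudoCoherent_of_iso {m : ℤ} {K K' : Dual.D R} (e : K ≅ K')
    (h : DRing.IsPseudoCoherent R m K) : DRing.IsPseudoCoherent R m K' := by
  obtain ⟨E, α, hE, hα⟩ := isPseudoCoherent_iff.1 h
  exact isPseudoCoherent_iff.2 ⟨E, α ≫ e.hom, hE, hα.comp (Approx.of_isIso _ _)⟩

/-- Morphisms from complexes in degrees `≥ m` to objects with cohomology in degrees `< m` vanish. -/
theorem hom_eq_zero {E : CochainComplex (ModuleCat.{u} R) ℤ} [E.IsKProjective] (m : ℤ)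
    (hE : ∀ i, i < m → IsZero (E.X i)) {C : DerivedCategory (ModuleCat.{u} R)}
    (hC : ∀ i, m ≤ i → IsZero ((Hn R i).obj C)) (g : DerivedCategory.Q.obj E ⟶ C) : g = 0 := by
  have : C.IsLE (m - 1) := (DerivedCategory.isLE_iff C (m - 1)).mpr fun i hi => hC i (by omega)
  obtain ⟨P, hP, ⟨e⟩⟩ := DerivedCategory.exists_iso_Q_obj_of_isLE C (m - 1)
  obtain ⟨f, hf⟩ := Q_map_surjective E P (g ≫ e.hom)
  have : f = 0 := by
    ext i : 1
    rcases lt_or_ge i m with h | h
    · exact (hE i h).eq_of_src _ _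
    · exact (P.isZero_of_isStrictlyLE (m - 1) i (by omega)).eq_of_tgt _ _
  rw [this, Functor.map_zero] at hf
  exact zero_of_comp_mono e.hom hf.symm

theorem exists_trunc {E : CochainComplex (ModuleCat.{u} R) ℤ} (hE : IsBddFree E) (n : ℤ) :
    ∃ (E' : CochainComplex (ModuleCat.{u} R) ℤ) (ι : E' ⟶ E), IsBddFree E' ∧
      (∀ i, i < n → IsZero (E'.X i)) ∧ Approx n (DerivedCategory.Q.map ι) := by
  classical
  obtain ⟨a, b, hab, hf⟩ := hE
  let Z : ModuleCat.{u} R := ModuleCat.of R PUnit.{u + 1}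
  have hZ : IsZero Z := ModuleCat.isZero_of_subsingleton _
  let E' : CochainComplex (ModuleCat.{u} R) ℤ :=
    { X := fun i => if n ≤ i then E.X i else Z
      d := fun i j => if h : n ≤ i ∧ n ≤ j then
          eqToHom (if_pos h.1) ≫ E.d i j ≫ eqToHom (if_pos h.2).symm else 0
      shape := fun i j hij => by
        split
        · rw [E.shape i j hij, zero_comp, comp_zero]
        · rfl
      d_comp_d' := fun i j k _ _ => by
        by_cases hi : n ≤ i ∧ n ≤ j
        · by_cases hj : n ≤ j ∧ n ≤ k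
          · rw [dif_pos hi, dif_pos hj]
            simp
          · rw [dif_neg hj, comp_zero]
        · rw [dif_neg hi, zero_comp] }
  let ι : E' ⟶ E :=
    { f := fun i => if h : n ≤ i then eqToHom (if_pos h) else 0
      comm' := fun i j hij => by
        have hij' : i + 1 = j := hij
        change _ = (if h : n ≤ i ∧ n ≤ j then _ else 0) ≫ _
        by_cases hi : n ≤ i
        · rw [dif_pos hi, dif_pos ⟨hi, by omega⟩, dif_pos (show n ≤ j by omega)]
          simp
        · rw [dif_neg hi, dif_neg (fun h => hi h.1), zero_comp, zero_comp] }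
  have hX : ∀ i, n ≤ i → IsIso (ι.f i) := fun i hi => by
    have : ι.f i = eqToHom (if_pos hi) := dif_pos hi
    rw [this]
    infer_instance
  have hz : ∀ i, i < n → IsZero (E'.X i) := fun i hi => by
    have : E'.X i = Z := if_neg (by omega)
    rw [this]
    exact hZ
  refine ⟨E', ι, ⟨a, b, fun i hi => ?_, fun i => ?_⟩, hz, fun i hi => ?_, ?_⟩
  · by_cases h : n ≤ i
    · have := hX i h
      exact IsZero.of_iso (hab i hi) (asIso (ι.f i))
    · exact hz i (by omega)
  · by_cases h : n ≤ i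
    · have := hX i h
      have := (hf i).1
      have := (hf i).2
      exact ⟨Module.Finite.equiv (asIso (ι.f i)).toLinearEquiv.symm,
        Module.Free.of_equiv (asIso (ι.f i)).toLinearEquiv.symm⟩
    · exact ⟨finite_of_isZero (hz i (by omega)), free_of_isZero (hz i (by omega))⟩
  · refine (NatIso.isIso_map_iff (DerivedCategory.homologyFunctorFactors (ModuleCat.{u} R) i) ι).mpr
      ?_
    have := hX (i - 1) (by omega)
    have := hX i (by omega)
    have := hX (i + 1) (by omega)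
    change IsIso (homologyMap ι i)
    rw [← quasiIsoAt_iff_isIso_homologyMap, quasiIsoAt_iff' ι (i - 1) i (i + 1) (by simp) (by simp)]
    have : IsIso ((shortComplexFunctor' (ModuleCat.{u} R) (ComplexShape.up ℤ) (i - 1) i (i + 1)).map ι).τ₁ :=
      hX (i - 1) (by omega)
    have : IsIso ((shortComplexFunctor' (ModuleCat.{u} R) (ComplexShape.up ℤ) (i - 1) i (i + 1)).map ι).τ₂ :=
      hX i (by omega)
    have : IsIso ((shortComplexFunctor' (ModuleCat.{u} R) (ComplexShape.up ℤ) (i - 1) i (i + 1)).map ι).τ₃ :=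
      hX (i + 1) (by omega)
    exact ShortComplex.quasiIso_of_epi_of_isIso_of_mono _
  · have h1 := hX n le_rfl
    have h2 := hX (n + 1) (by omega)
    have : Epi (homologyMap ι n) := by
      rw [epi_homologyMap_iff_up_to_refinements ι (n - 1) n (n + 1) (by simp) (by simp)]
      intro A y hy
      refine ⟨A, 𝟙 A, inferInstance, y ≫ inv (ι.f n), ?_, 0, by simp⟩
      rw [Category.assoc, ← cancel_mono (ι.f (n + 1)), zero_comp, Category.assoc, Category.assoc,
        ← ι.comm, IsIso.inv_hom_id_assoc, hy]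
    let e := DerivedCategory.homologyFunctorFactors (ModuleCat.{u} R) n
    exact ((MorphismProperty.epimorphisms _).arrow_mk_iso_iff
      (Arrow.isoMk (e.app E') (e.app E) (e.hom.naturality ι).symm)).mpr ‹Epi (homologyMap ι n)›

/-- Two pseudo-coherent objects give a third in a distinguished triangle. -/
theorem isPseudoCoherent_obj₃ (T : Triangle (DerivedCategory (ModuleCat.{u} R)))
    (hT : T ∈ Pretriangulated.distinguishedTriangles) (m : ℤ)
    (h₁ : DRing.IsPseudoCoherent R (m + 1) T.obj₁) (h₂ : DRing.IsPseudoCoherent R m T.obj₂) :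
    DRing.IsPseudoCoherent R m T.obj₃ := by
  obtain ⟨E₁', α₁', hE₁', hα₁'⟩ := isPseudoCoherent_iff.1 h₁
  obtain ⟨E₁, ι, hE₁, hE₁z, hι⟩ := exists_trunc hE₁' (m + 1)
  obtain ⟨E₂, α₂, hE₂, hα₂⟩ := isPseudoCoherent_iff.1 h₂
  have := hE₁.isKProjective
  let α₁ := DerivedCategory.Q.map ι ≫ α₁'
  have hα₁ : Approx (m + 1) α₁ := hι.comp hα₁'
  obtain ⟨C₁, p₁, q₁, hC₁⟩ := Pretriangulated.distinguished_cocone_triangle α₁
  obtain ⟨C₂, p₂, q₂, hC₂⟩ := Pretriangulated.distinguished_cocone_triangle α₂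
  have hz₁ := (Approx.iff_cone (m + 1) _ hC₁).1 hα₁
  have hz₂ := (Approx.iff_cone m _ hC₂).1 hα₂
  have h0 : (α₁ ≫ T.mor₁) ≫ p₂ = 0 :=
    hom_eq_zero (m + 1) hE₁z (fun i hi => hz₂ i (by omega)) _
  obtain ⟨v', hv'⟩ := Triangle.coyoneda_exact₂ _ hC₂ (α₁ ≫ T.mor₁) h0
  obtain ⟨v, rfl⟩ := Q_map_surjective E₁ E₂ v'
  have hV := DerivedCategory.mappingCone_triangle_distinguished v
  obtain ⟨W, p, q, hW⟩ := Pretriangulated.distinguished_cocone_triangle (α₁ ≫ T.mor₁)
  let o₁ := Triangulated.someOctahedron (hv' : _ = DerivedCategory.Q.map v ≫ α₂).symm hV hC₂ hW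
  let o₂ := Triangulated.someOctahedron (rfl : α₁ ≫ T.mor₁ = α₁ ≫ T.mor₁) hC₁
    (show Triangle.mk T.mor₁ T.mor₂ T.mor₃ ∈ Pretriangulated.distinguishedTriangles from hT) hW
  have ha : Approx m o₁.m₁ := (Approx.iff_cone m _ o₁.mem).2 hz₂
  have hb : Approx m o₂.m₃ := by
    refine (Approx.iff_cone m _ (Pretriangulated.rot_of_distTriang _ o₂.mem)).2 fun i hi => ?_
    exact (hz₁ (i + 1) (by omega)).of_iso
      (((DerivedCategory.homologyFunctor (ModuleCat.{u} R) 0).shiftIso 1 i (i + 1) (by omega)).app C₁)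
  exact isPseudoCoherent_iff.2 ⟨mappingCone v, o₁.m₁ ≫ o₂.m₃, hE₁.cone hE₂ v, ha.comp hb⟩

theorem isPseudoCoherent_obj₂ (T : Triangle (DerivedCategory (ModuleCat.{u} R)))
    (hT : T ∈ Pretriangulated.distinguishedTriangles) (m : ℤ)
    (h₁ : DRing.IsPseudoCoherent R m T.obj₁) (h₃ : DRing.IsPseudoCoherent R m T.obj₃) :
    DRing.IsPseudoCoherent R m T.obj₂ := by
  have h : DRing.IsPseudoCoherent R (m + 1) (T.obj₃⟦(-1 : ℤ)⟧) := by
    have := isPseudoCoherent_shift h₃ (-1)
    rwa [sub_neg_eq_add] at this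
  exact isPseudoCoherent_obj₃ T.invRotate (Pretriangulated.inv_rot_of_distTriang _ hT) m h h₁

theorem isPseudoCoherent_obj₁ (T : Triangle (DerivedCategory (ModuleCat.{u} R)))
    (hT : T ∈ Pretriangulated.distinguishedTriangles) (m : ℤ)
    (h₂ : DRing.IsPseudoCoherent R (m + 1) T.obj₂) (h₃ : DRing.IsPseudoCoherent R m T.obj₃) :
    DRing.IsPseudoCoherent R (m + 1) T.obj₁ := by
  have h2 : DRing.IsPseudoCoherent R (m + 1 + 1) (T.obj₂⟦(-1 : ℤ)⟧) := by
    have := isPseudoCoherent_shift h₂ (-1)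
    rwa [sub_neg_eq_add] at this
  have h3 : DRing.IsPseudoCoherent R (m + 1) (T.obj₃⟦(-1 : ℤ)⟧) := by
    have := isPseudoCoherent_shift h₃ (-1)
    rwa [sub_neg_eq_add] at this
  exact isPseudoCoherent_obj₃ T.invRotate.invRotate
    (Pretriangulated.inv_rot_of_distTriang _ (Pretriangulated.inv_rot_of_distTriang _ hT)) (m + 1) h2 h3

end Groth.Agent.DRingLib
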