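import Groth.Agent.DRingLib.PCohMore
import Mathlib.Algebra.Category.ModuleCat.Descent
import Mathlib.RingTheory.Localization.BaseChange

/-!
# Flat base change and descent of pseudo-coherence
-/

set_option autoImplicit false

universe u

open CategoryTheory CategoryTheory.Limits HomologicalComplex
open CochainComplex (mappingCone)
open scoped TensorProduct

attribute [local instance] HasDerivedCategory.standard

namespace Groth.Agent.DRingLib

variable {R : Type u} [CommRing R] {R' : Type u} [CommRing R'] (φ : R →+* R')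

/-- Cohomology commutes with flat base change. -/
theorem exists_homology_extCx_iso (hφ : φ.Flat) (K : CochainComplex (ModuleCat.{u} R) ℤ) (i : ℤ) :
    Nonempty (((extCx φ).obj K).homology i ≅
      (ModuleCat.extendScalars.{u, u, u} φ).obj (K.homology i)) := by
  have : PreservesFiniteLimits (ModuleCat.extendScalars.{u, u, u} φ) :=
    ModuleCat.preservesFiniteLimits_extendScalars_of_flat hφ
  exact ⟨(K.sc i).mapHomologyIso (ModuleCat.extendScalars.{u, u, u} φ)⟩

theorem isZero_homology_extCx (hφ : φ.Flat) (K : CochainComplex (ModuleCat.{u} R) ℤ) (i : ℤ)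
    (h : IsZero (K.homology i)) : IsZero (((extCx φ).obj K).homology i) := by
  obtain ⟨e⟩ := exists_homology_extCx_iso φ hφ K i
  exact ((ModuleCat.extendScalars.{u, u, u} φ).map_isZero h).of_iso e

theorem IsBddFree.extCx {E : CochainComplex (ModuleCat.{u} R) ℤ} (h : IsBddFree E) :
    IsBddFree ((DRingLib.extCx φ).obj E) := by
  obtain ⟨a, b, hab, hf⟩ := h
  exact ⟨a, b, fun i hi => (ModuleCat.extendScalars.{u, u, u} φ).map_isZero (hab i hi),
    fun i => ⟨finite_extCx φ i (hf i).1, free_extCx φ i (hf i).2⟩⟩

/-- Flat base change of complexes preserves approximations. -/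
theorem approx_extCx (hφ : φ.Flat) {P Q : CochainComplex (ModuleCat.{u} R) ℤ} (f : P ⟶ Q) (m : ℤ)
    (h : Approx m (DerivedCategory.Q.map f)) :
    Approx m (DerivedCategory.Q.map ((extCx φ).map f)) := by
  have hC := (Approx.iff_cone m _ (DerivedCategory.mappingCone_triangle_distinguished f)).1 h
  refine (Approx.iff_cone m _ (DerivedCategory.mappingCone_triangle_distinguished
    ((extCx φ).map f))).2 fun i hi => ?_
  exact (isZero_Hn_of_homology (isZero_homology_extCx φ hφ _ i
    (isZero_homology_of_Hn (hC i hi)))).of_iso ((Hn R' i).mapIso (DerivedCategory.Q.mapIso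
      (CochainComplex.mappingCone.mapHomologicalComplexIso f
        (ModuleCat.extendScalars.{u, u, u} φ)).symm))

theorem isPseudoCoherent_extCx (hφ : φ.Flat) {K : CochainComplex (ModuleCat.{u} R) ℤ} {m : ℤ}
    (h : DRing.IsPseudoCoherent R m (DerivedCategory.Q.obj K)) :
    DRing.IsPseudoCoherent R' m (DerivedCategory.Q.obj ((extCx φ).obj K)) := by
  obtain ⟨E, α, hE, hα⟩ := isPseudoCoherent_iff.1 h
  have := hE.isKProjective
  obtain ⟨f, rfl⟩ := Q_map_surjective E K α
  exact isPseudoCoherent_iff.2 ⟨_, DerivedCategory.Q.map ((extCx φ).map f), hE.extCx φ,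
    approx_extCx φ hφ f m hα⟩

section Descent

variable {ι : Type} [Finite ι] (S : ι → Type u) [∀ i, CommRing (S i)] [∀ i, Algebra R (S i)]
  [∀ i, Module.Flat R (S i)]

/-- The base changes to the family detect zero modules. -/
def DetectsZero : Prop :=
  ∀ (M : Type u) [AddCommGroup M] [Module R M],
    (∀ i, Subsingleton (S i ⊗[R] M)) → Subsingleton M

omit [Finite ι] [∀ i, Module.Flat R (S i)] in
theorem detectsZero_of_faithfullyFlat (i₀ : ι) [Module.FaithfullyFlat R (S i₀)] :
    DetectsZero (R := R) S := fun M _ _ h =>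
  have := h i₀
  Module.FaithfullyFlat.lTensor_reflects_triviality R (S i₀) M

variable {S}

omit [∀ i, Module.Flat R (S i)] in
theorem finite_of_forall_finite (hS : DetectsZero (R := R) S) (M : Type u) [AddCommGroup M]
    [Module R M] (h : ∀ i, Module.Finite (S i) (S i ⊗[R] M)) : Module.Finite R M := by
  classical
  choose s hs using fun i => Module.Finite.fg_top (R := S i) (M := S i ⊗[R] M)
  choose k t m hx using fun (i : ι) (x : S i ⊗[R] M) => TensorProduct.exists_sum_tmul_eq x
  let T : Set M := ⋃ i, ⋃ x ∈ (s i : Set (S i ⊗[R] M)), Set.range (m i x)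
  have hT : T.Finite :=
    Set.finite_iUnion fun i => (s i).finite_toSet.biUnion fun x _ => Set.finite_range _
  let N : Submodule R M := Submodule.span R T
  have key : ∀ i, Subsingleton (S i ⊗[R] (M ⧸ N)) := fun i => by
    have hf : ∀ y : S i ⊗[R] M,
        (TensorProduct.AlgebraTensorModule.lTensor (S i) (S i) N.mkQ) y = 0 := by
      suffices (⊤ : Submodule (S i) (S i ⊗[R] M)) ≤
          LinearMap.ker (TensorProduct.AlgebraTensorModule.lTensor (S i) (S i) N.mkQ) from
        fun y => LinearMap.mem_ker.1 (this Submodule.mem_top)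
      rw [← hs i, Submodule.span_le]
      intro x hxs
      rw [SetLike.mem_coe, LinearMap.mem_ker, hx i x, map_sum]
      refine Finset.sum_eq_zero fun j _ => ?_
      rw [TensorProduct.AlgebraTensorModule.lTensor_tmul]
      have : m i x j ∈ N := Submodule.subset_span
        (Set.mem_iUnion.2 ⟨i, Set.mem_iUnion₂.2 ⟨x, hxs, j, rfl⟩⟩)
      rw [Submodule.mkQ_apply, (Submodule.Quotient.mk_eq_zero N).2 this, TensorProduct.tmul_zero]
    refine ⟨fun a b => ?_⟩
    obtain ⟨a, rfl⟩ := LinearMap.lTensor_surjective (S i) N.mkQ_surjective a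
    obtain ⟨b, rfl⟩ := LinearMap.lTensor_surjective (S i) N.mkQ_surjective b
    exact (hf a).trans (hf b).symm
  have := hS (M ⧸ N) key
  have hN : N = ⊤ := Submodule.Quotient.subsingleton_iff.1 this
  exact ⟨hN ▸ Submodule.fg_span hT⟩

/-- `extendScalars` along `algebraMap A B` is `B ⊗[A] -`. -/
noncomputable def extendScalarsEquiv {A B : Type u} [CommRing A] [CommRing B] [inst : Algebra A B]
    (M : ModuleCat.{u} A) :
    ((ModuleCat.extendScalars.{u, u, u} (algebraMap A B)).obj M : Type u) ≃ₗ[B] B ⊗[A] M :=
  have h : (algebraMap A B).toAlgebra = inst := Algebra.algebra_ext _ _ fun _ => rfl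
  cast (congrArg (fun a : Algebra A B =>
      ((ModuleCat.extendScalars.{u, u, u} (algebraMap A B)).obj M : Type u) ≃ₗ[B]
        (letI := a; B ⊗[A] M)) h)
    (LinearEquiv.refl B _)

theorem finite_extendScalars_iff {A B : Type u} [CommRing A] [CommRing B] [inst : Algebra A B]
    (M : ModuleCat.{u} A) :
    Module.Finite B ((ModuleCat.extendScalars.{u, u, u} (algebraMap A B)).obj M) ↔
      Module.Finite B (B ⊗[A] M) := by
  have h : (algebraMap A B).toAlgebra = inst := Algebra.algebra_ext _ _ fun _ => rfl
  have h1 : Module.Finite B ((ModuleCat.extendScalars.{u, u, u} (algebraMap A B)).obj M) ↔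
      (letI := (algebraMap A B).toAlgebra; Module.Finite B (B ⊗[A] M)) := Iff.rfl
  exact h1.trans (Iff.of_eq (congrArg
    (fun a : Algebra A B => letI := a; Module.Finite B (B ⊗[A] M)) h))

/-- Pseudo-coherence descends along a family detecting zero modules. -/
theorem isPseudoCoherent_of_family (hS : DetectsZero (R := R) S)
    (K : CochainComplex (ModuleCat.{u} R) ℤ) (m : ℤ)
    (h : ∀ i, DRing.IsPseudoCoherent (S i) m
      (DerivedCategory.Q.obj ((extCx (algebraMap R (S i))).obj K))) :
    DRing.IsPseudoCoherent R m (DerivedCategory.Q.obj K) := by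
  have hflat : ∀ i, (algebraMap R (S i)).Flat := fun i =>
    RingHom.flat_algebraMap_iff.2 inferInstance
  have hzero : ∀ (C : CochainComplex (ModuleCat.{u} R) ℤ) (j : ℤ),
      (∀ i, IsZero (((extCx (algebraMap R (S i))).obj C).homology j)) → IsZero (C.homology j) := by
    intro C j hC
    have : Subsingleton (C.homology j) := hS _ fun i => by
      obtain ⟨e⟩ := exists_homology_extCx_iso _ (hflat i) C j
      have h0 : Subsingleton
          ((ModuleCat.extendScalars.{u, u, u} (algebraMap R (S i))).obj (C.homology j)) :=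
        ModuleCat.subsingleton_of_isZero ((hC i).of_iso e.symm)
      exact (congrArg (fun a : Algebra R (S i) => letI := a; Subsingleton (S i ⊗[R] C.homology j))
        (Algebra.algebra_ext (algebraMap R (S i)).toAlgebra (inferInstance : Algebra R (S i)) fun _ => rfl)).mp h0
    exact ModuleCat.isZero_of_subsingleton _
  choose E α hE hα using fun i => isPseudoCoherent_iff.1 (h i)
  choose b hb using fun i => (hE i).bddAbove
  obtain ⟨b₀, hb₀⟩ : ∃ b₀, m ≤ b₀ ∧ ∀ i, b i ≤ b₀ := by
    obtain ⟨c, hc⟩ := (Set.finite_range b).bddAbove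
    exact ⟨max c m, le_max_right _ _, fun i => (hc ⟨i, rfl⟩).trans (le_max_left _ _)⟩
  suffices ∀ k : ℕ, DRing.IsPseudoCoherent R (max (b₀ + 1 - k) m) (DerivedCategory.Q.obj K) by
    have := this (b₀ + 1 - m).toNat
    rwa [max_eq_right (by have := Int.self_le_toNat (b₀ + 1 - m); omega)] at this
  intro k
  induction k with
  | zero =>
    refine isPseudoCoherent_of_isZero fun j hj => isZero_Hn_of_homology (hzero K j fun i => ?_)
    have := (hα i).1 j (by omega)
    exact isZero_homology_of_Hn ((isZero_Hn_Q (E i) j (hb i j (by have := hb₀.2 i; omega))).of_iso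
      (asIso ((Hn (S i) j).map (α i))).symm)
  | succ k ih =>
    rcases le_or_gt (b₀ + 1 - k) m with hk | hk
    · rwa [max_eq_right (by push_cast; omega), ← max_eq_right hk]
    obtain ⟨n, hn, hn'⟩ : ∃ n, max (b₀ + 1 - k) m = n + 1 ∧ max (b₀ + 1 - (k + 1 : ℕ)) m = n :=
      ⟨_, by push_cast; omega, rfl⟩
    rw [hn] at ih
    rw [hn']
    obtain ⟨F, β, hF, hβ⟩ := isPseudoCoherent_iff.1 ih
    have := hF.isKProjective
    obtain ⟨f, rfl⟩ := Q_map_surjective F K β
    have hC := (Approx.iff_cone (n + 1) _ (DerivedCategory.mappingCone_triangle_distinguished f)).1 hβ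
    refine isPseudoCoherent_of_cone hF _ (DerivedCategory.mappingCone_triangle_distinguished f)
      (Iso.refl _) (fun j hj => hC j (by omega)) ?_
    have hfin : ∀ i, Module.Finite (S i) (S i ⊗[R] ((mappingCone f).homology n)) := fun i => by
      let φi := algebraMap R (S i)
      have hpc : DRing.IsPseudoCoherent (S i) n
          (DerivedCategory.Q.obj (mappingCone ((extCx φi).map f))) :=
        isPseudoCoherent_obj₃ _ (DerivedCategory.mappingCone_triangle_distinguished _) n
          (isPseudoCoherent_bddFree (hF.extCx φi) _) (isPseudoCoherent_mono (by omega) (h i))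
      let eC : DerivedCategory.Q.obj (mappingCone ((extCx φi).map f)) ≅
          DerivedCategory.Q.obj ((extCx φi).obj (mappingCone f)) :=
        DerivedCategory.Q.mapIso (CochainComplex.mappingCone.mapHomologicalComplexIso f
          (ModuleCat.extendScalars.{u, u, u} φi)).symm
      have hz : ∀ j, n < j → IsZero ((Hn (S i) j).obj
          (DerivedCategory.Q.obj ((extCx φi).obj (mappingCone f)))) := fun j hj =>
        isZero_Hn_of_homology (isZero_homology_extCx φi (hflat i) _ j
          (isZero_homology_of_Hn (hC j (by omega))))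
      have h1 := finite_of_isPseudoCoherent (isPseudoCoherent_of_iso eC hpc) hz
      obtain ⟨e⟩ := exists_homology_extCx_iso φi (hflat i) (mappingCone f) n
      have h2 : Module.Finite (S i) ((DerivedCategory.Q ⋙ Hn (S i) n).obj
          ((extCx φi).obj (mappingCone f))) := h1
      exact (finite_extendScalars_iff _).1 (Module.Finite.equiv
        (((DerivedCategory.homologyFunctorFactors (ModuleCat.{u} (S i)) n).app _) ≪≫ e).toLinearEquiv)
    exact finite_Hn_Q (finite_of_forall_finite hS _ hfin)

omit [Finite ι] [∀ i, Module.Flat R (S i)] in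
theorem detectsZero_away {R : Type u} [CommRing R] {r : ℕ} (f : Fin r → R)
    (hf : Ideal.span (Set.range f) = ⊤) :
    DetectsZero (R := R) (fun i => Localization.Away (f i)) := by
  intro M _ _ h
  refine ⟨fun a b => sub_eq_zero.1 ?_⟩
  have hkill : ∀ i, ∃ n : ℕ, f i ^ n • (a - b) = 0 := fun i => by
    have := h i
    obtain ⟨⟨s, n, hn⟩, hs⟩ := (IsLocalizedModule.eq_zero_iff (Submonoid.powers (f i))
      (TensorProduct.mk R (Localization.Away (f i)) M 1) (m := a - b)).1 (Subsingleton.elim _ _)
    exact ⟨n, by rw [show f i ^ n = s from hn]; exact hs⟩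
  choose n hn using hkill
  have h1 : (1 : R) ∈ Ideal.span (Set.range fun i => f i ^ n i) := by
    classical
    have h3 := (Ideal.eq_top_iff_one _).1 (Ideal.span_pow_eq_top (Set.range f) hf (Finset.univ.sup n))
    refine (Ideal.span_le.2 ?_) h3
    rintro _ ⟨_, ⟨i, rfl⟩, rfl⟩
    obtain ⟨d, hd⟩ := Nat.exists_eq_add_of_le (Finset.le_sup (Finset.mem_univ i) : n i ≤ _)
    change f i ^ Finset.univ.sup n ∈ Ideal.span (Set.range fun i => f i ^ n i)
    rw [hd, pow_add]
    exact Ideal.mul_mem_right _ _ (Ideal.subset_span ⟨i, rfl⟩)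
  have h2 : Ideal.span (Set.range fun i => f i ^ n i) ≤
      LinearMap.ker (LinearMap.toSpanSingleton R M (a - b)) := by
    rw [Ideal.span_le]
    rintro _ ⟨i, rfl⟩
    exact hn i
  simpa using h2 h1

end Descent

end Groth.Agent.DRingLib
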