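import Groth.Agent.DRingLib.AmplitudeTri
import Groth.Agent.DRingLib.FlatBC
import Mathlib.Algebra.Homology.DerivedCategory.ExactFunctor

/-!
# Tor amplitude, perfectness and flat base change
-/

set_option autoImplicit false

universe u

open CategoryTheory CategoryTheory.Limits HomologicalComplex

attribute [local instance] HasDerivedCategory.standard

namespace Groth.Agent.DRingLib

variable {R R' : Type u} [CommRing R] [CommRing R'] (φ : R →+* R')

/-- Flat base change respects isomorphisms in the derived category. -/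
theorem nonempty_extCx_iso (hφ : φ.Flat) {P K : CochainComplex (ModuleCat.{u} R) ℤ}
    (e : DerivedCategory.Q.obj P ≅ DerivedCategory.Q.obj K) :
    Nonempty (DerivedCategory.Q.obj ((extCx φ).obj P) ≅ DerivedCategory.Q.obj ((extCx φ).obj K)) := by
  let F := ModuleCat.extendScalars.{u, u, u} φ
  have : PreservesFiniteLimits F := ModuleCat.preservesFiniteLimits_extendScalars_of_flat hφ
  exact ⟨(F.mapDerivedCategoryFactors.app P).symm ≪≫ F.mapDerivedCategory.mapIso e ≪≫
    F.mapDerivedCategoryFactors.app K⟩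

theorem hasTorAmplitudeIn_extCx (hφ : φ.Flat) {K : CochainComplex (ModuleCat.{u} R) ℤ} {a c : ℤ}
    (h : DRing.HasTorAmplitudeIn R a c (DerivedCategory.Q.obj K)) :
    DRing.HasTorAmplitudeIn R' a c (DerivedCategory.Q.obj ((extCx φ).obj K)) := by
  obtain ⟨E, h₁, h₂, ⟨e⟩⟩ := h
  exact ⟨(extCx φ).obj E, fun i hi => (ModuleCat.extendScalars.{u, u, u} φ).map_isZero (h₁ i hi),
    fun i => flat_extCx φ i (h₂ i), nonempty_extCx_iso φ hφ e⟩

theorem isPerfect_extCx (hφ : φ.Flat) {K : CochainComplex (ModuleCat.{u} R) ℤ}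
    (h : DRing.IsPerfect R (DerivedCategory.Q.obj K)) :
    DRing.IsPerfect R' (DerivedCategory.Q.obj ((extCx φ).obj K)) := by
  obtain ⟨E, a, c, h₁, h₂, ⟨e⟩⟩ := h
  exact ⟨(extCx φ).obj E, a, c,
    fun i hi => (ModuleCat.extendScalars.{u, u, u} φ).map_isZero (h₁ i hi),
    fun i => ⟨finite_extCx φ i (h₂ i).1, projective_extCx φ i (h₂ i).2⟩, nonempty_extCx_iso φ hφ e⟩

/-- The base change of `M[0]`. -/
noncomputable def extCxSingleIso {A B : Type u} [CommRing A] [CommRing B] [Algebra A B]
    (M : Type u) [AddCommGroup M] [Module A M] :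
    DerivedCategory.Q.obj ((extCx (algebraMap A B)).obj
      ((single (ModuleCat.{u} A) (ComplexShape.up ℤ) 0).obj (ModuleCat.of A M))) ≅
      Dual.inD B (TensorProduct A B M) :=
  DerivedCategory.Q.mapIso ((singleMapHomologicalComplex
      (ModuleCat.extendScalars.{u, u, u} (algebraMap A B)) (ComplexShape.up ℤ) 0).app (ModuleCat.of A M) ≪≫
    (single _ _ 0).mapIso (extendScalarsEquiv (ModuleCat.of A M)).toModuleIso)

end Groth.Agent.DRingLib

namespace Groth.Agent.DRingLib

open MonoidalCategory
open KFlatLib (tensorN)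
open scoped TensorProduct

variable {R : Type u} [CommRing R] {ι : Type} {S : ι → Type u} [∀ i, CommRing (S i)]
  [∀ i, Algebra R (S i)] [∀ i, Module.Flat R (S i)]

theorem isZero_homology_of_family (hS : DetectsZero (R := R) S)
    (C : CochainComplex (ModuleCat.{u} R) ℤ) (j : ℤ)
    (hC : ∀ i, IsZero (((extCx (algebraMap R (S i))).obj C).homology j)) :
    IsZero (C.homology j) := by
  have : Subsingleton (C.homology j) := hS _ fun i => by
    obtain ⟨e⟩ := exists_homology_extCx_iso (algebraMap R (S i))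
      (RingHom.flat_algebraMap_iff.2 inferInstance) C j
    have : Subsingleton
        ((ModuleCat.extendScalars.{u, u, u} (algebraMap R (S i))).obj (C.homology j)) :=
      ModuleCat.subsingleton_of_isZero ((hC i).of_iso e.symm)
    exact (extendScalarsEquiv (C.homology j)).toEquiv.symm.subsingleton
  exact ModuleCat.isZero_of_subsingleton _

/-- Base change commutes with `- ⊗ N`. -/
noncomputable def extCxTensorNIso {R' : Type u} [CommRing R'] (φ : R →+* R')
    (P : CochainComplex (ModuleCat.{u} R) ℤ) (N : ModuleCat.{u} R) :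
    tensorN ((extCx φ).obj P) ((ModuleCat.extendScalars.{u, u, u} φ).obj N) ≅
      (extCx φ).obj (tensorN P N) :=
  let e := Functor.Monoidal.commTensorRight (ModuleCat.extendScalars.{u, u, u} φ) N
  Hom.isoOfComponents (fun n => e.app (P.X n)) (fun i j _ => (e.hom.naturality (P.d i j)).symm)

/-- Tor amplitude descends along families detecting zero modules. -/
theorem hasTorAmplitudeIn_of_family (hS : DetectsZero (R := R) S)
    (K : CochainComplex (ModuleCat.{u} R) ℤ) (a c : ℤ)
    (h : ∀ i, DRing.HasTorAmplitudeIn (S i) a c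
      (DerivedCategory.Q.obj ((extCx (algebraMap R (S i))).obj K))) :
    DRing.HasTorAmplitudeIn R a c (DerivedCategory.Q.obj K) := by
  obtain ⟨P, hP, ⟨e⟩⟩ := exists_good_rep (DerivedCategory.Q.obj K)
  refine hasTorAmplitudeIn_of_amp hP.1 e fun N j hj => isZero_homology_of_family hS _ j fun i => ?_
  obtain ⟨e'⟩ := nonempty_extCx_iso (algebraMap R (S i)) (RingHom.flat_algebraMap_iff.2 inferInstance) e
  exact (amp_of_hasTorAmplitudeIn (h i) (KFlatLib.isKFlat_extend _ hP.1) e'
    ((ModuleCat.extendScalars.{u, u, u} (algebraMap R (S i))).obj N) j hj).of_iso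
      ((homologyFunctor _ _ j).mapIso (extCxTensorNIso _ P N)).symm

/-- Perfectness descends along finite families detecting zero modules. -/
theorem isPerfect_of_family [Finite ι] (hS : DetectsZero (R := R) S)
    (K : CochainComplex (ModuleCat.{u} R) ℤ)
    (h : ∀ i, DRing.IsPerfect (S i) (DerivedCategory.Q.obj ((extCx (algebraMap R (S i))).obj K))) :
    DRing.IsPerfect R (DerivedCategory.Q.obj K) := by
  choose a c hac using fun i => (isPerfect_iff.mp (h i)).2
  obtain ⟨a₀, ha₀⟩ := (Set.finite_range a).bddBelow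
  obtain ⟨c₀, hc₀⟩ := (Set.finite_range c).bddAbove
  exact isPerfect_iff.mpr ⟨fun m => isPseudoCoherent_of_family hS K m
      fun i => (isPerfect_iff.mp (h i)).1 m, a₀, c₀,
    hasTorAmplitudeIn_of_family hS K a₀ c₀
      fun i => hasTorAmplitudeIn_mono (ha₀ ⟨i, rfl⟩) (hc₀ ⟨i, rfl⟩) (hac i)⟩

end Groth.Agent.DRingLib
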