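import Groth.Agent.DRingLib.LBaseChange
import Groth.Agent.KFlatLib.FlatRes
import Groth.Prelude.Def_DRing2
import Mathlib.Algebra.Homology.DerivedCategory.KProjective
import Mathlib.Algebra.Homology.DerivedCategory.TStructure

/-!
# Basic calculus in `D(R)`: free resolutions, vanishing ranges, base change
-/

set_option autoImplicit false

universe u

open CategoryTheory CategoryTheory.Limits HomologicalComplex Opposite
open CategoryTheory.Pretriangulated (Triangle)
open CochainComplex (mappingCone)

attribute [local instance] HasDerivedCategory.standard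

namespace Groth.Agent.DRingLib

variable {R : Type u} [CommRing R]

/-- The cohomology functor of `D(R)`. -/
noncomputable abbrev Hn (R : Type u) [CommRing R] (i : ℤ) :
    DerivedCategory (ModuleCat.{u} R) ⥤ ModuleCat.{u} R :=
  DerivedCategory.homologyFunctor (ModuleCat.{u} R) i

/-- The vertex of a triangle vanishes above `m` iff the map is iso above `m` and epi at `m`. -/
theorem isoAboveEpiAt_iff (T : Triangle (DerivedCategory (ModuleCat.{u} R)))
    (hT : T ∈ Pretriangulated.distinguishedTriangles) (m : ℤ) :
    ((∀ i, m < i → IsIso ((Hn R i).map T.mor₁)) ∧ Epi ((Hn R m).map T.mor₁)) ↔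
      ∀ i, m ≤ i → IsZero ((Hn R i).obj T.obj₃) := by
  constructor
  · rintro ⟨hi, hm⟩ i hmi
    have hepi : Epi ((Hn R i).map T.mor₁) := by
      rcases hmi.eq_or_lt with rfl | h
      · exact hm
      · have := hi i h
        infer_instance
    have hmono : Mono ((Hn R (i + 1)).map T.mor₁) := by
      have := hi (i + 1) (by omega)
      infer_instance
    exact (DerivedCategory.HomologySequence.exact₃ T hT i (i + 1) rfl).isZero_X₂
      ((DerivedCategory.HomologySequence.epi_homologyMap_mor₁_iff T hT i).mp hepi)
      ((DerivedCategory.HomologySequence.mono_homologyMap_mor₁_iff T hT i (i + 1) rfl).mp hmono)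
  · intro h
    have hepi : ∀ i, m ≤ i → Epi ((Hn R i).map T.mor₁) :=
      fun i hi => (DerivedCategory.HomologySequence.epi_homologyMap_mor₁_iff T hT i).mpr
        ((h i hi).eq_of_tgt _ _)
    refine ⟨fun i hi => ?_, hepi m le_rfl⟩
    have := hepi i hi.le
    have : Mono ((Hn R i).map T.mor₁) :=
      (DerivedCategory.HomologySequence.mono_homologyMap_mor₁_iff T hT (i - 1) i (by omega)).mpr
        ((h (i - 1) (by omega)).eq_of_src _ _)
    exact isIso_of_mono_of_epi _

theorem free_of_isZero {M : ModuleCat.{u} R} (h : IsZero M) : Module.Free R M := by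
  have := ModuleCat.subsingleton_of_isZero h
  infer_instance

theorem finite_of_isZero {M : ModuleCat.{u} R} (h : IsZero M) : Module.Finite R M := by
  have := ModuleCat.subsingleton_of_isZero h
  infer_instance

/-- A bounded above complex of free modules is K-flat. -/
theorem isKFlat_of_free (P : CochainComplex (ModuleCat.{u} R) ℤ) (b : ℤ)
    (hb : ∀ i, b < i → IsZero (P.X i)) (hP : ∀ i, Module.Free R (P.X i)) : DRing.IsKFlat R P :=
  KFlatLib.isKFlat_of_bounded_flat P b hb fun i => by
    have := hP i
    infer_instance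

/-- A bounded above complex of projective modules is K-projective. -/
theorem isKProjective_of_projective (P : CochainComplex (ModuleCat.{u} R) ℤ) (b : ℤ)
    (hb : ∀ i, b < i → IsZero (P.X i)) (hP : ∀ i, Module.Projective R (P.X i)) :
    P.IsKProjective := by
  have : P.IsStrictlyLE b := by
    rw [CochainComplex.isStrictlyLE_iff]
    exact hb
  have : ∀ i, Projective (P.X i) := fun i => by
    have := hP i
    exact (IsProjective.iff_projective (P.X i : Type u)).mp inferInstance
  exact CochainComplex.isKProjective_of_projective P b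

theorem isKProjective_of_free (P : CochainComplex (ModuleCat.{u} R) ℤ) (b : ℤ)
    (hb : ∀ i, b < i → IsZero (P.X i)) (hP : ∀ i, Module.Free R (P.X i)) :
    P.IsKProjective :=
  isKProjective_of_projective P b hb fun i => by
    have := hP i
    infer_instance

/-- Morphisms out of a K-projective complex in `D(R)` come from maps of complexes. -/
theorem Q_map_surjective (P : CochainComplex (ModuleCat.{u} R) ℤ) [P.IsKProjective]
    (K : CochainComplex (ModuleCat.{u} R) ℤ) :
    Function.Surjective (DerivedCategory.Q.map : (P ⟶ K) → _) := by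
  intro g
  obtain ⟨g', hg'⟩ := (CochainComplex.IsKProjective.Qh_map_bijective P
    ((HomotopyCategory.quotient _ (ComplexShape.up ℤ)).obj K)).2 g
  obtain ⟨g'', rfl⟩ := (HomotopyCategory.quotient _ (ComplexShape.up ℤ)).map_surjective g'
  exact ⟨g'', hg'⟩

/-- A bounded above complex is quasi-isomorphic to a bounded above complex of free modules. -/
theorem exists_free_resolution (K : CochainComplex (ModuleCat.{u} R) ℤ) (b : ℤ)
    (hK : ∀ i, b < i → IsZero (K.X i)) :
    ∃ (L : CochainComplex (ModuleCat.{u} R) ℤ) (α : L ⟶ K), (∀ i, b < i → IsZero (L.X i)) ∧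
      (∀ i, Module.Free R (L.X i)) ∧ QuasiIso α := by
  open Groth.Agent.DerLib in
  have hge : CochainComplex.IsStrictlyGE (OpDual.opC K) (-b) := by
    rw [CochainComplex.isStrictlyGE_iff]
    intro i hi
    exact (hK (-i) (by omega)).op
  open Groth.Agent.DerLib in
  obtain ⟨L, α, hL, hfree, -, hα⟩ := RightRes.exists_resolution_int
    (I := fun Y : (ModuleCat.{u} R)ᵒᵖ => Module.Free R Y.unop)
    (fun Y => ⟨op ((cover (R := R)).obj Y.unop), ((coverπ (R := R)).app Y.unop).op,
      inferInstanceAs (Module.Free R ((Y.unop : Type u) →₀ R)), inferInstance⟩)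
    ⟨op (ModuleCat.of R PUnit), (ModuleCat.isZero_of_subsingleton (ModuleCat.of R PUnit)).op,
      inferInstanceAs (Module.Free R PUnit.{u + 1})⟩ (OpDual.opC K) (-b)
  open Groth.Agent.DerLib in
  have := OpDual.quasiIso_unopMap α
  open Groth.Agent.DerLib in
  refine ⟨OpDual.unopC L, OpDual.unopMap α ≫ (OpDual.backIso K).hom, fun i hi => ?_,
    fun i => hfree (-i), inferInstance⟩
  exact (CochainComplex.isZero_of_isStrictlyGE L (-b) (-i) (by omega)).unop

/-- An object with no cohomology above `n` is represented by free modules in degrees `≤ n`. -/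
theorem exists_free_rep (K : DerivedCategory (ModuleCat.{u} R)) (n : ℤ)
    (hK : ∀ i, n < i → IsZero ((Hn R i).obj K)) :
    ∃ P : CochainComplex (ModuleCat.{u} R) ℤ, (∀ i, n < i → IsZero (P.X i)) ∧
      (∀ i, Module.Free R (P.X i)) ∧ Nonempty (DerivedCategory.Q.obj P ≅ K) := by
  have : K.IsLE n := (DerivedCategory.isLE_iff K n).mpr hK
  obtain ⟨C, hC, ⟨e⟩⟩ := DerivedCategory.exists_iso_Q_obj_of_isLE K n
  obtain ⟨L, α, hLb, hLf, hα⟩ := exists_free_resolution C n
    fun j hj => C.isZero_of_isStrictlyLE n j hj
  exact ⟨L, hLb, hLf, ⟨asIso (DerivedCategory.Q.map α) ≪≫ e.symm⟩⟩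

/-- A complex with no terms in degree `i` has no cohomology there. -/
theorem isZero_Hn_Q (P : CochainComplex (ModuleCat.{u} R) ℤ) (i : ℤ) (h : IsZero (P.X i)) :
    IsZero ((Hn R i).obj (DerivedCategory.Q.obj P)) :=
  IsZero.of_iso ((exactAt_iff_isZero_homology _ i).mp (ShortComplex.exact_of_isZero_X₂ _ h))
    ((DerivedCategory.homologyFunctorFactors (ModuleCat.{u} R) i).app P)

section BaseChange

variable {R' : Type u} [CommRing R'] (φ : R →+* R')

/-- Base change of complexes. -/
noncomputable abbrev extCx :
    CochainComplex (ModuleCat.{u} R) ℤ ⥤ CochainComplex (ModuleCat.{u} R') ℤ :=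
  (ModuleCat.extendScalars.{u, u, u} φ).mapHomologicalComplex (ComplexShape.up ℤ)

theorem free_extCx {P : CochainComplex (ModuleCat.{u} R) ℤ} (i : ℤ) (h : Module.Free R (P.X i)) :
    Module.Free R' (((extCx φ).obj P).X i) := by
  letI := φ.toAlgebra
  exact inferInstanceAs (Module.Free R' (TensorProduct R R' (P.X i)))

theorem finite_extCx {P : CochainComplex (ModuleCat.{u} R) ℤ} (i : ℤ)
    (h : Module.Finite R (P.X i)) : Module.Finite R' (((extCx φ).obj P).X i) := by
  letI := φ.toAlgebra
  exact inferInstanceAs (Module.Finite R' (TensorProduct R R' (P.X i)))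

theorem flat_extCx {P : CochainComplex (ModuleCat.{u} R) ℤ} (i : ℤ) (h : Module.Flat R (P.X i)) :
    Module.Flat R' (((extCx φ).obj P).X i) := by
  letI := φ.toAlgebra
  exact inferInstanceAs (Module.Flat R' (TensorProduct R R' (P.X i)))

theorem projective_extCx {P : CochainComplex (ModuleCat.{u} R) ℤ} (i : ℤ)
    (h : Module.Projective R (P.X i)) : Module.Projective R' (((extCx φ).obj P).X i) := by
  letI := φ.toAlgebra
  exact inferInstanceAs (Module.Projective R' (TensorProduct R R' (P.X i)))

variable [DRing.HasLBaseChange φ]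

/-- Derived base change is right t-exact. -/
theorem isZero_Hn_lBaseChange (K : DerivedCategory (ModuleCat.{u} R)) (m : ℤ)
    (hK : ∀ i, m ≤ i → IsZero ((Hn R i).obj K)) (i : ℤ) (hi : m ≤ i) :
    IsZero ((Hn R' i).obj ((DRing.LBaseChange φ).obj K)) := by
  obtain ⟨P, hPb, hPf, ⟨e⟩⟩ := exists_free_rep K (m - 1) fun j hj => hK j (by omega)
  refine IsZero.of_iso ?_ ((Hn R' i).mapIso ((DRing.LBaseChange φ).mapIso e.symm ≪≫
    lBaseChangeObjIso φ P (isKFlat_of_free P (m - 1) hPb hPf)))
  exact isZero_Hn_Q _ i ((ModuleCat.extendScalars.{u, u, u} φ).map_isZero (hPb i (by omega)))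

/-- Derived base change preserves "iso above `m`, epi at `m`", for maps of K-flat complexes. -/
theorem isoAboveEpiAt_extCx {P Q : CochainComplex (ModuleCat.{u} R) ℤ} (f : P ⟶ Q)
    (hP : DRing.IsKFlat R P) (hQ : DRing.IsKFlat R Q) (m : ℤ)
    (h : (∀ i, m < i → IsIso ((Hn R i).map (DerivedCategory.Q.map f))) ∧
      Epi ((Hn R m).map (DerivedCategory.Q.map f))) :
    (∀ i, m < i → IsIso ((Hn R' i).map (DerivedCategory.Q.map ((extCx φ).map f)))) ∧
      Epi ((Hn R' m).map (DerivedCategory.Q.map ((extCx φ).map f))) := by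
  have hC := (isoAboveEpiAt_iff _ (DerivedCategory.mappingCone_triangle_distinguished f) m).mp h
  refine (isoAboveEpiAt_iff _ (DerivedCategory.mappingCone_triangle_distinguished
    ((extCx φ).map f)) m).mpr fun i hi => ?_
  exact (isZero_Hn_lBaseChange φ _ m hC i hi).of_iso ((Hn R' i).mapIso
    (DerivedCategory.Q.mapIso (CochainComplex.mappingCone.mapHomologicalComplexIso f
      (ModuleCat.extendScalars.{u, u, u} φ)).symm ≪≫
      (lBaseChangeObjIso φ (mappingCone f) (KFlatLib.isKFlat_mappingCone hP hQ f)).symm))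

end BaseChange

end Groth.Agent.DRingLib
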