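import Groth.Agent.DRingLib.PCoh
import Mathlib.CategoryTheory.Functor.OfSequence
import Mathlib.CategoryTheory.Limits.Constructions.EventuallyConstant
import Mathlib.Algebra.Module.FinitePresentation

/-!
# Top cohomology of pseudo-coherent objects, attaching cells
-/

set_option autoImplicit false

universe u

open CategoryTheory CategoryTheory.Limits HomologicalComplex
open CategoryTheory.Pretriangulated (Triangle)
open CochainComplex (mappingCone)
open CochainComplex.HomComplex

attribute [local instance] HasDerivedCategory.standard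

namespace Groth.Agent.DRingLib

variable {R : Type u} [CommRing R]

/-- The cycles of a bounded above complex of finite projective modules at a degree above which it
is exact form a finite projective module. -/
theorem finite_projective_cycles (P : CochainComplex (ModuleCat.{u} R) ℤ) (b : ℤ)
    (hb : ∀ i, b < i → IsZero (P.X i))
    (hP : ∀ i, Module.Finite R (P.X i) ∧ Module.Projective R (P.X i)) (m : ℤ)
    (hex : ∀ i, m < i → IsZero (P.homology i)) :
    Module.Finite R (LinearMap.ker (P.d m (m + 1)).hom) ∧
      Module.Projective R (LinearMap.ker (P.d m (m + 1)).hom) := by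
  suffices ∀ (k : ℕ) (i : ℤ), m ≤ i → b + 1 - i ≤ k →
      Module.Finite R (LinearMap.ker (P.d i (i + 1)).hom) ∧
        Module.Projective R (LinearMap.ker (P.d i (i + 1)).hom) from
    this (b + 1 - m).toNat m le_rfl (Int.self_le_toNat _)
  intro k
  induction k with
  | zero =>
    intro i _ hi
    have := ModuleCat.subsingleton_of_isZero (hb i (by omega))
    exact ⟨inferInstance, inferInstance⟩
  | succ k ih =>
    intro i hmi hi
    obtain ⟨h1, h2⟩ := ih (i + 1) (by omega) (by omega)
    let g : P.X i →ₗ[R] LinearMap.ker (P.d (i + 1) (i + 1 + 1)).hom :=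
      (P.d i (i + 1)).hom.codRestrict _ fun x => LinearMap.mem_ker.2
        congr($(P.d_comp_d i (i + 1) (i + 1 + 1)).hom x)
    have hg : Function.Surjective g := fun z => by
      obtain ⟨y, hy⟩ := (KFlatLib.isZero_homology_iff_exists P i (i + 1) (i + 1 + 1) rfl rfl).1
        (hex (i + 1) (by omega)) z.1 (LinearMap.mem_ker.1 z.2)
      exact ⟨y, Subtype.ext hy⟩
    obtain ⟨s, hs⟩ := Module.projective_lifting_property g LinearMap.id hg
    have hker : LinearMap.ker g = LinearMap.ker (P.d i (i + 1)).hom :=
      LinearMap.ker_codRestrict _ _ _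
    let p : P.X i →ₗ[R] LinearMap.ker g :=
      (LinearMap.id - s.comp g).codRestrict _ fun x => by
        have := LinearMap.congr_fun hs (g x)
        simp only [LinearMap.comp_apply, LinearMap.id_apply] at this
        simp [LinearMap.mem_ker, this]
    have hp : ∀ z : LinearMap.ker g, p z = z := fun z => Subtype.ext (by
      simp [p, LinearMap.mem_ker.1 z.2])
    have := (hP i).1
    have := (hP i).2
    have hfin : Module.Finite R (LinearMap.ker g) :=
      Module.Finite.of_surjective p fun z => ⟨z, hp z⟩
    have hproj : Module.Projective R (LinearMap.ker g) :=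
      Module.Projective.of_split (LinearMap.ker g).subtype p (LinearMap.ext hp)
    rw [hker] at hfin hproj
    exact ⟨hfin, hproj⟩

/-- The cohomology in degree `m` as a quotient of the cycles. -/
theorem homology_finite_of_cycles (P : CochainComplex (ModuleCat.{u} R) ℤ) (m : ℤ)
    (h : Module.Finite R (LinearMap.ker (P.d m (m + 1)).hom)) :
    Module.Finite R (P.homology m) := by
  let S := P.sc' (m - 1) m (m + 1)
  have e : P.homology m ≅ S.moduleCatLeftHomologyData.H :=
    ShortComplex.homologyMapIso (P.isoSc' (m - 1) m (m + 1) (by simp) (by simp)) ≪≫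
      S.moduleCatHomologyIso
  have h' : Module.Finite R (LinearMap.ker S.g.hom) := h
  have : Module.Finite R (LinearMap.ker S.g.hom ⧸ LinearMap.range S.moduleCatToCycles) :=
    inferInstance
  have : Module.Finite R S.moduleCatLeftHomologyData.H := this
  exact Module.Finite.equiv e.toLinearEquiv.symm

theorem homology_finitePresentation_of_cycles (P : CochainComplex (ModuleCat.{u} R) ℤ) (m : ℤ)
    (hP : Module.Finite R (P.X (m - 1)))
    (h : Module.Finite R (LinearMap.ker (P.d m (m + 1)).hom))
    (h' : Module.Projective R (LinearMap.ker (P.d m (m + 1)).hom)) :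
    Module.FinitePresentation R (P.homology m) := by
  let S := P.sc' (m - 1) m (m + 1)
  have e : P.homology m ≅ S.moduleCatLeftHomologyData.H :=
    ShortComplex.homologyMapIso (P.isoSc' (m - 1) m (m + 1) (by simp) (by simp)) ≪≫
      S.moduleCatHomologyIso
  have h₁ : Module.Finite R (LinearMap.ker S.g.hom) := h
  have h₂ : Module.Projective R (LinearMap.ker S.g.hom) := h'
  have h₃ : Module.Finite R S.X₁ := hP
  have hFP : Module.FinitePresentation R (LinearMap.ker S.g.hom) :=
    Module.finitePresentation_of_projective R _
  have : Module.FinitePresentation R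
      (LinearMap.ker S.g.hom ⧸ LinearMap.range S.moduleCatToCycles) := by
    refine Module.finitePresentation_of_surjective _ (Submodule.mkQ_surjective _) ?_
    rw [Submodule.ker_mkQ, LinearMap.range_eq_map]
    exact Submodule.FG.map _ Module.Finite.fg_top
  have : Module.FinitePresentation R S.moduleCatLeftHomologyData.H := this
  exact Module.FinitePresentation.of_equiv e.toLinearEquiv.symm

theorem finite_Hn_Q {P : CochainComplex (ModuleCat.{u} R) ℤ} {m : ℤ}
    (h : Module.Finite R (P.homology m)) :
    Module.Finite R ((Hn R m).obj (DerivedCategory.Q.obj P)) :=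
  have : Module.Finite R ((homologyFunctor (ModuleCat.{u} R) (ComplexShape.up ℤ) m).obj P) := h
  Module.Finite.equiv
    ((DerivedCategory.homologyFunctorFactors (ModuleCat.{u} R) m).app P).toLinearEquiv.symm

theorem isZero_homology_of_Hn {P : CochainComplex (ModuleCat.{u} R) ℤ} {i : ℤ}
    (h : IsZero ((Hn R i).obj (DerivedCategory.Q.obj P))) : IsZero (P.homology i) :=
  h.of_iso ((DerivedCategory.homologyFunctorFactors (ModuleCat.{u} R) i).app P).symm

theorem isZero_Hn_of_homology {P : CochainComplex (ModuleCat.{u} R) ℤ} {i : ℤ}
    (h : IsZero (P.homology i)) : IsZero ((Hn R i).obj (DerivedCategory.Q.obj P)) :=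
  h.of_iso ((DerivedCategory.homologyFunctorFactors (ModuleCat.{u} R) i).app P)

/-- The highest possibly nonzero cohomology of an `m`-pseudo-coherent object is finite. -/
theorem finite_of_isPseudoCoherent {K : Dual.D R} {m : ℤ} (h : DRing.IsPseudoCoherent R m K)
    (hz : ∀ i, m < i → IsZero ((Hn R i).obj K)) : Module.Finite R ((Hn R m).obj K) := by
  obtain ⟨E, α, ⟨a, b, hab, hf⟩, hα⟩ := isPseudoCoherent_iff.1 h
  have hex : ∀ i, m < i → IsZero (E.homology i) := fun i hi => by
    have := hα.1 i hi
    exact isZero_homology_of_Hn ((hz i hi).of_iso (asIso ((Hn R i).map α)))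
  have hP : ∀ i, Module.Finite R (E.X i) ∧ Module.Projective R (E.X i) := fun i => by
    have := (hf i).2
    exact ⟨(hf i).1, inferInstance⟩
  have := finite_Hn_Q (homology_finite_of_cycles E m
    (finite_projective_cycles E b (fun i hi => hab i (Or.inr hi)) hP m hex).1)
  have := hα.2
  exact Module.Finite.of_surjective ((Hn R m).map α).hom ((ModuleCat.epi_iff_surjective _).1 hα.2)

theorem finitePresentation_of_isPseudoCoherent {K : Dual.D R} {m : ℤ}
    (h : DRing.IsPseudoCoherent R m K) (hz : ∀ i, m + 1 < i → IsZero ((Hn R i).obj K)) :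
    Module.FinitePresentation R ((Hn R (m + 1)).obj K) := by
  obtain ⟨E, α, ⟨a, b, hab, hf⟩, hα⟩ := isPseudoCoherent_iff.1 h
  have hex : ∀ i, m + 1 < i → IsZero (E.homology i) := fun i hi => by
    have := hα.1 i (by omega)
    exact isZero_homology_of_Hn ((hz i hi).of_iso (asIso ((Hn R i).map α)))
  have hP : ∀ i, Module.Finite R (E.X i) ∧ Module.Projective R (E.X i) := fun i => by
    have := (hf i).2
    exact ⟨(hf i).1, inferInstance⟩
  obtain ⟨h1, h2⟩ := finite_projective_cycles E b (fun i hi => hab i (Or.inr hi)) hP (m + 1) hex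
  have := homology_finitePresentation_of_cycles E (m + 1) (hf _).1 h1 h2
  have := hα.1 (m + 1) (by omega)
  have : Module.FinitePresentation R
      ((homologyFunctor (ModuleCat.{u} R) (ComplexShape.up ℤ) (m + 1)).obj E) :=
    ‹Module.FinitePresentation R (E.homology (m + 1))›
  exact Module.FinitePresentation.of_equiv
    (((DerivedCategory.homologyFunctorFactors (ModuleCat.{u} R) (m + 1)).app E).symm ≪≫
      asIso ((Hn R (m + 1)).map α)).toLinearEquiv

end Groth.Agent.DRingLib
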