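import Groth.Agent.DRingLib.Devissage

/-!
# Projective amplitude
-/

set_option autoImplicit false

universe u

open CategoryTheory CategoryTheory.Limits HomologicalComplex
open CategoryTheory.Pretriangulated (Triangle)
open CochainComplex (mappingCone)

attribute [local instance] HasDerivedCategory.standard

namespace Groth.Agent.DRingLib

variable {R : Type u} [CommRing R]

/-- A complex with `Amp a c` whose terms are finite projective in degrees `≥ a - 1` gives a bounded
complex of finite projectives in `[a, c]`. -/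
theorem exists_finiteProjective_cut {P : CochainComplex (ModuleCat.{u} R) ℤ} {a b c : ℤ}
    (hb : ∀ i, b < i → IsZero (P.X i))
    (hP : ∀ i, a - 1 ≤ i → Module.Finite R (P.X i) ∧ Module.Projective R (P.X i))
    (hf : ∀ i, Module.Flat R (P.X i)) (h : Amp a c P) :
    ∃ E : CochainComplex (ModuleCat.{u} R) ℤ, DRing.VanishesOutside E a c ∧
      DRing.TermwiseFiniteProjective E ∧ Nonempty (DerivedCategory.Q.obj E ≅ DerivedCategory.Q.obj P) := by
  let E₁ := P.truncGE a
  have hE₁v : DRing.VanishesOutside E₁ a b := vanishesOutside_truncGE hb a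
  have hE₁p : ∀ i, Module.Finite R (E₁.X i) ∧ Module.Projective R (E₁.X i) := by
    intro i
    have hfl : Module.Flat R (E₁.X i) := flat_truncGE hf h i
    rcases lt_trichotomy i a with hi | hi | hi
    · have hz := hE₁v i (Or.inl hi)
      have := free_of_isZero hz
      exact ⟨finite_of_isZero hz, inferInstance⟩
    · subst hi
      have := (hP i (by omega)).1
      have := (hP i (by omega)).2
      have := (hP (i - 1) le_rfl).1
      have : Module.FinitePresentation R (P.X i) := Module.finitePresentation_of_projective R _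
      have hFP : Module.FinitePresentation R (P.X i ⧸ LinearMap.range (P.d (i - 1) i).hom) := by
        refine Module.finitePresentation_of_surjective _ (Submodule.mkQ_surjective _) ?_
        rw [Submodule.ker_mkQ, LinearMap.range_eq_map]
        exact Submodule.FG.map _ Module.Finite.fg_top
      have : Module.FinitePresentation R (E₁.X i) :=
        Module.FinitePresentation.of_equiv (truncGEXCoker P i).toLinearEquiv.symm
      exact ⟨inferInstance, Module.Flat.projective_of_finitePresentation⟩
    · have := (hP i (by omega)).1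
      have := (hP i (by omega)).2
      exact ⟨Module.Finite.equiv (P.truncGEXIso a i hi).toLinearEquiv.symm,
        Module.Projective.of_equiv (P.truncGEXIso a i hi).toLinearEquiv.symm⟩
  have hz : ∀ i, c < i → IsZero (E₁.homology i) := fun i hi => isZero_homology_of_Hn
    ((isZero_Hn_of_amp h i (Or.inr hi)).of_iso ((Hn R i).mapIso (qTruncGEIso h)))
  have : E₁.IsLE c := by
    rw [CochainComplex.isLE_iff]
    exact fun i hi => (exactAt_iff_isZero_homology _ i).mpr (hz i hi)
  have : QuasiIso (E₁.ιTruncLE c) := (CochainComplex.quasiIso_ιTruncLE_iff E₁ c).mpr this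
  let eK : E₁.cycles c ≅ ModuleCat.of R (LinearMap.ker (E₁.d c (c + 1)).hom) :=
    (E₁.cyclesIsKernel c (c + 1) (by simp)).conePointUniqueUpToIso (limit.isLimit _) ≪≫
      ModuleCat.kernelIsoKer (E₁.d c (c + 1))
  refine ⟨E₁.truncLE c, fun i hi => ?_, fun i => ?_,
    ⟨asIso (DerivedCategory.Q.map (E₁.ιTruncLE c)) ≪≫ qTruncGEIso h⟩⟩
  · by_cases hic : c < i
    · exact CochainComplex.isZero_of_isStrictlyLE (E₁.truncLE c) c i hic
    · rcases (not_lt.mp hic).eq_or_lt with rfl | hlt
      · exact (IsZero.of_mono (E₁.iCycles i) (hE₁v i (by omega))).of_iso (E₁.truncLEXIsoCycles i)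
      · exact (hE₁v i (by omega)).of_iso (E₁.truncLEXIso c i hlt)
  · rcases lt_trichotomy i c with hi | hi | hi
    · have := (hE₁p i).1
      have := (hE₁p i).2
      exact ⟨Module.Finite.equiv (E₁.truncLEXIso c i hi).toLinearEquiv.symm,
        Module.Projective.of_equiv (E₁.truncLEXIso c i hi).toLinearEquiv.symm⟩
    · subst hi
      obtain ⟨h1, h2⟩ := finite_projective_cycles E₁ b (fun j hj => hE₁v j (Or.inr hj)) hE₁p i hz
      let e := (E₁.truncLEXIsoCycles i ≪≫ eK).toLinearEquiv.symm
      exact ⟨Module.Finite.equiv e, Module.Projective.of_equiv e⟩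
    · have hz' := CochainComplex.isZero_of_isStrictlyLE (E₁.truncLE c) c i hi
      have := free_of_isZero hz'
      exact ⟨finite_of_isZero hz', inferInstance⟩

/-- `(a-1)`-pseudo-coherent of tor amplitude `[a, c]` has perfect amplitude `[a, c]`. -/
theorem exists_finiteProjective_of_amplitude {K : Dual.D R} {a c : ℤ}
    (hK : DRing.IsPseudoCoherent R (a - 1) K) (h : DRing.HasTorAmplitudeIn R a c K) :
    ∃ E : CochainComplex (ModuleCat.{u} R) ℤ, DRing.VanishesOutside E a c ∧
      DRing.TermwiseFiniteProjective E ∧ Nonempty (DerivedCategory.Q.obj E ≅ K) := by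
  obtain ⟨E, α, hE, hα⟩ := isPseudoCoherent_iff.1 hK
  obtain ⟨C, p, q, hC⟩ := Pretriangulated.distinguished_cocone_triangle α
  have hz := (Approx.iff_cone (a - 1) _ hC).1 hα
  let T := (Triangle.mk α p q).invRotate
  have hT : T ∈ Pretriangulated.distinguishedTriangles := Pretriangulated.inv_rot_of_distTriang _ hC
  have hzC : ∀ i, a - 1 < i → IsZero ((Hn R i).obj T.obj₁) := fun i hi =>
    (hz (i - 1) (by omega)).of_iso
      (((DerivedCategory.homologyFunctor (ModuleCat.{u} R) 0).shiftIso (-1) i (i - 1) (by omega)).app C)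
  obtain ⟨P, hPb, hPf, ⟨eP⟩⟩ := exists_free_rep T.obj₁ (a - 1) hzC
  have := isKProjective_of_free P (a - 1) hPb hPf
  obtain ⟨g, hg⟩ := Q_map_surjective P E (eP.hom ≫ T.mor₁)
  have hcomm : DerivedCategory.Q.map g ≫ 𝟙 _ = eP.hom ≫ T.mor₁ :=
    (Category.comp_id _).trans hg
  let e := Pretriangulated.isoTriangleOfIso₁₂ _ T (DerivedCategory.mappingCone_triangle_distinguished g)
    hT eP (Iso.refl (DerivedCategory.Q.obj E)) hcomm
  let eK : DerivedCategory.Q.obj (mappingCone g) ≅ K := Triangle.π₃.mapIso e
  obtain ⟨b, hb⟩ := hE.bddAbove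
  obtain ⟨-, -, -, hEf⟩ := id hE
  have hfree : ∀ i, Module.Flat R (E.X i) := fun i => by
    have := (hEf i).2
    infer_instance
  have hflat : ∀ i, Module.Flat R ((mappingCone g).X i) :=
    flat_cone (fun i => by have := hPf i; infer_instance) hfree g
  have hbX : ∀ i, max b (a - 1) < i → IsZero ((mappingCone g).X i) := fun i hi =>
    IsZero.of_iso (biprod_isZero_iff _ _ |>.mpr ⟨hPb (i + 1) (by omega), hb i (by omega)⟩)
      (HomologicalComplex.homotopyCofiber.XIsoBiprod g i (i + 1) rfl)
  have hk : DRing.IsKFlat R (mappingCone g) := KFlatLib.isKFlat_mappingCone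
    (isKFlat_of_free P (a - 1) hPb hPf) hE.isKFlat g
  have hX : ∀ i, a - 1 ≤ i → Module.Finite R ((mappingCone g).X i) ∧
      Module.Projective R ((mappingCone g).X i) := fun i hi => by
    have h0 : (CochainComplex.mappingCone.fst g).1.v i (i + 1) rfl = 0 :=
      (hPb (i + 1) (by omega)).eq_of_tgt _ _
    let e₁ : E.X i ≅ (mappingCone g).X i :=
    { hom := (CochainComplex.mappingCone.inr g).f i
      inv := (CochainComplex.mappingCone.snd g).v i i (add_zero i)
      hom_inv_id := CochainComplex.mappingCone.inr_f_snd_v g i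
      inv_hom_id := by
        have h := CochainComplex.mappingCone.id_X g i (i + 1) rfl
        rwa [h0, zero_comp, zero_add] at h }
    have := (hEf i).1
    have := (hEf i).2
    exact ⟨Module.Finite.equiv e₁.toLinearEquiv, Module.Projective.of_equiv e₁.toLinearEquiv⟩
  obtain ⟨F, hF₁, hF₂, ⟨eF⟩⟩ :=
    exists_finiteProjective_cut hbX hX hflat (amp_of_hasTorAmplitudeIn h hk eK)
  exact ⟨F, hF₁, hF₂, ⟨eF ≪≫ eK⟩⟩

theorem hasTorAmplitudeIn_of_projective {K : Dual.D R} {a c : ℤ}
    {E : CochainComplex (ModuleCat.{u} R) ℤ} (h : DRing.VanishesOutside E a c)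
    (hp : ∀ i, Module.Projective R (E.X i)) (e : DerivedCategory.Q.obj E ≅ K) :
    DRing.HasTorAmplitudeIn R a c K :=
  ⟨E, h, fun i => by have := hp i; infer_instance, ⟨e⟩⟩

/-- The right exactness bound: tor amplitude can be cut to the top cohomology degree. -/
theorem hasTorAmplitudeIn_of_Hn_bound {K : Dual.D R} {a c c' : ℤ}
    (h : DRing.HasTorAmplitudeIn R a c K) (hK : ∀ i, c' < i → IsZero ((Hn R i).obj K)) :
    DRing.HasTorAmplitudeIn R a c' K := by
  obtain ⟨P, hb, hf, ⟨e⟩⟩ := exists_free_rep K c' hK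
  have hk := isKFlat_of_free P c' hb hf
  refine hasTorAmplitudeIn_of_amp hk e fun N i hi => ?_
  rcases hi with hi | hi
  · exact amp_of_hasTorAmplitudeIn h hk e N i (Or.inl hi)
  · exact (exactAt_iff_isZero_homology _ i).mp
      (ShortComplex.exact_of_isZero_X₂ _ ((MonoidalCategory.tensorRight N).map_isZero (hb i hi)))

end Groth.Agent.DRingLib
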