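import Groth.Agent.DRingLib.Amplitude
import Groth.Agent.KFlatLib.AlgMore
import Mathlib.CategoryTheory.Abelian.Projective.Extend
import Mathlib.CategoryTheory.Abelian.LeftDerived

/-!
# Balancing `Tor` and tor dimension of modules
-/

set_option autoImplicit false

universe u

open CategoryTheory CategoryTheory.Limits HomologicalComplex MonoidalCategory
open KFlatLib (tT tMap tensorN ιT)

attribute [local instance] HasDerivedCategory.standard

namespace Groth.Agent.DRingLib

variable {R : Type u} [CommRing R]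

/-- `N[0] ⊗ K ≅ N ⊗ K`. -/
theorem nonempty_singleTensorIso (N : ModuleCat.{u} R) (K : CochainComplex (ModuleCat.{u} R) ℤ) :
    Nonempty (tT ((single (ModuleCat.{u} R) (ComplexShape.up ℤ) 0).obj N) K ≅
      ((tensorLeft N).mapHomologicalComplex (ComplexShape.up ℤ)).obj K) := by
  let N₀ := (single (ModuleCat.{u} R) (ComplexShape.up ℤ) 0).obj N
  have hz : ∀ p : ℤ, p ≠ 0 → IsZero (N₀.X p) := fun p hp =>
    isZero_single_obj_X (ComplexShape.up ℤ) 0 N p hp
  let e : N₀.X 0 ≅ N := singleObjXSelf (ComplexShape.up ℤ) 0 N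
  let j : ∀ n : ℤ, N₀.X 0 ⊗ K.X n ⟶ (tT N₀ K).X n := fun n => ιT N₀ K 0 n n (zero_add n)
  have hj : ∀ n : ℤ, IsIso (j n) := by
    intro n
    have h₁ : j n ≫ KFlatLib.proj 0 n n (zero_add n) = 𝟙 _ := KFlatLib.ιT_proj _ _ _ _
    refine ⟨KFlatLib.proj 0 n n (zero_add n), h₁, ?_⟩
    refine mapBifunctor.hom_ext fun p q h => ?_
    by_cases hp : p = 0
    · subst hp
      obtain rfl : q = n := by
        have : (0 : ℤ) + q = n := h
        omega
      rw [← Category.assoc]
      exact (congrArg (· ≫ j q) (KFlatLib.ιT_proj _ _ _ _)).trans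
        ((Category.id_comp _).trans (Category.comp_id _).symm)
    · exact ((tensorRight (K.X q)).map_isZero (hz p hp)).eq_of_src _ _
  refine ⟨(Hom.isoOfComponents (fun n => (whiskerRightIso e (K.X n)).symm ≪≫ @asIso _ _ _ _ (j n) (hj n))
    ?_).symm⟩
  rintro n n' hn
  obtain rfl : n + 1 = n' := hn
  have hd : N₀.d 0 (0 + 1) = 0 := (hz _ (by omega)).eq_of_tgt _ _
  have h := KFlatLib.ιT_d N₀ K 0 n n (n + 1) (zero_add n) rfl
  rw [hd, MonoidalPreadditive.zero_whiskerRight, zero_comp, zero_add, Int.negOnePow_zero,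
    one_smul] at h
  change ((e.inv ▷ K.X n) ≫ j n) ≫ (tT N₀ K).d n (n + 1) =
    (N ◁ K.d n (n + 1)) ≫ (e.inv ▷ K.X (n + 1)) ≫ j (n + 1)
  rw [Category.assoc, whisker_exchange_assoc e.inv (K.d n (n + 1))]
  exact congrArg _ h

theorem projective_iff_module (M : ModuleCat.{u} R) : Projective M ↔ Module.Projective R M :=
  (IsProjective.iff_projective (M : Type u)).symm

theorem isKFlat_projectiveResolution {M : ModuleCat.{u} R} (P : ProjectiveResolution M) :
    DRing.IsKFlat R P.cochainComplex :=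
  KFlatLib.isKFlat_of_bounded_flat _ 0
    (fun i hi => CochainComplex.isZero_of_isStrictlyLE P.cochainComplex 0 i hi)
    fun i => by
      have : Module.Projective R (P.cochainComplex.X i) := (projective_iff_module _).mp inferInstance
      infer_instance

/-- Balancing: `P ⊗ N` and `M ⊗ Q` have the same vanishing cohomology. -/
theorem isZero_balance_iff {M N : ModuleCat.{u} R} (P : ProjectiveResolution M)
    (Q : ProjectiveResolution N) (i : ℤ) :
    IsZero ((tensorN P.cochainComplex N).homology i) ↔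
      IsZero ((((tensorLeft M).mapHomologicalComplex (ComplexShape.up ℤ)).obj Q.cochainComplex).homology i) := by
  obtain ⟨eM⟩ := nonempty_singleTensorIso M Q.cochainComplex
  obtain ⟨eN⟩ := nonempty_singleTensorIso N P.cochainComplex
  let N₀ := (CochainComplex.singleFunctor (ModuleCat.{u} R) 0).obj N
  have q₁ : QuasiIso (tMap P.π' (𝟙 Q.cochainComplex)) :=
    KFlatLib.quasiIso_tMap_right (isKFlat_projectiveResolution Q) P.π'
  have q₂ : QuasiIso (tMap (𝟙 P.cochainComplex) Q.π') :=
    KFlatLib.quasiIso_tMap_left (isKFlat_projectiveResolution P) Q.π'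
  have i₁ : IsIso (homologyMap (tMap P.π' (𝟙 Q.cochainComplex)) i) :=
    (quasiIsoAt_iff_isIso_homologyMap _ _).mp (q₁.quasiIsoAt i)
  have i₂ : IsIso (homologyMap (tMap (𝟙 P.cochainComplex) Q.π') i) :=
    (quasiIsoAt_iff_isIso_homologyMap _ _).mp (q₂.quasiIsoAt i)
  let H := homologyFunctor (ModuleCat.{u} R) (ComplexShape.up ℤ) i
  let eT : tensorN P.cochainComplex N ≅ tT P.cochainComplex N₀ :=
    ((NatIso.mapHomologicalComplex (BraidedCategory.tensorLeftIsoTensorRight N)
      (ComplexShape.up ℤ)).app P.cochainComplex).symm ≪≫ eN.symm ≪≫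
        KFlatLib.tensorFlipIso P.cochainComplex N₀
  refine Iso.isZero_iff ?_
  exact H.mapIso eT ≪≫ (@asIso _ _ _ _ _ i₂).symm ≪≫ (@asIso _ _ _ _ _ i₁) ≪≫ H.mapIso eM

/-- An additive functor applied to the two forms of a projective resolution. -/
theorem isZero_homology_cochain_iff (F : ModuleCat.{u} R ⥤ ModuleCat.{u} R) [F.Additive]
    {M : ModuleCat.{u} R} (P : ProjectiveResolution M) (q : ℕ) :
    IsZero (((F.mapHomologicalComplex (ComplexShape.up ℤ)).obj P.cochainComplex).homology
        (-((q + 1 : ℕ) : ℤ))) ↔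
      IsZero (((F.mapHomologicalComplex (ComplexShape.down ℕ)).obj P.complex).homology (q + 1)) := by
  rw [← exactAt_iff_isZero_homology, ← exactAt_iff_isZero_homology,
    exactAt_iff' _ (-((q + 2 : ℕ) : ℤ)) (-((q + 1 : ℕ) : ℤ)) (-(q : ℤ)) (by simp; omega) (by simp),
    exactAt_iff' _ (q + 2) (q + 1) q (by simp [ChainComplex.prev]) (by simp)]
  refine ShortComplex.exact_iff_of_iso (ShortComplex.isoMk
    (F.mapIso (P.cochainComplexXIso _ (q + 2) rfl)) (F.mapIso (P.cochainComplexXIso _ (q + 1) rfl))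
    (F.mapIso (P.cochainComplexXIso _ q rfl)) ?_ ?_)
  · change F.map _ ≫ F.map (P.complex.d (q + 2) (q + 1)) = F.map (P.cochainComplex.d _ _) ≫ F.map _
    rw [P.cochainComplex_d _ _ (q + 2) (q + 1) rfl rfl]
    simp only [← F.map_comp, Category.assoc, Iso.inv_hom_id, Category.comp_id]
  · change F.map _ ≫ F.map (P.complex.d (q + 1) q) = F.map (P.cochainComplex.d _ _) ≫ F.map _
    rw [P.cochainComplex_d _ _ (q + 1) q rfl rfl]
    simp only [← F.map_comp, Category.assoc, Iso.inv_hom_id, Category.comp_id]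

theorem subsingleton_tor_iff (M N : ModuleCat.{u} R) (P : ProjectiveResolution M) (q : ℕ) :
    Subsingleton (DRing.Tor R (q + 1) M N) ↔
      IsZero ((tensorN P.cochainComplex N).homology (-((q + 1 : ℕ) : ℤ))) := by
  let Q := projectiveResolution N
  rw [isZero_balance_iff P Q, isZero_homology_cochain_iff (tensorLeft M) Q q]
  exact ModuleCat.isZero_of_iff_subsingleton.symm.trans
    ((Q.isoLeftDerivedObj (tensorLeft M) (q + 1)).isZero_iff)

/-- `M[0]` in `D(R)` is a projective resolution of `M`. -/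
noncomputable def qResolutionIso {M : Type u} [AddCommGroup M] [Module R M]
    (P : ProjectiveResolution (ModuleCat.of R M)) :
    DerivedCategory.Q.obj P.cochainComplex ≅ Dual.inD R M :=
  asIso (DerivedCategory.Q.map P.π') ≪≫
    ((DerivedCategory.singleFunctorIsoCompQ (ModuleCat.{u} R) 0).app (ModuleCat.of R M)).symm

theorem hasTorDimLE_iff_amplitude (M : Type u) [AddCommGroup M] [Module R M] (d : ℕ) :
    DRing.HasTorDimLE R d M ↔ DRing.HasTorAmplitudeIn R (-(d : ℤ)) 0 (Dual.inD R M) := by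
  let P := projectiveResolution (ModuleCat.of R M)
  rw [hasTorAmplitudeIn_iff_amp (isKFlat_projectiveResolution P) (qResolutionIso P)]
  constructor
  · intro h N i hi
    rcases hi with hi | hi
    · obtain ⟨q, hq⟩ : ∃ q : ℕ, i = -((q + 1 : ℕ) : ℤ) := ⟨(-i - 1).toNat, by omega⟩
      subst hq
      exact (subsingleton_tor_iff (ModuleCat.of R M) N P q).mp (h N (q + 1) (by omega))
    · exact (exactAt_iff_isZero_homology _ i).mp (ShortComplex.exact_of_isZero_X₂ _
        ((tensorRight N).map_isZero (CochainComplex.isZero_of_isStrictlyLE P.cochainComplex 0 i hi)))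
  · intro h N _ _ p hp
    obtain ⟨q, rfl⟩ : ∃ q, p = q + 1 := ⟨p - 1, by omega⟩
    exact (subsingleton_tor_iff (ModuleCat.of R M) (ModuleCat.of R N) P q).mpr
      (h (ModuleCat.of R N) _ (Or.inl (by omega)))

theorem hasTorAmplitudeIn_zero_iff_flat (M : Type u) [AddCommGroup M] [Module R M] :
    DRing.HasTorAmplitudeIn R 0 0 (Dual.inD R M) ↔ Module.Flat R M := by
  constructor
  · rintro ⟨E, hE, hf, ⟨e⟩⟩
    have : E.IsStrictlyGE 0 :=
      (CochainComplex.isStrictlyGE_iff E 0).mpr fun i hi => hE i (Or.inl hi)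
    have : E.IsStrictlyLE 0 :=
      (CochainComplex.isStrictlyLE_iff E 0).mpr fun i hi => hE i (Or.inr hi)
    obtain ⟨X, ⟨e'⟩⟩ := CochainComplex.exists_iso_single E 0
    let eX : E.X 0 ≅ ModuleCat.of R M :=
      (HomologicalComplex.eval (ModuleCat.{u} R) (ComplexShape.up ℤ) 0).mapIso e' ≪≫
        singleObjXSelf (ComplexShape.up ℤ) 0 X ≪≫
        ((DerivedCategory.singleFunctorCompHomologyFunctorIso (ModuleCat.{u} R) 0).app X).symm ≪≫
        (Hn R 0).mapIso ((DerivedCategory.singleFunctorIsoCompQ (ModuleCat.{u} R) 0).app X ≪≫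
          DerivedCategory.Q.mapIso e'.symm ≪≫ e) ≪≫
        (DerivedCategory.singleFunctorCompHomologyFunctorIso (ModuleCat.{u} R) 0).app (ModuleCat.of R M)
    have := hf 0
    exact Module.Flat.of_linearEquiv eX.toLinearEquiv.symm
  · intro h
    refine ⟨(CochainComplex.singleFunctor (ModuleCat.{u} R) 0).obj (ModuleCat.of R M),
      fun i hi => isZero_single_obj_X _ 0 _ i (by omega), fun i => ?_,
      ⟨((DerivedCategory.singleFunctorIsoCompQ (ModuleCat.{u} R) 0).app (ModuleCat.of R M)).symm⟩⟩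
    by_cases hi : i = 0
    · subst hi
      exact Module.Flat.of_linearEquiv (singleObjXSelf (ComplexShape.up ℤ) 0 (ModuleCat.of R M)).toLinearEquiv
    · have := free_of_isZero (isZero_single_obj_X (ComplexShape.up ℤ) 0 (ModuleCat.of R M) i hi)
      exact inferInstanceAs (Module.Flat R
        (((single (ModuleCat.{u} R) (ComplexShape.up ℤ) 0).obj (ModuleCat.of R M)).X i))

end Groth.Agent.DRingLib
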