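import Groth.Agent.DRingLib.ResolProps
import Groth.Agent.KFlatLib.Derived
import Groth.Agent.KFlatLib.RingBaseChange
import Groth.Prelude.Def_DDual2
import Mathlib.Algebra.Homology.DerivedCategory.Basic

/-!
# Left derived functors on `D(R)` through K-flat resolutions; derived base change
-/

set_option autoImplicit false

universe u w v

open CategoryTheory CategoryTheory.Limits

attribute [local instance] HasDerivedCategory.standard

namespace Groth.Agent.DRingLib

open KFlatLib (derivedOfResα isRightKanExtension_derivedOfRes isRightKanExtension_liftQuotient derivedOfResα_app)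

variable {R : Type u} [CommRing R] {B : Type w} [Category.{v} B] [Abelian B] [HasDerivedCategory B]

variable (Φ : (ModuleCat.{u} R) ⥤ B) [Φ.Additive]

/-- `Φ` preserves quasi-isomorphisms between K-flat complexes. -/
def PreservesKFlatQis : Prop :=
  ∀ (P Q : CochainComplex (ModuleCat.{u} R) ℤ) (α : P ⟶ Q), DRing.IsKFlat R P → DRing.IsKFlat R Q → QuasiIso α →
    QuasiIso ((Φ.mapHomologicalComplex (ComplexShape.up ℤ)).map α)

/-- The functor `K(R) ⥤ D(B)` induced by `Φ`. -/
noncomputable abbrev khFunctor : HomotopyCategory (ModuleCat.{u} R) (ComplexShape.up ℤ) ⥤ DerivedCategory B :=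
  Φ.mapHomotopyCategory (ComplexShape.up ℤ) ⋙ DerivedCategory.Qh

variable {Φ}

theorem isIso_khFunctor_map (hΦ : PreservesKFlatQis Φ) {P Q : CochainComplex (ModuleCat.{u} R) ℤ}
    (α : P ⟶ Q) (hP : DRing.IsKFlat R P) (hQ : DRing.IsKFlat R Q) (hα : QuasiIso α) :
    IsIso ((HomotopyCategory.quotient (ModuleCat.{u} R) (ComplexShape.up ℤ) ⋙ khFunctor Φ).map α) := by
  have := hΦ P Q α hP hQ hα
  have : IsIso (DerivedCategory.Q.map ((Φ.mapHomologicalComplex (ComplexShape.up ℤ)).map α)) :=
    inferInstance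
  have h2 : IsIso ((HomotopyCategory.quotient B (ComplexShape.up ℤ) ⋙ DerivedCategory.Qh).map
      ((Φ.mapHomologicalComplex (ComplexShape.up ℤ)).map α)) :=
    (NatIso.isIso_map_iff (DerivedCategory.quotientCompQhIso B) _).2 this
  exact h2

/-- The left derived functor computed by the functorial K-flat resolution. -/
theorem exists_leftDerived (hΦ : PreservesKFlatQis Φ) :
    ∃ (LF : DerivedCategory (ModuleCat.{u} R) ⥤ DerivedCategory B)
      (α : DerivedCategory.Qh ⋙ LF ⟶ khFunctor Φ),
      LF.IsRightKanExtension α ∧ ∀ K : CochainComplex (ModuleCat.{u} R) ℤ, DRing.IsKFlat R K →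
        IsIso (α.app ((HomotopyCategory.quotient (ModuleCat.{u} R) (ComplexShape.up ℤ)).obj K)) := by
  let q := HomotopyCategory.quotient (ModuleCat.{u} R) (ComplexShape.up ℤ)
  let W := HomologicalComplex.quasiIso (ModuleCat.{u} R) (ComplexShape.up ℤ)
  have : (q ⋙ DerivedCategory.Qh).IsLocalization W :=
    Functor.IsLocalization.of_iso W (DerivedCategory.quotientCompQhIso (ModuleCat.{u} R)).symm
  have hψ : ∀ K, W ((resψ R).app K) := fun K => quasiIso_resψ K
  have hR : W.IsInvertedBy (resP R ⋙ q ⋙ khFunctor Φ) := fun K L f (hf : QuasiIso f) => by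
    refine isIso_khFunctor_map hΦ _ (good_resP K).1 (good_resP L).1 ?_
    have := quasiIso_resψ K
    have := quasiIso_resψ L
    have : QuasiIso ((resP R).map f ≫ (resψ R).app L) := by
      rw [(resψ R).naturality f]
      change QuasiIso ((resψ R).app K ≫ f)
      exact quasiIso_comp _ _
    exact quasiIso_of_comp_right ((resP R).map f) ((resψ R).app L)
  have := isRightKanExtension_derivedOfRes (q ⋙ DerivedCategory.Qh) W (q ⋙ khFunctor Φ) (resP R)
    (resψ R) hψ
    (fun K => isIso_khFunctor_map hΦ _ (good_resP _).1 (good_resP _).1 (hψ _)) hR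
  refine ⟨_, _, isRightKanExtension_liftQuotient DerivedCategory.Qh (khFunctor Φ) _
    (derivedOfResα (q ⋙ DerivedCategory.Qh) W (q ⋙ khFunctor Φ) (resP R) (resψ R) hR),
    fun K hK => ?_⟩
  change IsIso ((derivedOfResα (q ⋙ DerivedCategory.Qh) W (q ⋙ khFunctor Φ) (resP R) (resψ R) hR).app K)
  rw [derivedOfResα_app]
  have := isIso_khFunctor_map hΦ _ (good_resP K).1 hK (hψ K)
  exact @IsIso.comp_isIso _ _ _ _ _ _ _
    (inferInstanceAs (IsIso ((Localization.fac _ hR (q ⋙ DerivedCategory.Qh)).app K).hom)) this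

/-- An additive functor preserving quasi-isomorphisms between K-flat complexes has a total left
derived functor. -/
theorem hasLeftDerived_of_kFlat (hΦ : PreservesKFlatQis Φ) :
    (khFunctor Φ).HasLeftDerivedFunctor
      (HomotopyCategory.quasiIso (ModuleCat.{u} R) (ComplexShape.up ℤ)) := by
  obtain ⟨LF, α, h, -⟩ := exists_leftDerived hΦ
  rw [Functor.hasLeftDerivedFunctor_iff (khFunctor Φ) DerivedCategory.Qh]
  exact Functor.HasRightKanExtension.mk _ α

/-- The left derived functor is computed by K-flat complexes. -/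
theorem isIso_counit_of_kFlat (hΦ : PreservesKFlatQis Φ)
    [(khFunctor Φ).HasLeftDerivedFunctor (HomotopyCategory.quasiIso (ModuleCat.{u} R) (ComplexShape.up ℤ))]
    (K : CochainComplex (ModuleCat.{u} R) ℤ) (hK : DRing.IsKFlat R K) :
    IsIso (((khFunctor Φ).totalLeftDerivedCounit DerivedCategory.Qh
      (HomotopyCategory.quasiIso (ModuleCat.{u} R) (ComplexShape.up ℤ))).app
        ((HomotopyCategory.quotient (ModuleCat.{u} R) (ComplexShape.up ℤ)).obj K)) := by
  obtain ⟨LF, α, h, hiso⟩ := exists_leftDerived hΦ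
  have := hiso K hK
  let W := HomotopyCategory.quasiIso (ModuleCat.{u} R) (ComplexShape.up ℤ)
  have h' : ((khFunctor Φ).totalLeftDerived DerivedCategory.Qh W).IsRightKanExtension
      ((khFunctor Φ).totalLeftDerivedCounit DerivedCategory.Qh W) :=
    Functor.IsLeftDerivedFunctor.isRightKanExtension _ _ W
  exact KFlatLib.isIso_app_of_isRightKanExtension _ LF _ α _

/-- The value of the left derived functor at a K-flat complex. -/
noncomputable def leftDerivedObjIso (hΦ : PreservesKFlatQis Φ)
    [(khFunctor Φ).HasLeftDerivedFunctor (HomotopyCategory.quasiIso (ModuleCat.{u} R) (ComplexShape.up ℤ))]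
    (K : CochainComplex (ModuleCat.{u} R) ℤ) (hK : DRing.IsKFlat R K) :
    ((khFunctor Φ).totalLeftDerived DerivedCategory.Qh
      (HomotopyCategory.quasiIso (ModuleCat.{u} R) (ComplexShape.up ℤ))).obj (DerivedCategory.Q.obj K) ≅
      DerivedCategory.Q.obj ((Φ.mapHomologicalComplex (ComplexShape.up ℤ)).obj K) :=
  ((khFunctor Φ).totalLeftDerived DerivedCategory.Qh _).mapIso
      ((DerivedCategory.quotientCompQhIso (ModuleCat.{u} R)).app K).symm ≪≫
    @asIso _ _ _ _ _ (isIso_counit_of_kFlat hΦ K hK) ≪≫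
    (DerivedCategory.quotientCompQhIso B).app _

/-- The left derived functor. -/
noncomputable abbrev lDer (Φ : ModuleCat.{u} R ⥤ B) [Φ.Additive]
    [(khFunctor Φ).HasLeftDerivedFunctor (HomotopyCategory.quasiIso (ModuleCat.{u} R) (ComplexShape.up ℤ))] :
    DerivedCategory (ModuleCat.{u} R) ⥤ DerivedCategory B :=
  (khFunctor Φ).totalLeftDerived DerivedCategory.Qh
    (HomotopyCategory.quasiIso (ModuleCat.{u} R) (ComplexShape.up ℤ))

variable [(khFunctor Φ).HasLeftDerivedFunctor (HomotopyCategory.quasiIso (ModuleCat.{u} R) (ComplexShape.up ℤ))]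

theorem leftDerivedObjIso_natural (hΦ : PreservesKFlatQis Φ) {K L : CochainComplex (ModuleCat.{u} R) ℤ}
    (hK : DRing.IsKFlat R K) (hL : DRing.IsKFlat R L) (φ : K ⟶ L) :
    (lDer Φ).map (DerivedCategory.Q.map φ) ≫ (leftDerivedObjIso hΦ L hL).hom =
      (leftDerivedObjIso hΦ K hK).hom ≫
        DerivedCategory.Q.map ((Φ.mapHomologicalComplex (ComplexShape.up ℤ)).map φ) := by
  simp only [leftDerivedObjIso, Iso.trans_hom, Functor.mapIso_hom, asIso_hom, Iso.symm_hom,
    Iso.app_inv, Iso.app_hom, Category.assoc]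
  have h₁ := (DerivedCategory.quotientCompQhIso (ModuleCat.{u} R)).inv.naturality φ
  rw [← Category.assoc, ← Functor.map_comp, h₁, Functor.map_comp, Category.assoc]
  refine congrArg (_ ≫ ·) ?_
  have h₂ := ((khFunctor Φ).totalLeftDerivedCounit DerivedCategory.Qh
    (HomotopyCategory.quasiIso (ModuleCat.{u} R) (ComplexShape.up ℤ))).naturality
      ((HomotopyCategory.quotient (ModuleCat.{u} R) (ComplexShape.up ℤ)).map φ)
  refine ((Category.assoc _ _ _).symm.trans (congrArg (· ≫ _) h₂)).trans
    ((Category.assoc _ _ _).trans (congrArg (_ ≫ ·) ?_))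
  exact (DerivedCategory.quotientCompQhIso B).hom.naturality
    ((Φ.mapHomologicalComplex (ComplexShape.up ℤ)).map φ)

/-- Every object of `D(R)` is the image of a K-flat complex with flat terms. -/
theorem exists_good_rep (K : DerivedCategory (ModuleCat.{u} R)) :
    ∃ P : CochainComplex (ModuleCat.{u} R) ℤ, Good P ∧ Nonempty (DerivedCategory.Q.obj P ≅ K) := by
  have := quasiIso_resψ (DerivedCategory.Q.objPreimage K)
  exact ⟨_, good_resP _, ⟨asIso (DerivedCategory.Q.map
    ((resψ R).app (DerivedCategory.Q.objPreimage K))) ≪≫ DerivedCategory.Q.objObjPreimageIso K⟩⟩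

section BaseChange

variable {A A' : Type u} [CommRing A] [CommRing A'] (φ : A →+* A')

theorem preservesKFlatQis_extend :
    PreservesKFlatQis (ModuleCat.extendScalars.{u, u, u} φ) :=
  fun _ _ α hP hQ _ => KFlatLib.quasiIso_extend φ hP hQ α

/-- Derived base change exists on `D(A)`. -/
theorem hasLBaseChange : DRing.HasLBaseChange φ :=
  hasLeftDerived_of_kFlat (preservesKFlatQis_extend φ)

/-- Derived base change of a K-flat complex is its base change. -/
noncomputable def lBaseChangeObjIso [DRing.HasLBaseChange φ]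
    (P : CochainComplex (ModuleCat.{u} A) ℤ) (hP : DRing.IsKFlat A P) :
    (DRing.LBaseChange φ).obj (DerivedCategory.Q.obj P) ≅
      DerivedCategory.Q.obj (((ModuleCat.extendScalars.{u, u, u} φ).mapHomologicalComplex
        (ComplexShape.up ℤ)).obj P) :=
  leftDerivedObjIso (preservesKFlatQis_extend φ) P hP

theorem lBaseChangeObjIso_natural [DRing.HasLBaseChange φ]
    {P Q : CochainComplex (ModuleCat.{u} A) ℤ} (hP : DRing.IsKFlat A P) (hQ : DRing.IsKFlat A Q)
    (g : P ⟶ Q) :
    (DRing.LBaseChange φ).map (DerivedCategory.Q.map g) ≫ (lBaseChangeObjIso φ Q hQ).hom =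
      (lBaseChangeObjIso φ P hP).hom ≫ DerivedCategory.Q.map
        (((ModuleCat.extendScalars.{u, u, u} φ).mapHomologicalComplex (ComplexShape.up ℤ)).map g) :=
  leftDerivedObjIso_natural (preservesKFlatQis_extend φ) hP hQ g

end BaseChange

end Groth.Agent.DRingLib
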