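import Groth.Agent.DRingLib.PCohDevissage
import Groth.Agent.KFlatLib.TorRing
import Mathlib.RingTheory.Flat.EquationalCriterion

/-!
# Tor amplitude in `D(R)`
-/

set_option autoImplicit false

universe u

open CategoryTheory CategoryTheory.Limits HomologicalComplex MonoidalCategory
open CochainComplex (mappingCone)
open KFlatLib (tensorN)

attribute [local instance] HasDerivedCategory.standard

namespace Groth.Agent.DRingLib

variable {R : Type u} [CommRing R]

/-- `- ⊗ N` on complexes. -/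
noncomputable abbrev tensorNF (N : ModuleCat.{u} R) :
    CochainComplex (ModuleCat.{u} R) ℤ ⥤ CochainComplex (ModuleCat.{u} R) ℤ :=
  (tensorRight N).mapHomologicalComplex (ComplexShape.up ℤ)

theorem acyclic_tensorN {P : CochainComplex (ModuleCat.{u} R) ℤ} (hP : DRing.IsKFlat R P)
    (h0 : ∀ i, IsZero (P.homology i)) (N : ModuleCat.{u} R) :
    ∀ i, IsZero ((tensorN P N).homology i) :=
  KFlatLib.acyclic_of_iso ((NatIso.mapHomologicalComplex
    (BraidedCategory.tensorLeftIsoTensorRight N) (ComplexShape.up ℤ)).app P)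
      (KFlatLib.acyclic_tensorLeft hP h0 N)

theorem quasiIso_tensorN {P Q : CochainComplex (ModuleCat.{u} R) ℤ} (g : P ⟶ Q) [QuasiIso g]
    (hP : DRing.IsKFlat R P) (hQ : DRing.IsKFlat R Q) (N : ModuleCat.{u} R) :
    QuasiIso ((tensorNF N).map g) :=
  KFlatLib.quasiIso_map_of_cone _ g (acyclic_tensorN (KFlatLib.isKFlat_mappingCone hP hQ g)
    ((KFlatLib.acyclic_cone_iff g).mpr inferInstance) N)

/-- `H^i(P ⊗ N) = 0` for every module `N` and every `i` outside `[a, c]`. -/
def Amp (a c : ℤ) (P : CochainComplex (ModuleCat.{u} R) ℤ) : Prop :=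
  ∀ (N : ModuleCat.{u} R) (i : ℤ), (i < a ∨ c < i) → IsZero ((tensorN P N).homology i)

theorem amp_iff_of_quasiIso {P Q : CochainComplex (ModuleCat.{u} R) ℤ} (g : P ⟶ Q) [QuasiIso g]
    (hP : DRing.IsKFlat R P) (hQ : DRing.IsKFlat R Q) {a c : ℤ} : Amp a c P ↔ Amp a c Q := by
  refine forall_congr' fun N => forall_congr' fun i => imp_congr_right fun _ => ?_
  have := quasiIso_tensorN g hP hQ N
  have : IsIso (homologyMap ((tensorNF N).map g) i) :=
    (quasiIsoAt_iff_isIso_homologyMap _ _).mp (this.quasiIsoAt i)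
  exact (asIso (homologyMap ((tensorNF N).map g) i)).isZero_iff

theorem amp_of_isZero_X {P : CochainComplex (ModuleCat.{u} R) ℤ} {a c : ℤ}
    (h : ∀ i, (i < a ∨ c < i) → IsZero (P.X i)) : Amp a c P :=
  fun N i hi => (exactAt_iff_isZero_homology _ i).mp
    (ShortComplex.exact_of_isZero_X₂ _ ((tensorRight N).map_isZero (h i hi)))

theorem isZero_homology_of_amp {P : CochainComplex (ModuleCat.{u} R) ℤ} {a c : ℤ}
    (h : Amp a c P) (i : ℤ) (hi : i < a ∨ c < i) : IsZero (P.homology i) := by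
  let e : tensorN P (𝟙_ (ModuleCat.{u} R)) ≅ P := Hom.isoOfComponents (fun n => ρ_ (P.X n))
    (fun p q _ => (rightUnitor_naturality (P.d p q)).symm)
  exact (h (𝟙_ _) i hi).of_iso ((homologyFunctor _ _ i).mapIso e).symm

theorem isZero_Hn_of_amp {P : CochainComplex (ModuleCat.{u} R) ℤ} {a c : ℤ}
    (h : Amp a c P) (i : ℤ) (hi : i < a ∨ c < i) :
    IsZero ((Hn R i).obj (DerivedCategory.Q.obj P)) :=
  isZero_Hn_of_homology (isZero_homology_of_amp h i hi)

/-- An isomorphism in `D(R)` out of a K-projective complex comes from a quasi-isomorphism. -/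
theorem exists_qis_of_iso (F P : CochainComplex (ModuleCat.{u} R) ℤ) [F.IsKProjective]
    (e : DerivedCategory.Q.obj F ≅ DerivedCategory.Q.obj P) : ∃ g : F ⟶ P, QuasiIso g := by
  obtain ⟨g, hg⟩ := Q_map_surjective F P e.hom
  refine ⟨g, (DerivedCategory.isIso_Q_map_iff_quasiIso (φ := g)).mp ?_⟩
  rw [hg]
  infer_instance

theorem isKFlat_of_flatAmplitude {E : CochainComplex (ModuleCat.{u} R) ℤ} {a c : ℤ}
    (hE : DRing.VanishesOutside E a c) (hf : DRing.TermwiseFlat E) : DRing.IsKFlat R E :=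
  KFlatLib.isKFlat_of_bounded_flat E c (fun i hi => hE i (Or.inr hi)) hf

/-- Tor amplitude bounds the homology of `P ⊗ N` for every K-flat representative. -/
theorem amp_of_hasTorAmplitudeIn {K : Dual.D R} {a c : ℤ}
    (h : DRing.HasTorAmplitudeIn R a c K) {P : CochainComplex (ModuleCat.{u} R) ℤ}
    (hP : DRing.IsKFlat R P) (e : DerivedCategory.Q.obj P ≅ K) : Amp a c P := by
  obtain ⟨E, hE, hf, ⟨e'⟩⟩ := h
  obtain ⟨F, hFb, hFf, ⟨eF⟩⟩ := exists_free_rep (DerivedCategory.Q.obj E) c fun i hi =>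
    isZero_Hn_Q E i (hE i (Or.inr hi))
  have := isKProjective_of_free F c hFb hFf
  obtain ⟨g₁, hg₁⟩ := exists_qis_of_iso F E eF
  obtain ⟨g₂, hg₂⟩ := exists_qis_of_iso F P (eF ≪≫ e' ≪≫ e.symm)
  have hF := isKFlat_of_free F c hFb hFf
  exact (amp_iff_of_quasiIso g₂ hF hP).mp
    ((amp_iff_of_quasiIso g₁ hF (isKFlat_of_flatAmplitude hE hf)).mpr (amp_of_isZero_X hE))

/-- The truncation `τ_{≥ a}` is `coker(d^{a-1})` in degree `a`. -/
noncomputable def truncGEXCoker (P : CochainComplex (ModuleCat.{u} R) ℤ) (a : ℤ) :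
    (P.truncGE a).X a ≅
      ModuleCat.of R (P.X a ⧸ LinearMap.range (P.d (a - 1) a).hom) :=
  P.truncGEXIsoOpcycles a ≪≫
    (P.opcyclesIsCokernel (a - 1) a (by simp)).coconePointUniqueUpToIso (colimit.isColimit _) ≪≫
    ModuleCat.cokernelIsoRangeQuotient (P.d (a - 1) a)

/-- The truncation of a complex of flat modules with `Amp a c`. -/
theorem flat_truncGE {P : CochainComplex (ModuleCat.{u} R) ℤ} {a c : ℤ}
    (hf : ∀ i, Module.Flat R (P.X i)) (h : Amp a c P) (i : ℤ) :
    Module.Flat R ((P.truncGE a).X i) := by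
  rcases lt_trichotomy i a with hi | hi | hi
  · have := free_of_isZero (CochainComplex.isZero_of_isStrictlyGE (P.truncGE a) a i hi)
    infer_instance
  · subst hi
    have := hf i
    have := KFlatLib.flat_coker_of_homology P i fun N => h N (i - 1) (Or.inl (by omega))
    exact Module.Flat.of_linearEquiv (truncGEXCoker P i).toLinearEquiv
  · have := hf i
    exact Module.Flat.of_linearEquiv (P.truncGEXIso a i hi).toLinearEquiv

theorem vanishesOutside_truncGE {P : CochainComplex (ModuleCat.{u} R) ℤ} {b : ℤ}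
    (hb : ∀ i, b < i → IsZero (P.X i)) (a : ℤ) : DRing.VanishesOutside (P.truncGE a) a b := by
  rintro i (hi | hi)
  · exact CochainComplex.isZero_of_isStrictlyGE (P.truncGE a) a i hi
  · rcases lt_trichotomy i a with hi' | hi' | hi'
    · exact CochainComplex.isZero_of_isStrictlyGE (P.truncGE a) a i hi'
    · subst hi'
      have := ModuleCat.subsingleton_of_isZero (hb i hi)
      exact (ModuleCat.isZero_of_subsingleton
        (ModuleCat.of R (P.X i ⧸ LinearMap.range (P.d (i - 1) i).hom))).of_iso (truncGEXCoker P i)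
    · exact (hb i hi).of_iso (P.truncGEXIso a i hi')

/-- `Q P ≅ Q (τ_{≥ a} P)` when `P` has no homology below `a`. -/
noncomputable def qTruncGEIso {P : CochainComplex (ModuleCat.{u} R) ℤ} {a c : ℤ}
    (h : Amp a c P) : DerivedCategory.Q.obj (P.truncGE a) ≅ DerivedCategory.Q.obj P := by
  have : P.IsGE a := by
    rw [CochainComplex.isGE_iff]
    intro i hi
    rw [exactAt_iff_isZero_homology]
    exact isZero_homology_of_amp h i (Or.inl hi)
  have : QuasiIso (P.πTruncGE a) := (CochainComplex.quasiIso_πTruncGE_iff P a).mpr this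
  exact (asIso (DerivedCategory.Q.map (P.πTruncGE a))).symm

/-- The homological criterion for tor amplitude. -/
theorem hasTorAmplitudeIn_of_amp {K : Dual.D R} {a c : ℤ}
    {P : CochainComplex (ModuleCat.{u} R) ℤ} (hP : DRing.IsKFlat R P)
    (e : DerivedCategory.Q.obj P ≅ K) (h : Amp a c P) : DRing.HasTorAmplitudeIn R a c K := by
  obtain ⟨F, hFb, hFf, ⟨eF⟩⟩ := exists_free_rep (DerivedCategory.Q.obj P) c fun i hi =>
    isZero_Hn_of_amp h i (Or.inr hi)
  have := isKProjective_of_free F c hFb hFf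
  obtain ⟨g, hg⟩ := exists_qis_of_iso F P eF
  have hA : Amp a c F := (amp_iff_of_quasiIso g (isKFlat_of_free F c hFb hFf) hP).mpr h
  exact ⟨F.truncGE a, vanishesOutside_truncGE hFb a,
    fun i => flat_truncGE (fun j => by have := hFf j; infer_instance) hA i,
    ⟨qTruncGEIso hA ≪≫ eF ≪≫ e⟩⟩

theorem hasTorAmplitudeIn_iff_amp {K : Dual.D R} {a c : ℤ}
    {P : CochainComplex (ModuleCat.{u} R) ℤ} (hP : DRing.IsKFlat R P)
    (e : DerivedCategory.Q.obj P ≅ K) : DRing.HasTorAmplitudeIn R a c K ↔ Amp a c P :=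
  ⟨fun h => amp_of_hasTorAmplitudeIn h hP e, hasTorAmplitudeIn_of_amp hP e⟩

theorem hasTorAmplitudeIn_of_iso {K L : Dual.D R} {a c : ℤ} (e : K ≅ L)
    (h : DRing.HasTorAmplitudeIn R a c K) : DRing.HasTorAmplitudeIn R a c L := by
  obtain ⟨E, h₁, h₂, ⟨e'⟩⟩ := h
  exact ⟨E, h₁, h₂, ⟨e' ≪≫ e⟩⟩

theorem hasTorAmplitudeIn_mono {K : Dual.D R} {a a' c c' : ℤ} (ha : a' ≤ a) (hc : c ≤ c')
    (h : DRing.HasTorAmplitudeIn R a c K) : DRing.HasTorAmplitudeIn R a' c' K := by
  obtain ⟨E, h₁, h₂, e'⟩ := h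
  exact ⟨E, fun i hi => h₁ i (by omega), h₂, e'⟩

/-- A bounded above finite free complex with `Amp a c` is perfect. -/
theorem isPerfect_of_amp {P : CochainComplex (ModuleCat.{u} R) ℤ} {a b c : ℤ}
    (hb : ∀ i, b < i → IsZero (P.X i))
    (hP : ∀ i, Module.Finite R (P.X i) ∧ Module.Projective R (P.X i)) (h : Amp a c P)
    {K : Dual.D R} (e : DerivedCategory.Q.obj P ≅ K) : DRing.IsPerfect R K := by
  refine ⟨P.truncGE a, a, b, vanishesOutside_truncGE hb a, fun i => ?_, ⟨qTruncGEIso h ≪≫ e⟩⟩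
  have hfl : Module.Flat R ((P.truncGE a).X i) :=
    flat_truncGE (fun j => by have := (hP j).2; infer_instance) h i
  rcases lt_trichotomy i a with hi | hi | hi
  · have hz := CochainComplex.isZero_of_isStrictlyGE (P.truncGE a) a i hi
    have := free_of_isZero hz
    exact ⟨finite_of_isZero hz, inferInstance⟩
  · subst hi
    have := (hP i).1
    have := (hP i).2
    have := (hP (i - 1)).1
    have : Module.FinitePresentation R (P.X i) := Module.finitePresentation_of_projective R _
    have hFP : Module.FinitePresentation R (P.X i ⧸ LinearMap.range (P.d (i - 1) i).hom) := by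
      refine Module.finitePresentation_of_surjective _ (Submodule.mkQ_surjective _) ?_
      rw [Submodule.ker_mkQ, LinearMap.range_eq_map]
      exact Submodule.FG.map _ Module.Finite.fg_top
    have : Module.FinitePresentation R ((P.truncGE i).X i) :=
      Module.FinitePresentation.of_equiv (truncGEXCoker P i).toLinearEquiv.symm
    exact ⟨inferInstance, Module.Flat.projective_of_finitePresentation⟩
  · have := (hP i).1
    have := (hP i).2
    exact ⟨Module.Finite.equiv (P.truncGEXIso a i hi).toLinearEquiv.symm,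
      Module.Projective.of_equiv (P.truncGEXIso a i hi).toLinearEquiv.symm⟩

theorem hasTorAmplitudeIn_of_isPerfect {K : Dual.D R} (h : DRing.IsPerfect R K) :
    ∃ a c : ℤ, DRing.HasTorAmplitudeIn R a c K := by
  obtain ⟨E, a, c, hE, hP, e⟩ := h
  exact ⟨a, c, E, hE, fun i => by have := (hP i).2; infer_instance, e⟩

theorem isPseudoCoherent_of_isPerfect {K : Dual.D R} (h : DRing.IsPerfect R K) (m : ℤ) :
    DRing.IsPseudoCoherent R m K := by
  obtain ⟨E, a, c, hE, hP, ⟨e⟩⟩ := h
  exact forall_isPseudoCoherent_of_projective E c (fun i hi => hE i (Or.inr hi)) hP e m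

/-- Perfect means pseudo-coherent of finite tor dimension. -/
theorem isPerfect_of_forall_of_amplitude {K : Dual.D R} (hK : ∀ m, DRing.IsPseudoCoherent R m K)
    {a c : ℤ} (h : DRing.HasTorAmplitudeIn R a c K) : DRing.IsPerfect R K := by
  obtain ⟨E, b, hb, hff, ⟨e⟩⟩ := isPseudoCoherent'_iff_forall.mpr hK
  have hk : DRing.IsKFlat R E := isKFlat_of_free E b hb fun i => (hff i).2
  exact isPerfect_of_amp (a := a) (c := c) hb
    (fun i => ⟨(hff i).1, by have := (hff i).2; infer_instance⟩)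
    (amp_of_hasTorAmplitudeIn h hk e) e

end Groth.Agent.DRingLib
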