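import Groth.Agent.DRingLib.RgammaHat

/-!
# `H^0` of the derived completion of `RΓ_J M`
-/

set_option autoImplicit false
set_option linter.style.haveILetI false
set_option linter.unusedSectionVars false
set_option backward.isDefEq.respectTransparency false

universe u

open CategoryTheory CategoryTheory.Limits
open CategoryTheory.Pretriangulated (Triangle)
open Groth.Agent.DCompLib (resM extM resD extD adjD φA Van van_iff)
open scoped TensorProduct

attribute [local instance] HasDerivedCategory.standard

namespace Groth.Agent.DRingLib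

variable {A : Type u} [CommRing A] [IsNoetherianRing A] {I : Ideal A} [DRing.HasDerivedCompletion I]

/-- Derived completion is exact, with the given maps. -/
theorem exists_cF_triangle {R' R G : Dual.D A} {v : R' ⟶ R} {w : R ⟶ G} {q : G ⟶ R'⟦(1 : ℤ)⟧}
    (hv : Triangle.mk v w q ∈ Pretriangulated.distinguishedTriangles) :
    ∃ δ, Triangle.mk ((cF I).map v) ((cF I).map w) δ ∈ Pretriangulated.distinguishedTriangles := by
  obtain ⟨C', g', h', hT⟩ := Pretriangulated.distinguished_cocone_triangle ((cF I).map v)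
  obtain ⟨c, hc, hcw⟩ := DCompLib.exists_refl_cone' (I := I) _ _ hv hT (a := DRing.toDerivedCompletion I R')
    (b := DRing.toDerivedCompletion I R) (DCompLib.isRefl_unit R') (DCompLib.isRefl_unit R)
    ((DRing.derivedCompletionAdj I).unit.naturality v)
  obtain ⟨e, he⟩ := exists_iso_cF hc
  have hw : g' ≫ e.hom = (cF I).map w :=
    ((DCompLib.isRefl_unit (I := I) R).2 _ ((DRing.derivedCompletion I).obj G).property).1
      ((((Category.assoc _ _ _).symm.trans (congrArg (· ≫ e.hom) hcw.symm)).trans
        ((Category.assoc _ _ _).trans (congrArg (w ≫ ·) he))).trans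
        ((DRing.derivedCompletionAdj I).unit.naturality w))
  refine ⟨e.inv ≫ h', Pretriangulated.isomorphic_distinguished _ hT _
    (Triangle.isoMk _ _ (Iso.refl _) (Iso.refl _) e.symm ?_ ?_ ?_)⟩
  · exact (Category.comp_id _).trans (Category.id_comp _).symm
  · exact ((congrArg (· ≫ e.inv) hw.symm).trans ((Category.assoc _ _ _).trans
      ((congrArg (g' ≫ ·) e.hom_inv_id).trans (Category.comp_id _)))).trans (Category.id_comp _).symm
  · change (e.inv ≫ h') ≫ (shiftFunctor (Dual.D A) (1 : ℤ)).map (𝟙 _) = e.inv ≫ h'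
    rw [CategoryTheory.Functor.map_id, Category.comp_id]

/-- Iterated localisation. -/
noncomputable def locW : List A → (Dual.D A ⥤ Dual.D A)
  | [] => 𝟭 _
  | g :: w => locD g ⋙ locW w

omit [IsNoetherianRing A] in
theorem exists_locW_triangle (w : List A) {R' R G : Dual.D A} {v : R' ⟶ R} {p : R ⟶ G}
    {q : G ⟶ R'⟦(1 : ℤ)⟧} (hv : Triangle.mk v p q ∈ Pretriangulated.distinguishedTriangles) :
    ∃ δ, Triangle.mk ((locW w).map v) ((locW w).map p) δ ∈ Pretriangulated.distinguishedTriangles := by
  induction w generalizing R' R G with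
  | nil => exact ⟨q, hv⟩
  | cons g w ih => exact ih (Functor.map_distinguished (locD g) _ hv)

variable (I) in
/-- All iterated localisations have completions in nonnegative degrees. -/
def IsGood (X : Dual.D A) : Prop :=
  ∀ (w : List A) (i : ℤ), i < 0 → Van ((cF I).obj ((locW w).obj X)) i

variable (I) in
/-- `H^0` of the completion. -/
noncomputable abbrev H0c : Dual.D A ⥤ ModuleCat.{u} A := cF I ⋙ hF A 0

/-- The inductive construction. -/
theorem exists_coref_good (X : Dual.D A) (hX : IsGood I X) (l : List A) :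
    ∃ (R : Dual.D A) (u : R ⟶ X), IsCoref l u ∧ IsGood I R ∧
      (∀ w, Function.Injective ((H0c I).map ((locW w).map u)).hom) ∧
      ∀ x, x ∈ Set.range ((H0c I).map u).hom ↔ ∀ g ∈ l, ((H0c I).map (toLocD g X)).hom x = 0 := by
  induction l with
  | nil =>
    refine ⟨X, 𝟙 X, isCoref_id fun g hg => absurd hg List.not_mem_nil, hX, fun w a b h => ?_, fun x => ?_⟩
    · simpa using h
    · refine ⟨fun _ g hg => absurd hg List.not_mem_nil, fun _ => ⟨x, ?_⟩⟩
      rw [CategoryTheory.Functor.map_id]
      rfl
  | cons g l ih =>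
    obtain ⟨R, u, hu, hR, hinj, hrange⟩ := ih
    obtain ⟨R', v, q, hv⟩ := Pretriangulated.distinguished_cocone_triangle₁ (toLocD g R)
    have hG : ∀ (w : List A) (i : ℤ), i < 0 → Van ((cF I).obj ((locW w).obj ((locD g).obj R))) i :=
      fun w => hR (g :: w)
    have hR' : IsGood I R' := fun w i hi => by
      obtain ⟨δ, hδ⟩ := exists_locW_triangle w hv
      obtain ⟨δ', hδ'⟩ := exists_cF_triangle (I := I) hδ
      exact (DerivedCategory.HomologySequence.exact₁ _ hδ' (i - 1) i (by omega)).isZero_X₂
        ((hG w (i - 1) (by omega)).eq_of_src _ _) ((hR w i hi).eq_of_tgt _ _)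
    have hvinj : ∀ w, Function.Injective ((H0c I).map ((locW w).map v)).hom := fun w => by
      obtain ⟨δ, hδ⟩ := exists_locW_triangle w hv
      obtain ⟨δ', hδ'⟩ := exists_cF_triangle (I := I) hδ
      intro a b hab
      obtain ⟨y, hy⟩ := (ShortComplex.moduleCat_exact_iff _).1
        (DerivedCategory.HomologySequence.exact₁ _ hδ' (-1) 0 (by omega)) (a - b)
        ((map_sub _ _ _).trans (sub_eq_zero.2 hab))
      have hs := van_iff.1 (hG w (-1) (by omega))
      exact sub_eq_zero.1 (hy.symm.trans ((congrArg _ (hs.elim y 0)).trans (map_zero _)))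
    have hcomp : ∀ (w : List A) (z), ((H0c I).map ((locW w).map (v ≫ u))).hom z =
        ((H0c I).map ((locW w).map u)).hom (((H0c I).map ((locW w).map v)).hom z) := fun w z => by
      rw [Functor.map_comp, Functor.map_comp]; rfl
    refine ⟨R', v ≫ u, isCoref_step hu hv, hR', fun w a b h => hvinj w (hinj w ?_), fun x => ?_⟩
    · rw [← hcomp, ← hcomp, h]
    obtain ⟨δ', hδ'⟩ := exists_cF_triangle (I := I) hv
    have hsq : ∀ (g' : A) (r), ((H0c I).map (toLocD g' X)).hom (((H0c I).map u).hom r) =
        ((H0c I).map ((locD g').map u)).hom (((H0c I).map (toLocD g' R)).hom r) := fun g' r => by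
      have h := ((H0c I).map_comp u (toLocD g' X)).symm.trans
        ((congrArg (H0c I).map ((adjD g').unit.naturality u)).trans
          ((H0c I).map_comp (toLocD g' R) ((locD g').map u)))
      exact congrArg (fun φ => φ.hom r) h
    constructor
    · rintro ⟨z, rfl⟩ g' hg'
      have hc := hcomp [] z
      change ((H0c I).map (v ≫ u)).hom z = ((H0c I).map u).hom (((H0c I).map v).hom z) at hc
      rw [hc]
      rcases List.mem_cons.1 hg' with rfl | hg'
      · rw [hsq]
        refine (congrArg _ ?_).trans (map_zero _)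
        have h := congrArg (fun φ => φ.hom z) (((hF A 0).map_comp _ _).symm.trans ((congrArg (hF A 0).map
          (Pretriangulated.comp_distTriang_mor_zero₁₂ _ hδ')).trans ((hF A 0).map_zero _ _)))
        exact h
      · exact (hrange _).1 ⟨_, rfl⟩ g' hg'
    · intro hx
      obtain ⟨r, rfl⟩ := (hrange x).2 fun g' hg' => hx g' (List.mem_cons_of_mem g hg')
      have h0 : ((H0c I).map (toLocD g R)).hom r = 0 := hinj [g] (by
        rw [map_zero]
        exact (hsq g r).symm.trans (hx g List.mem_cons_self))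
      obtain ⟨z, hz⟩ := (ShortComplex.moduleCat_exact_iff _).1
        (DerivedCategory.HomologySequence.exact₂ _ hδ' 0) r h0
      exact ⟨z, (hcomp [] z).trans (congrArg _ hz)⟩

section Base

omit [IsNoetherianRing A] [DRing.HasDerivedCompletion I]

/-- Cohomology only in degree zero, where it is a localisation of `M`. -/
def IsLocAt (M : ModuleCat.{u} A) (h : A) (X : Dual.D A) : Prop :=
  (∀ i : ℤ, i ≠ 0 → Van X i) ∧
    ∃ f : M ⟶ (hF A 0).obj X, IsLocalizedModule (Submonoid.powers h) f.hom

theorem isLocAt_inD (M : ModuleCat.{u} A) :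
    IsLocAt M 1 ((DerivedCategory.singleFunctor (ModuleCat.{u} A) 0).obj M) := by
  refine ⟨fun i hi => ?_, ((DerivedCategory.singleFunctorCompHomologyFunctorIso (ModuleCat.{u} A) 0).app M).inv, ?_⟩
  · rcases lt_or_gt_of_ne hi with h | h
    · exact DerivedCategory.isZero_of_isGE _ 0 i h
    · exact DerivedCategory.isZero_of_isLE _ 0 i h
  · let e := ((DerivedCategory.singleFunctorCompHomologyFunctorIso (ModuleCat.{u} A) 0).app M).symm.toLinearEquiv
    refine ⟨?_, fun y => ⟨(e.symm y, 1), ?_⟩, fun {x₁ x₂} hx => ⟨1, ?_⟩⟩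
    · rintro ⟨_, n, rfl⟩
      rw [Module.End.isUnit_iff]
      change Function.Bijective fun z : ((hF A 0).obj _ : Type u) => (1 : A) ^ n • z
      simp only [one_pow, one_smul]
      exact Function.bijective_id
    · exact (one_smul _ y).trans (e.apply_symm_apply y).symm
    · exact congrArg _ (e.injective hx)

theorem van_locD (g : A) {X : Dual.D A} {i : ℤ} (h : Van X i) : Van ((locD g).obj X) i := by
  haveI := van_iff.1 h
  have hl := isLocalizedModule_HD_toLocD g X i
  refine van_iff.2 ⟨fun a b => ?_⟩
  obtain ⟨⟨x, s⟩, hx⟩ := hl.surj (a - b)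
  refine sub_eq_zero.1 (((Module.End.isUnit_iff _).1 (hl.map_units s)).1 ?_)
  exact ((hx.trans (congrArg _ (Subsingleton.elim x 0))).trans (map_zero _)).trans (map_zero _).symm

theorem IsLocAt.locD {M : ModuleCat.{u} A} {h : A} {X : Dual.D A} (hX : IsLocAt M h X) (g : A) :
    IsLocAt M (g * h) ((locD g).obj X) := by
  obtain ⟨hv, f, hf⟩ := hX
  haveI := hf
  haveI := isLocalizedModule_HD_toLocD g X 0
  exact ⟨fun i hi => van_locD g (hv i hi), f ≫ (hF A 0).map (toLocD g X),
    isLocalizedModule_comp (g := g) (h := h) f.hom ((hF A 0).map (toLocD g X)).hom⟩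

theorem IsLocAt.locW {M : ModuleCat.{u} A} {h : A} {X : Dual.D A} (hX : IsLocAt M h X) (w : List A) :
    ∃ h', IsLocAt M h' ((DRingLib.locW w).obj X) := by
  induction w generalizing h X with
  | nil => exact ⟨h, hX⟩
  | cons g w ih => exact ih (hX.locD g)

theorem exists_iso_single {X : Dual.D A} (h : ∀ i : ℤ, i ≠ 0 → Van X i) :
    Nonempty (X ≅ (DerivedCategory.singleFunctor (ModuleCat.{u} A) 0).obj ((hF A 0).obj X)) := by
  haveI : X.IsGE 0 := (DerivedCategory.isGE_iff X 0).2 fun i hi => h i (by omega)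
  haveI : X.IsLE 0 := (DerivedCategory.isLE_iff X 0).2 fun i hi => h i (by omega)
  obtain ⟨Y, ⟨e⟩⟩ := DerivedCategory.exists_iso_singleFunctor_obj_of_isGE_of_isLE X 0
  exact ⟨e ≪≫ (DerivedCategory.singleFunctor (ModuleCat.{u} A) 0).mapIso
    (((DerivedCategory.singleFunctorCompHomologyFunctorIso (ModuleCat.{u} A) 0).app Y).symm ≪≫
      (hF A 0).mapIso e.symm)⟩

theorem IsLocAt.exists_iso {M : ModuleCat.{u} A} {h : A} {X X' : Dual.D A} (hX : IsLocAt M h X)
    (hX' : IsLocAt M h X') : Nonempty (X ≅ X') := by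
  obtain ⟨f, hf⟩ := hX.2
  obtain ⟨f', hf'⟩ := hX'.2
  obtain ⟨e⟩ := exists_iso_single hX.1
  obtain ⟨e'⟩ := exists_iso_single hX'.1
  exact ⟨e ≪≫ (DerivedCategory.singleFunctor (ModuleCat.{u} A) 0).mapIso
    (LinearEquiv.toModuleIso ((IsLocalizedModule.iso (Submonoid.powers h) f.hom).symm.trans
      (IsLocalizedModule.iso (Submonoid.powers h) f'.hom))) ≪≫ e'.symm⟩

end Base

section Finite

variable (M : Type u) [AddCommGroup M] [Module A M] [Module.Finite A M] (g : A)

omit [IsNoetherianRing A] [DRing.HasDerivedCompletion I] in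
theorem finite_extD_inD (i : ℤ) :
    Module.Finite (Localization.Away g) (Dual.HD (Localization.Away g) ((extD g).obj (Dual.inD A M)) i) := by
  obtain ⟨e⟩ := exists_homology_iso_mapDerived (extM g) (Dual.inD A M) i
  by_cases hi : i = 0
  · subst hi
    haveI : Module.Finite (Localization.Away g) ((extM g).obj (ModuleCat.of A M)) := by
      refine Module.Finite.equiv (M := Localization.Away g ⊗[A] M) ?_
      exact
        { (extTensorEquiv g (ModuleCat.of A M)).symm.toAddEquiv with
          map_smul' := fun c z => by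
            induction z using TensorProduct.induction_on with
            | zero =>
              change (extTensorEquiv g (ModuleCat.of A M)).symm (c • (0 : Localization.Away g ⊗[A] M)) =
                c • (show ((extM g).obj (ModuleCat.of A M) : Type u) from
                  (extTensorEquiv g (ModuleCat.of A M)).symm 0)
              rw [smul_zero, map_zero]
              exact (smul_zero c).symm
            | tmul b m => rfl
            | add a b ha hb =>
              change (extTensorEquiv g (ModuleCat.of A M)).symm (c • (a + b)) =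
                c • (show ((extM g).obj (ModuleCat.of A M) : Type u) from
                  (extTensorEquiv g (ModuleCat.of A M)).symm (a + b))
              rw [smul_add, map_add, map_add]
              exact (congrArg₂ (· + ·) ha hb).trans (smul_add c _ _).symm }
    haveI : Module.Finite (Localization.Away g) ((extM g).obj ((𝟭 (ModuleCat.{u} A)).obj (ModuleCat.of A M))) := by
      assumption
    exact Module.Finite.equiv (e ≪≫ (extM g).mapIso
      ((DerivedCategory.singleFunctorCompHomologyFunctorIso (ModuleCat.{u} A) 0).app (ModuleCat.of A M))).symm.toLinearEquiv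
  · haveI := ModuleCat.subsingleton_of_isZero
      (((extM g).map_isZero ((isLocAt_inD (ModuleCat.of A M)).1 i hi)).of_iso e)
    exact Module.Finite.of_finite

theorem isGood_inD : IsGood I (Dual.inD A M) := fun w i hi => by
  obtain ⟨h, hh⟩ := (isLocAt_inD (ModuleCat.of A M)).locW w
  obtain ⟨eX⟩ := hh.exists_iso (by
    have := (isLocAt_inD (ModuleCat.of A M)).locD h
    rwa [mul_one] at this)
  refine DCompLib.Van.of_iso ((cF I).mapIso eX.symm) ?_
  obtain ⟨e, -⟩ := exists_iso_cF (isRefl_resD_hatUnit h I ((extD h).obj (Dual.inD A M))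
    (finite_extD_inD M h))
  refine DCompLib.Van.of_iso e ?_
  refine IsZero.of_iso ?_ ((resH h i).app _)
  refine (resM h).map_isZero ?_
  obtain ⟨e', -⟩ := DCompLib.exists_homology_iso (I.map (φA h)) ((extD h).obj (Dual.inD A M)) i
  refine IsZero.of_iso ((DCompLib.hatF (I.map (φA h))).map_isZero ?_) e'
  obtain ⟨e''⟩ := exists_homology_iso_mapDerived (extM h) (Dual.inD A M) i
  exact ((extM h).map_isZero ((isLocAt_inD (ModuleCat.of A M)).1 i (by omega))).of_iso e''

omit [DRing.HasDerivedCompletion I] in
theorem isAdicComplete_of_finite [IsAdicComplete I A] : IsAdicComplete I M := by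
  rw [← AdicCompletion.of_bijective_iff]
  let e₁ := AdicCompletion.ofTensorProductEquivOfFiniteNoetherian I M
  have hA : Function.Bijective (AdicCompletion.of I A) := AdicCompletion.of_bijective_iff.2 inferInstance
  let e₂ : A ⊗[A] M ≃ₗ[A] AdicCompletion I A ⊗[A] M :=
    TensorProduct.congr (LinearEquiv.ofBijective (AdicCompletion.of I A) hA) (LinearEquiv.refl A M)
  have : ⇑(AdicCompletion.of I M) = e₁ ∘ e₂ ∘ (TensorProduct.lid A M).symm := funext fun m => by
    simp only [Function.comp_apply, TensorProduct.lid_symm_apply, e₂, TensorProduct.congr_tmul]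
    change _ = AdicCompletion.ofTensorProduct I M (AdicCompletion.of I A 1 ⊗ₜ[A] m)
    rw [AdicCompletion.ofTensorProduct_tmul]
    exact (one_smul (AdicCompletion I A) _).symm
  rw [this]
  exact e₁.bijective.comp (e₂.bijective.comp (LinearEquiv.bijective _))

omit [DRing.HasDerivedCompletion I] in
theorem isDerivedComplete_inD [IsAdicComplete I A] : DRing.IsDerivedComplete I (Dual.inD A M) := by
  rw [DCompLib.isDerivedComplete_iff]
  intro f hf i
  by_cases hi : i = 0
  · subst hi
    haveI := isAdicComplete_of_finite (I := I) M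
    exact (DCompLib.fComplete_of_isAdicComplete hf (M := M)).of_linearEquiv
      ((DerivedCategory.singleFunctorCompHomologyFunctorIso (ModuleCat.{u} A) 0).app (ModuleCat.of A M)).toLinearEquiv.symm
  · haveI := van_iff.1 ((isLocAt_inD (ModuleCat.of A M)).1 i hi)
    exact DCompLib.FComplete.of_subsingleton

/-- `M → H^0(M^)`. -/
noncomputable abbrev etaM : ModuleCat.of A M ⟶ (H0c I).obj (Dual.inD A M) :=
  (DerivedCategory.singleFunctorCompHomologyFunctorIso (ModuleCat.{u} A) 0).inv.app (ModuleCat.of A M) ≫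
    (hF A 0).map (DRing.toDerivedCompletion I (Dual.inD A M))

theorem bijective_etaM [IsAdicComplete I A] : Function.Bijective (etaM (I := I) M).hom := by
  have hid : DCompLib.IsRefl I (𝟙 (Dual.inD A M)) :=
    ⟨isDerivedComplete_inD M, fun Y _ => by simp only [Category.id_comp]; exact Function.bijective_id⟩
  obtain ⟨e, he⟩ := exists_iso_cF hid
  rw [Category.id_comp] at he
  unfold etaM
  rw [← he]
  exact (((DerivedCategory.singleFunctorCompHomologyFunctorIso (ModuleCat.{u} A) 0).app
    (ModuleCat.of A M)).symm ≪≫ (hF A 0).mapIso e).toLinearEquiv.bijective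

/-- The kernel of `M → H^0((M_g)^)`. -/
theorem map_toLocD_etaM_eq_zero (s : M) :
    ((H0c I).map (toLocD g (Dual.inD A M))).hom ((etaM (I := I) M).hom s) = 0 ↔
      ∃ n : ℕ, ∃ i ∈ I, (g ^ n - i) • s = 0 := by
  let X := Dual.inD A M
  let Y := (extD g).obj X
  let J := I.map (φA g)
  let σ := (DerivedCategory.singleFunctorCompHomologyFunctorIso (ModuleCat.{u} A) 0).inv.app (ModuleCat.of A M)
  let N := Dual.HD (Localization.Away g) Y 0
  haveI : Module.Finite (Localization.Away g) N := finite_extD_inD M g 0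
  let φ : ModuleCat.of A M ⟶ (resM g).obj ((hF (Localization.Away g) 0).obj Y) :=
    σ ≫ (hF A 0).map (toLocD g X) ≫ ((resH g 0).app Y).hom
  have hφ : IsLocalizedModule (Submonoid.powers g) φ.hom := by
    haveI := isLocalizedModule_HD_toLocD g X 0
    haveI : IsLocalizedModule (Submonoid.powers g)
        (((hF A 0).map (toLocD g X)).hom ∘ₗ
          ((DerivedCategory.singleFunctorCompHomologyFunctorIso (ModuleCat.{u} A) 0).app
            (ModuleCat.of A M)).symm.toLinearEquiv.toLinearMap) :=
      IsLocalizedModule.of_linearEquiv_right (Submonoid.powers g) ((hF A 0).map (toLocD g X)).hom _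
    exact IsLocalizedModule.of_linearEquiv (Submonoid.powers g)
      (((hF A 0).map (toLocD g X)).hom ∘ₗ
        ((DerivedCategory.singleFunctorCompHomologyFunctorIso (ModuleCat.{u} A) 0).app
          (ModuleCat.of A M)).symm.toLinearEquiv.toLinearMap) ((resH g 0).app Y).toLinearEquiv
  obtain ⟨e, he⟩ := exists_iso_cF (isRefl_resD_hatUnit g I Y (finite_extD_inD M g))
  have h1 : ((H0c I).map (toLocD g X)).hom ((etaM (I := I) M).hom s) =
      ((hF A 0).mapIso e).hom.hom (((hF A 0).map ((resD g).map ((DCompLib.hatUnit J).app Y))).hom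
        (((hF A 0).map (toLocD g X)).hom (σ.hom s))) := by
    have := ((hF A 0).map_comp (DRing.toDerivedCompletion I X) ((cF I).map (toLocD g X))).symm.trans
      ((congrArg (hF A 0).map (((DRing.derivedCompletionAdj I).unit.naturality (toLocD g X)).symm.trans
        (congrArg (toLocD g X ≫ ·) he.symm))).trans (((hF A 0).map_comp _ _).trans
          (congrArg ((hF A 0).map (toLocD g X) ≫ ·) ((hF A 0).map_comp _ _))))
    exact congrArg (fun f => f.hom (σ.hom s)) this
  have h2 : ((resH g 0).app ((DCompLib.hatD J).obj Y)).hom.hom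
      (((hF A 0).map ((resD g).map ((DCompLib.hatUnit J).app Y))).hom
        (((hF A 0).map (toLocD g X)).hom (σ.hom s))) =
      ((hF (Localization.Away g) 0).map ((DCompLib.hatUnit J).app Y)).hom (φ.hom s) :=
    congrArg (fun f => f.hom (((hF A 0).map (toLocD g X)).hom (σ.hom s)))
      ((resH g 0).hom.naturality ((DCompLib.hatUnit J).app Y))
  obtain ⟨e', he'⟩ := DCompLib.exists_homology_equiv J Y 0
  have h3 : ((H0c I).map (toLocD g X)).hom ((etaM (I := I) M).hom s) = 0 ↔
      AdicCompletion.of J N (show N from φ.hom s) = 0 := by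
    rw [h1, ← he' (show N from φ.hom s), e'.map_eq_zero_iff, ← h2]
    constructor
    · intro h
      rw [((hF A 0).mapIso e).toLinearEquiv.map_eq_zero_iff.1 h]
      exact map_zero _
    · intro h
      rw [((resH g 0).app ((DCompLib.hatD J).obj Y)).toLinearEquiv.map_eq_zero_iff.1 h]
      exact map_zero _
  have h4 : AdicCompletion.of J N (show N from φ.hom s) = 0 ↔
      (show N from φ.hom s) ∈ (⨅ i : ℕ, J ^ i • ⊤ : Submodule (Localization.Away g) N) := by
    rw [Submodule.mem_iInf]
    refine ⟨fun h i => ?_, fun h => AdicCompletion.ext fun i => ?_⟩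
    · have := congrArg (fun z => z.1 i) h
      exact (Submodule.Quotient.mk_eq_zero _).1 this
    · exact (Submodule.Quotient.mk_eq_zero _).2 (h i)
  rw [h3, h4, Ideal.mem_iInf_smul_pow_eq_bot_iff]
  constructor
  · rintro ⟨⟨r, hr⟩, hrs⟩
    obtain ⟨⟨⟨i, hi⟩, ⟨_, k, rfl⟩⟩, hik⟩ := (IsLocalization.mem_map_algebraMap_iff (Submonoid.powers g) _).1 hr
    have h5 : φ.hom (g ^ k • s) = φ.hom (i • s) := by
      rw [map_smul, map_smul]
      change (φA g (g ^ k)) • (show N from φ.hom s) = φA g i • (show N from φ.hom s)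
      rw [← hik, mul_comm, mul_smul, hrs]
    obtain ⟨⟨_, t, rfl⟩, ht⟩ := hφ.exists_of_eq h5
    refine ⟨t + k, g ^ t * i, I.mul_mem_left _ hi, ?_⟩
    rw [sub_smul, pow_add, mul_smul, mul_smul, sub_eq_zero]
    exact ht
  · rintro ⟨n, i, hi, hs⟩
    obtain ⟨v, hv⟩ := (IsLocalization.Away.algebraMap_isUnit (S := Localization.Away g) g).pow n
    refine ⟨⟨(↑v⁻¹ : Localization.Away g) * φA g i, Ideal.mul_mem_left _ _ (Ideal.mem_map_of_mem _ hi)⟩, ?_⟩
    change ((↑v⁻¹ : Localization.Away g) * φA g i) • (show N from φ.hom s) = (show N from φ.hom s)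
    have h5 : φA g (g ^ n) • (show N from φ.hom s) = φA g i • (show N from φ.hom s) := by
      rw [sub_smul, sub_eq_zero] at hs
      exact (map_smul φ.hom (g ^ n) s).symm.trans ((congrArg φ.hom hs).trans (map_smul φ.hom i s))
    rw [mul_smul, ← h5, map_pow, ← hv, smul_smul, Units.inv_mul, one_smul]

end Finite

/-- `H^0` of the completion of a coreflection of `M`. -/
theorem range_H0c_coref [IsAdicComplete I A] (M : Type u) [AddCommGroup M] [Module A M] [Module.Finite A M]
    (l : List A) {R : Dual.D A} {u : R ⟶ Dual.inD A M} (hu : IsCoref l u) :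
    Function.Injective ((H0c I).map u).hom ∧
      Set.range ((H0c I).map u).hom = (etaM (I := I) M).hom '' {s : M | ∃ J' : Ideal A,
        J' ≤ Ideal.span {a | a ∈ l} ∧ Ideal.span {a | a ∈ l} ≤ (J' ⊔ I).radical ∧
          s ∈ DRing.torsionSub J' M} := by
  obtain ⟨R₀, u₀, hu₀, -, hinj, hrange⟩ := exists_coref_good (I := I) _ (isGood_inD M) l
  obtain ⟨e, he⟩ := hu.exists_iso hu₀
  have hb : Function.Bijective ((H0c I).map e.hom).hom := ((H0c I).mapIso e).toLinearEquiv.bijective
  have hf : ⇑((H0c I).map u).hom = ((H0c I).map u₀).hom ∘ ((H0c I).map e.hom).hom := by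
    rw [← he, Functor.map_comp]
    rfl
  have key : ∀ s : M, (∀ g ∈ l, ((H0c I).map (toLocD g (Dual.inD A M))).hom ((etaM (I := I) M).hom s) = 0) ↔
      ∃ J' : Ideal A, J' ≤ Ideal.span {a | a ∈ l} ∧ Ideal.span {a | a ∈ l} ≤ (J' ⊔ I).radical ∧
        s ∈ DRing.torsionSub J' M := fun s => by
    constructor
    · intro h
      choose n i hi hs using fun g hg => (map_toLocD_etaM_eq_zero (I := I) M g s).1 (h g hg)
      refine ⟨Ideal.span {a | ∃ (g : A) (hg : g ∈ l), a = g * (g ^ n g hg - i g hg)}, ?_, ?_,
        1, fun a ha => ?_⟩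
      · rw [Ideal.span_le]
        rintro _ ⟨g, hg, rfl⟩
        exact Ideal.mul_mem_right _ _ (Ideal.subset_span hg)
      · rw [Ideal.span_le]
        intro g hg
        refine ⟨n g hg + 1, ?_⟩
        have : g ^ (n g hg + 1) = g * (g ^ n g hg - i g hg) + g * i g hg := by ring
        rw [this]
        exact add_mem (Ideal.mem_sup_left (Ideal.subset_span ⟨g, hg, rfl⟩))
          (Ideal.mem_sup_right (I.mul_mem_left _ (hi g hg)))
      · rw [pow_one] at ha
        refine (Submodule.mem_annihilator_span_singleton s a).1 ((Ideal.span_le.2 ?_ :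
          Ideal.span _ ≤ (Submodule.span A {s}).annihilator) ha)
        rintro _ ⟨g, hg, rfl⟩
        exact (Submodule.mem_annihilator_span_singleton s _).2 (by rw [mul_smul, hs g hg, smul_zero])
    · rintro ⟨J', -, hJ, n, hn⟩ g hg
      refine (map_toLocD_etaM_eq_zero (I := I) M g s).2 ?_
      obtain ⟨k, hk⟩ := hJ (Ideal.subset_span (show g ∈ {a : A | a ∈ l} from hg))
      obtain ⟨j, hj, i, hi, hji⟩ := Submodule.mem_sup.1 hk
      obtain ⟨c, hc⟩ := sub_dvd_pow_sub_pow (j + i) j n
      refine ⟨k * n, i * c, I.mul_mem_right _ hi, ?_⟩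
      rw [add_sub_cancel_left] at hc
      rw [pow_mul, ← hji, ← hc, sub_sub_cancel]
      exact hn _ (Ideal.pow_mem_pow hj n)
  refine ⟨hf ▸ ((hinj []).comp hb.1), Set.ext fun x => ?_⟩
  rw [hf, hb.2.range_comp]
  refine (hrange x).trans ⟨fun h => ?_, ?_⟩
  · obtain ⟨s, rfl⟩ := (bijective_etaM (I := I) M).2 x
    exact ⟨s, (key s).1 h, rfl⟩
  · rintro ⟨s, hs, rfl⟩
    exact (key s).2 hs

end Groth.Agent.DRingLib
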