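import Groth.Agent.DRingLib.Rgamma
import Groth.Agent.DCompLib.AdicBC
import Groth.Agent.DCompLib.Range
import Groth.Agent.DerLib.ExactHomology
import Mathlib.RingTheory.Filtration
import Mathlib.RingTheory.Localization.Ideal

/-!
# Derived completion of localisations of finite modules
-/

set_option autoImplicit false
set_option linter.style.haveILetI false
set_option linter.unusedSectionVars false
set_option backward.isDefEq.respectTransparency false

universe u

open CategoryTheory CategoryTheory.Limits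
open CategoryTheory.Pretriangulated (Triangle)
open Groth.Agent.DCompLib (resM extM resD extD adjD φA)
open Groth.Agent.DerLib.NilpTest (Nilp)
open scoped TensorProduct

attribute [local instance] HasDerivedCategory.standard

namespace Groth.Agent.DRingLib

variable {A : Type u} [CommRing A]

/-- Cohomology. -/
noncomputable abbrev hF (A : Type u) [CommRing A] (i : ℤ) : Dual.D A ⥤ ModuleCat.{u} A :=
  DerivedCategory.homologyFunctor (ModuleCat.{u} A) i

theorem extD_map_smul_id (g : A) (r : A) (T : Dual.D A) :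
    (extD g).map (r • 𝟙 T) = φA g r • 𝟙 ((extD g).obj T) := by
  let e := DerivedCategory.Q.objObjPreimageIso T
  let K := DerivedCategory.Q.objPreimage T
  have hM : ∀ M : ModuleCat.{u} A, (extM g).map (r • 𝟙 M) = φA g r • 𝟙 _ := fun M => by
    apply ((ModuleCat.extendRestrictScalarsAdj.{u, u, u} (φA g)).homEquiv _ _).injective
    rw [Adjunction.homEquiv_unit, Adjunction.homEquiv_unit]
    ext m
    exact map_smul ((ModuleCat.extendRestrictScalarsAdj.{u, u, u} (φA g)).unit.app M).hom r m
  have hC : ((extM g).mapHomologicalComplex (ComplexShape.up ℤ)).map (r • 𝟙 K) = φA g r • 𝟙 _ := by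
    ext i : 1
    exact hM (K.X i)
  have hQ : (extD g).map (r • 𝟙 (DerivedCategory.Q.obj K)) = φA g r • 𝟙 _ := by
    have hn := (extM g).mapDerivedCategoryFactors.hom.naturality (r • 𝟙 K)
    simp only [Functor.comp_map, Functor.map_smul, CategoryTheory.Functor.map_id, hC] at hn
    rw [← cancel_mono ((extM g).mapDerivedCategoryFactors.hom.app K)]
    refine hn.trans ?_
    rw [Linear.comp_smul, Linear.smul_comp]
    erw [Category.comp_id, Category.id_comp]
  have h : r • 𝟙 T = e.inv ≫ (r • 𝟙 (DerivedCategory.Q.obj K)) ≫ e.hom := by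
    rw [Linear.smul_comp, Linear.comp_smul, Category.id_comp, Iso.inv_hom_id]
  rw [h, Functor.map_comp, Functor.map_comp, hQ, Linear.smul_comp, Linear.comp_smul, Category.id_comp,
    ← Functor.map_comp, Iso.inv_hom_id, CategoryTheory.Functor.map_id]

theorem nilp_extD (g : A) {f : A} {T : Dual.D A} (h : Nilp f T) : Nilp (φA g f) ((extD g).obj T) := by
  obtain ⟨k, hk⟩ := h
  exact ⟨k, by rw [← map_pow, ← extD_map_smul_id, hk, Functor.map_zero]⟩

variable (g : A) (I : Ideal A)

/-- Cohomology of a restriction. -/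
noncomputable abbrev resH (n : ℤ) : resD g ⋙ hF A n ≅ hF (Localization.Away g) n ⋙ resM g :=
  DerLib.ExactHomology.homologyIso (resM g) n

theorem fComplete_resM {f : A} {M : ModuleCat.{u} (Localization.Away g)}
    (h : DCompLib.FComplete (φA g f) M) : DCompLib.FComplete f ((resM g).obj M : Type u) := h

theorem isDerivedComplete_resD {Y : Dual.D (Localization.Away g)}
    (h : DRing.IsDerivedComplete (I.map (φA g)) Y) : DRing.IsDerivedComplete I ((resD g).obj Y) := by
  rw [DCompLib.isDerivedComplete_iff] at h ⊢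
  intro f hf n
  exact (fComplete_resM g (h _ (Ideal.mem_map_of_mem _ hf) n)).of_linearEquiv
    ((resH g n).app Y).toLinearEquiv.symm

variable [IsNoetherianRing A]

instance isNoetherianRing_away : IsNoetherianRing (Localization.Away g) :=
  IsLocalization.isNoetherianRing (Submonoid.powers g) (Localization.Away g) inferInstance

/-- Completion over `A_g` is derived completion over `A`. -/
theorem isRefl_resD_hatUnit (Y : Dual.D (Localization.Away g))
    (hY : ∀ i, Module.Finite (Localization.Away g) (Dual.HD (Localization.Away g) Y i)) :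
    DCompLib.IsRefl I ((resD g).map ((DCompLib.hatUnit (I.map (φA g))).app Y)) := by
  classical
  obtain ⟨s, hs⟩ := IsNoetherian.noetherian I
  change Ideal.span (s : Set A) = I at hs
  let J := I.map (φA g)
  let s' := s.image (φA g)
  have hs' : Ideal.span (s' : Set (Localization.Away g)) = J := by
    rw [Finset.coe_image, ← Ideal.map_span, hs]
  obtain ⟨C, p, q, hT⟩ := Pretriangulated.distinguished_cocone_triangle ((DCompLib.hatUnit J).app Y)
  have hT' := (resD g).map_distinguished _ hT
  refine DCompLib.isRefl_of_triangle hT' (isDerivedComplete_resD g I (DCompLib.isDerivedComplete_hatD J Y hY)) ?_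
  obtain ⟨B, Z, u, r, t, hS, hB, hZ⟩ := DCompLib.exists_decomp (I := I) s.toList
    (fun f hf => hs ▸ Ideal.subset_span (Finset.mem_toList.1 hf)) ((resD g).obj C)
  refine DerLib.NilpTest.leftOrthogonal_of_test (R := A) (DRing.IsDerivedComplete I) s.toList ?_ ?_ hS ?_ hZ ?_
  · intro K hK
    exact hs ▸ DCompLib.isDerivedComplete_of_nilp s fun f hf => hK f (Finset.mem_toList.2 hf)
  · intro f hf K hK hi
    exact DCompLib.isZero_of_isIso_smul s (Finset.mem_toList.1 hf) (hs.symm ▸ hK) hi
  · exact hs ▸ DCompLib.isDerivedComplete_span_iff.2 fun f hf => hB f (Finset.mem_toList.2 hf)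
  · intro T hT''
    have hb : ∀ (T : Dual.D A), (∀ f ∈ s.toList, Nilp f T) →
        Function.Bijective fun x : T ⟶ (resD g).obj Y =>
          x ≫ (resD g).map ((DCompLib.hatUnit J).app Y) := fun T hTn => by
      have hb0 := DerLib.NilpTest.bijective_of_nilp (R := Localization.Away g) (DCompLib.hatD J)
        (DCompLib.hatUnit J) ((extD g).obj T) s'.toList []
        (fun Y' hY' => DCompLib.isIso_hatUnit_of_nilp J s' hs' fun f hf => hY' f (by simpa using hf))
        (fun f hf => by
          obtain ⟨a, ha, rfl⟩ := Finset.mem_image.1 (Finset.mem_toList.1 hf)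
          exact nilp_extD g (hTn a (Finset.mem_toList.2 ha)))
        Y (by simp)
      have := ((adjD g).homEquiv T _).bijective.comp (hb0.comp ((adjD g).homEquiv T Y).symm.bijective)
      convert this using 1
      funext x
      refine Eq.trans ?_ ((adjD g).homEquiv_naturality_right _ _).symm
      rw [Equiv.apply_symm_apply]
    exact DerLib.NilpTest.subsingleton_obj₃ hT' (hb T hT'').2
      (hb _ fun f hf => DerLib.NilpTest.nilp_shift (hT'' f hf) _).1

/-- The completion functor. -/
noncomputable abbrev cF (I : Ideal A) [DRing.HasDerivedCompletion I] : Dual.D A ⥤ Dual.D A :=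
  DRing.derivedCompletion I ⋙ ObjectProperty.ι (DRing.IsDerivedComplete I)

variable {I}

/-- A completion is isomorphic to the chosen one, compatibly. -/
theorem exists_iso_cF [DRing.HasDerivedCompletion I] {X B : Dual.D A} {q : X ⟶ B}
    (h : DCompLib.IsRefl I q) : ∃ e : B ≅ (cF I).obj X, q ≫ e.hom = DRing.toDerivedCompletion I X := by
  have hu := DCompLib.isRefl_unit (I := I) X
  obtain ⟨a, ha⟩ := (h.2 _ hu.1).2 (DRing.toDerivedCompletion I X)
  obtain ⟨b, hb⟩ := (hu.2 _ h.1).2 q
  simp only at ha hb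
  exact ⟨⟨a, b, (h.2 _ h.1).1 (by simp only []; rw [← Category.assoc, ha, hb, Category.comp_id]),
    (hu.2 _ hu.1).1 (by simp only []; rw [← Category.assoc, hb, ha]; exact (Category.comp_id _).symm)⟩, ha⟩

omit [IsNoetherianRing A] in
theorem isLocalizedModule_HD_toLocD (X : Dual.D A) (i : ℤ) :
    IsLocalizedModule (Submonoid.powers g) ((hF A i).map (toLocD g X)).hom := by
  obtain ⟨R, v, q, hv⟩ := Pretriangulated.distinguished_cocone_triangle₁ (toLocD g X)
  have hR : IsTors [g] R :=
    (isCoref_step (isCoref_id (l := []) (fun g' hg' => absurd hg' List.not_mem_nil)) hv).1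
  have hg := hR g List.mem_cons_self
  let e := ((resH g i).app ((extD g).obj X)).toLinearEquiv
  refine ⟨?_, fun y => ?_, fun {x₁ x₂} hx => ?_⟩
  · rintro ⟨_, n, rfl⟩
    rw [Module.End.isUnit_iff]
    have hu : Function.Bijective fun z : ((hF (Localization.Away g) i).obj ((extD g).obj X) : Type u) =>
        φA g (g ^ n) • z := by
      have := ((IsLocalization.Away.algebraMap_isUnit (S := Localization.Away g) g).pow n)
      rw [← map_pow] at this
      exact this.smul_bijective
    refine ⟨fun y y' h => e.injective (hu.1 ?_), fun y => ?_⟩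
    · exact (map_smul e (g ^ n) y).symm.trans ((congrArg e h).trans (map_smul e (g ^ n) y'))
    · obtain ⟨z, hz⟩ := hu.2 (e y)
      exact ⟨e.symm z, e.injective ((map_smul e (g ^ n) (e.symm z)).trans
        ((congrArg (fun t => g ^ n • t) (e.apply_symm_apply z)).trans hz))⟩
  · obtain ⟨n, hn⟩ := hg (i + 1) (((DerivedCategory.HomologySequence.δ _ i (i + 1) rfl : _ ⟶ _) :
      (hF A i).obj (Triangle.mk v (toLocD g X) q).obj₃ ⟶ _).hom y)
    obtain ⟨x, hx⟩ := (ShortComplex.moduleCat_exact_iff _).1
      (DerivedCategory.HomologySequence.exact₃ _ hv i (i + 1) rfl) (g ^ n • y) ((map_smul _ _ _).trans hn)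
    exact ⟨(x, ⟨g ^ n, n, rfl⟩), hx.symm⟩
  · obtain ⟨z, hz⟩ := (ShortComplex.moduleCat_exact_iff _).1
      (DerivedCategory.HomologySequence.exact₂ _ hv i) (x₁ - x₂)
      ((map_sub _ _ _).trans (sub_eq_zero.2 hx))
    obtain ⟨n, hn⟩ := hg i z
    refine ⟨⟨g ^ n, n, rfl⟩, sub_eq_zero.1 ?_⟩
    change g ^ n • x₁ - g ^ n • x₂ = 0
    rw [← smul_sub, ← hz]
    exact (map_smul _ _ _).symm.trans ((congrArg _ hn).trans (map_zero _))

omit [IsNoetherianRing A] in
theorem isLocalizedModule_comp {g h : A} {M N N' : Type u} [AddCommGroup M] [Module A M] [AddCommGroup N]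
    [Module A N] [AddCommGroup N'] [Module A N'] (f₁ : M →ₗ[A] N) (f₂ : N →ₗ[A] N')
    [h₁ : IsLocalizedModule (Submonoid.powers h) f₁] [h₂ : IsLocalizedModule (Submonoid.powers g) f₂] :
    IsLocalizedModule (Submonoid.powers (g * h)) (f₂ ∘ₗ f₁) := by
  have hg : Function.Bijective fun z : N' => g • z :=
    (Module.End.isUnit_iff _).1 (h₂.map_units ⟨g, Submonoid.mem_powers g⟩)
  have hh0 : Function.Bijective fun z : N => h • z :=
    (Module.End.isUnit_iff _).1 (h₁.map_units ⟨h, Submonoid.mem_powers h⟩)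
  have hh : Function.Bijective fun z : N' => h • z := by
    refine ⟨fun a b hab => ?_, fun b => ?_⟩
    · obtain ⟨⟨y, ⟨_, n, rfl⟩⟩, hy⟩ := h₂.surj (a - b)
      have h0 : f₂ (h • y) = f₂ 0 := by
        rw [map_smul, ← hy, map_zero]
        change h • g ^ n • (a - b) = 0
        rw [smul_comm, smul_sub, sub_eq_zero.2 hab, smul_zero]
      obtain ⟨⟨_, m, rfl⟩, hm⟩ := h₂.exists_of_eq h0
      have hm' : g ^ m • y = 0 := hh0.1 (by
        change h • g ^ m • y = h • (0 : N)
        rw [smul_zero, smul_comm]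
        exact hm.trans (smul_zero _))
      have hz : g ^ (m + n) • (a - b) = 0 := by
        rw [pow_add, mul_smul]
        exact (congrArg (g ^ m • ·) hy).trans (by rw [← map_smul, hm', map_zero])
      exact sub_eq_zero.1 (((Module.End.isUnit_iff _).1 (h₂.map_units ⟨_, m + n, rfl⟩)).1 (hz.trans (smul_zero _).symm))
    · obtain ⟨⟨y, ⟨_, n, rfl⟩⟩, hy⟩ := h₂.surj b
      obtain ⟨y', hy'⟩ := hh0.2 y
      simp only at hy'
      obtain ⟨a, ha⟩ := ((Module.End.isUnit_iff _).1 (h₂.map_units ⟨_, n, rfl⟩)).2 (f₂ y')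
      refine ⟨a, ((Module.End.isUnit_iff _).1 (h₂.map_units ⟨_, n, rfl⟩)).1 ?_⟩
      change g ^ n • h • a = g ^ n • b
      rw [smul_comm, show g ^ n • a = f₂ y' from ha, ← map_smul, hy']
      exact hy.symm
  refine ⟨?_, fun z => ?_, fun {x₁ x₂} hx => ?_⟩
  · rintro ⟨_, n, rfl⟩
    rw [Module.End.isUnit_iff]
    have hit : ∀ (c : A), Function.Bijective (fun z : N' => c • z) → ∀ n : ℕ, Function.Bijective fun z : N' => c ^ n • z := by
      intro c hc n
      induction n with
      | zero => simp only [pow_zero, one_smul]; exact Function.bijective_id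
      | succ n ih => simp only [pow_succ, mul_smul]; exact ih.comp hc
    change Function.Bijective fun z : N' => (g * h) ^ n • z
    simp only [mul_pow, mul_smul]
    exact (hit g hg n).comp (hit h hh n)
  · obtain ⟨⟨y, ⟨_, n, rfl⟩⟩, hy⟩ := h₂.surj z
    obtain ⟨⟨x, ⟨_, m, rfl⟩⟩, hx⟩ := h₁.surj y
    refine ⟨(h ^ n • g ^ m • x, ⟨(g * h) ^ (n + m), n + m, rfl⟩), ?_⟩
    change (g * h) ^ (n + m) • z = f₂ (f₁ (h ^ n • g ^ m • x))
    rw [map_smul, map_smul, map_smul, map_smul, ← show h ^ m • y = f₁ x from hx, map_smul,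
      ← show g ^ n • z = f₂ y from hy, smul_smul, smul_smul, smul_smul]
    congr 1
    ring
  · obtain ⟨⟨_, n, rfl⟩, hn⟩ := h₂.exists_of_eq hx
    change g ^ n • f₁ x₁ = g ^ n • f₁ x₂ at hn
    rw [← map_smul, ← map_smul] at hn
    obtain ⟨⟨_, m, rfl⟩, hm⟩ := h₁.exists_of_eq hn
    refine ⟨⟨(g * h) ^ (n + m), n + m, rfl⟩, ?_⟩
    have e : ∀ x : M, (g * h) ^ (n + m) • x = (g ^ m * h ^ n) • (h ^ m • g ^ n • x) := fun x => by
      rw [smul_smul, smul_smul]; congr 1; ring
    change (g * h) ^ (n + m) • x₁ = (g * h) ^ (n + m) • x₂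
    rw [e, e]
    exact congrArg _ hm

end Groth.Agent.DRingLib
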