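import Groth.Agent.DCompLib.Completion
import Groth.Agent.LocCohLib.Injective
import Groth.Agent.DerLib.KInjEnough
import Groth.Agent.DerLib.KInjUse
import Groth.Prelude.Def_Wider
import Mathlib.Algebra.Homology.DerivedCategory.ShortExact

/-!
# The derived torsion functor as a coreflection onto objects with torsion cohomology
-/

set_option autoImplicit false
set_option linter.style.haveILetI false
set_option linter.unusedSectionVars false
set_option backward.isDefEq.respectTransparency false

universe u

open CategoryTheory CategoryTheory.Limits HomologicalComplex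
open CategoryTheory.Pretriangulated (Triangle)
open Groth.Agent.DCompLib (resM extM resD extD adjD φA)
open scoped TensorProduct

attribute [local instance] HasDerivedCategory.standard

namespace Groth.Agent.DRingLib

variable {A : Type u} [CommRing A]

/-- The cohomology of an exact functor on the derived category. -/
theorem exists_homology_iso_mapDerived {B : Type u} [CommRing B]
    (F : ModuleCat.{u} A ⥤ ModuleCat.{u} B) [F.Additive] [PreservesFiniteLimits F]
    [PreservesFiniteColimits F] (X : Dual.D A) (i : ℤ) :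
    Nonempty ((DerivedCategory.homologyFunctor (ModuleCat.{u} B) i).obj (F.mapDerivedCategory.obj X) ≅
      F.obj ((DerivedCategory.homologyFunctor (ModuleCat.{u} A) i).obj X)) := by
  let K := DerivedCategory.Q.objPreimage X
  let e : DerivedCategory.Q.obj K ≅ X := DerivedCategory.Q.objObjPreimageIso X
  exact ⟨(DerivedCategory.homologyFunctor _ i).mapIso
      (F.mapDerivedCategory.mapIso e.symm ≪≫ F.mapDerivedCategoryFactors.app K) ≪≫
    (DerivedCategory.homologyFunctorFactors (ModuleCat.{u} B) i).app _ ≪≫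
    (K.sc i).mapHomologyIso F ≪≫
    F.mapIso (((DerivedCategory.homologyFunctorFactors (ModuleCat.{u} A) i).app K).symm ≪≫
      (DerivedCategory.homologyFunctor _ i).mapIso e)⟩

/-- Elementwise torsion. -/
def IsTorsM (g : A) (M : Type u) [AddCommGroup M] [Module A M] : Prop := ∀ x : M, ∃ n : ℕ, g ^ n • x = 0

theorem isTorsM_of_surjective {g : A} {M N : ModuleCat.{u} A} (f : M ⟶ N) (hf : Function.Surjective f.hom)
    (h : IsTorsM g M) : IsTorsM g N := fun y => by
  obtain ⟨x, rfl⟩ := hf y
  obtain ⟨n, hn⟩ := h x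
  exact ⟨n, by rw [← map_smul, hn, map_zero]⟩

theorem isTorsM_of_injective {g : A} {M N : ModuleCat.{u} A} (f : M ⟶ N) (hf : Function.Injective f.hom)
    (h : IsTorsM g N) : IsTorsM g M := fun x => by
  obtain ⟨n, hn⟩ := h (f.hom x)
  exact ⟨n, hf (by rw [map_smul, hn, map_zero])⟩

/-- The cohomology is torsion for every element of the list. -/
def IsTors (l : List A) (T : Dual.D A) : Prop := ∀ g ∈ l, ∀ i : ℤ, IsTorsM g (Dual.HD A T i)

theorem IsTors.of_iso {l : List A} {T T' : Dual.D A} (e : T ≅ T') (h : IsTors l T) : IsTors l T' :=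
  fun g hg i => isTorsM_of_surjective ((DerivedCategory.homologyFunctor (ModuleCat.{u} A) i).mapIso e).hom
    ((DerivedCategory.homologyFunctor (ModuleCat.{u} A) i).mapIso e).toLinearEquiv.surjective (h g hg i)

theorem IsTors.shift {l : List A} {T : Dual.D A} (h : IsTors l T) (n : ℤ) : IsTors l (T⟦n⟧) := fun g hg i =>
  isTorsM_of_surjective (((DerivedCategory.homologyFunctor (ModuleCat.{u} A) 0).shiftIso n i (n + i) rfl).app T).inv
    (((DerivedCategory.homologyFunctor (ModuleCat.{u} A) 0).shiftIso n i (n + i) rfl).app T).symm.toLinearEquiv.surjective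
    (h g hg (n + i))

theorem IsTors.obj₁ {l : List A} (S : Triangle (Dual.D A))
    (hS : S ∈ Pretriangulated.distinguishedTriangles) (h₂ : IsTors l S.obj₂) (h₃ : IsTors l S.obj₃) :
    IsTors l S.obj₁ := fun g hg i x => by
  obtain ⟨n, hn⟩ := h₂ g hg i (((DerivedCategory.homologyFunctor (ModuleCat.{u} A) i).map S.mor₁).hom x)
  obtain ⟨y, hy⟩ := (ShortComplex.moduleCat_exact_iff _).1
    (DerivedCategory.HomologySequence.exact₁ S hS (i - 1) i (by omega)) (g ^ n • x)
    (by rw [← hn]; exact map_smul _ _ _)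
  obtain ⟨m, hm⟩ := h₃ g hg (i - 1) y
  refine ⟨m + n, ?_⟩
  rw [pow_add, mul_smul, ← hy]
  exact (map_smul _ _ _).symm.trans ((congrArg _ hm).trans (map_zero _))

variable (g : A)

/-- Localisation at `g` on the derived category. -/
noncomputable abbrev locD : Dual.D A ⥤ Dual.D A := extD g ⋙ resD g

/-- The localisation map. -/
noncomputable abbrev toLocD (X : Dual.D A) : X ⟶ (locD g).obj X := (adjD g).unit.app X

instance isLocalizedModule_mk (M : ModuleCat.{u} A) :
    IsLocalizedModule (Submonoid.powers g) (TensorProduct.mk A (Localization.Away g) M 1) :=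
  (isLocalizedModule_iff_isBaseChange (Submonoid.powers g) (Localization.Away g) _).2
    (TensorProduct.isBaseChange A M (Localization.Away g))

/-- The underlying module of the base change. -/
noncomputable def extTensorEquiv (M : ModuleCat.{u} A) :
    ((resM g).obj ((extM g).obj M) : Type u) ≃ₗ[A] Localization.Away g ⊗[A] M :=
  TensorProduct.congr
    ({ AddEquiv.refl (Localization.Away g) with
       map_smul' := fun a x => (Algebra.smul_def a (show Localization.Away g from x)).symm } :
      (resM g).obj (ModuleCat.of _ (Localization.Away g)) ≃ₗ[A] Localization.Away g)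
    (LinearEquiv.refl A M)

theorem extTensorEquiv_unit (M : ModuleCat.{u} A) (x : M) :
    extTensorEquiv g M (((ModuleCat.extendRestrictScalarsAdj.{u, u, u} (φA g)).unit.app M).hom x) =
      (1 : Localization.Away g) ⊗ₜ[A] x :=
  (congrArg (extTensorEquiv g M) (ModuleCat.extendRestrictScalarsAdj_unit_app_apply (φA g) M x)).trans rfl

theorem isZero_extM_of_tors {M : ModuleCat.{u} A} (h : IsTorsM g M) : IsZero ((extM g).obj M) := by
  haveI : Subsingleton (Localization.Away g ⊗[A] M) := subsingleton_of_forall_eq 0 fun z => by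
    induction z using TensorProduct.induction_on with
    | zero => rfl
    | tmul c m =>
      obtain ⟨n, hn⟩ := h m
      obtain ⟨u, hu⟩ := (IsLocalization.Away.algebraMap_isUnit (S := Localization.Away g) g).pow n
      have : c = g ^ n • ((↑u⁻¹ : Localization.Away g) * c) := by
        rw [Algebra.smul_def, map_pow, ← hu, Units.mul_inv_cancel_left]
      rw [this, TensorProduct.smul_tmul, hn, TensorProduct.tmul_zero]
    | add a b ha hb => rw [ha, hb, add_zero]
  haveI : Subsingleton ((extM g).obj M : Type u) := (extTensorEquiv g M).toEquiv.subsingleton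
  exact ModuleCat.isZero_of_subsingleton _

theorem tors_of_isZero_extM {M : ModuleCat.{u} A} (h : IsZero ((extM g).obj M)) : IsTorsM g M := fun x => by
  haveI : Subsingleton ((resM g).obj ((extM g).obj M) : Type u) := ModuleCat.subsingleton_of_isZero ((resM g).map_isZero h)
  haveI : Subsingleton (Localization.Away g ⊗[A] M) := (extTensorEquiv g M).symm.toEquiv.subsingleton
  obtain ⟨⟨_, n, rfl⟩, hn⟩ := (IsLocalizedModule.eq_zero_iff (Submonoid.powers g)
    (TensorProduct.mk A (Localization.Away g) M 1)).1 (Subsingleton.elim ((TensorProduct.mk A _ M 1) x) 0)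
  exact ⟨n, hn⟩

theorem isTorsM_extM {g' : A} {M : ModuleCat.{u} A} (h : IsTorsM g' M) :
    IsTorsM g' ((resM g).obj ((extM g).obj M) : Type u) := fun z => by
  have key : ∀ w : Localization.Away g ⊗[A] M, ∃ n : ℕ, g' ^ n • w = 0 := fun w => by
    induction w using TensorProduct.induction_on with
    | zero => exact ⟨0, smul_zero _⟩
    | tmul c m =>
      obtain ⟨n, hn⟩ := h m
      exact ⟨n, by rw [← TensorProduct.tmul_smul, hn, TensorProduct.tmul_zero]⟩
    | add a b ha hb =>
      obtain ⟨n, hn⟩ := ha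
      obtain ⟨m, hm⟩ := hb
      exact ⟨n + m, by rw [smul_add, pow_add, mul_smul, mul_smul, hm, smul_zero, add_zero, smul_comm, hn, smul_zero]⟩
  obtain ⟨n, hn⟩ := key (extTensorEquiv g M z)
  exact ⟨n, (extTensorEquiv g M).injective (by rw [map_smul, hn, map_zero])⟩

theorem isZero_extD_of_tors {T : Dual.D A} (h : ∀ i, IsTorsM g (Dual.HD A T i)) : IsZero ((extD g).obj T) :=
  isZero_of_isZero_Hn fun i => by
    obtain ⟨e⟩ := exists_homology_iso_mapDerived (extM g) T i
    exact (isZero_extM_of_tors g (h i)).of_iso e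

theorem tors_of_isZero_extD {T : Dual.D A} (h : IsZero ((extD g).obj T)) (i : ℤ) :
    IsTorsM g (Dual.HD A T i) := by
  obtain ⟨e⟩ := exists_homology_iso_mapDerived (extM g) T i
  exact tors_of_isZero_extM g
    (((DerivedCategory.homologyFunctor (ModuleCat.{u} (Localization.Away g)) i).map_isZero h).of_iso e.symm)

theorem isTors_locD {l : List A} {X : Dual.D A} (h : IsTors l X) : IsTors l ((locD g).obj X) :=
  fun g' hg' i => by
    obtain ⟨e⟩ := exists_homology_iso_mapDerived (resM g) ((extD g).obj X) i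
    obtain ⟨e'⟩ := exists_homology_iso_mapDerived (extM g) X i
    exact isTorsM_of_surjective (e ≪≫ (resM g).mapIso e').inv
      (e ≪≫ (resM g).mapIso e').symm.toLinearEquiv.surjective (isTorsM_extM g (h g' hg' i))

theorem subsingleton_hom_resD {T : Dual.D A} (h : ∀ i, IsTorsM g (Dual.HD A T i))
    (G : Dual.D (Localization.Away g)) : Subsingleton (T ⟶ (resD g).obj G) :=
  ((adjD g).homEquiv T G).subsingleton_congr.1
    ⟨fun a b => (isZero_extD_of_tors g h).eq_of_src a b⟩

/-- `u` exhibits the coreflection onto objects with `l`-torsion cohomology. -/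
def IsCoref (l : List A) {R X : Dual.D A} (u : R ⟶ X) : Prop :=
  IsTors l R ∧ ∀ T, IsTors l T → Function.Bijective fun t : T ⟶ R => t ≫ u

variable {g}

theorem IsCoref.exists_iso {l : List A} {R R' X : Dual.D A} {u : R ⟶ X} {u' : R' ⟶ X} (h : IsCoref l u)
    (h' : IsCoref l u') : ∃ e : R ≅ R', e.hom ≫ u' = u := by
  obtain ⟨a, ha⟩ := (h'.2 R h.1).2 u
  obtain ⟨b, hb⟩ := (h.2 R' h'.1).2 u'
  simp only at ha hb
  exact ⟨⟨a, b, (h.2 R h.1).1 (by simp only []; rw [Category.assoc, hb, ha, Category.id_comp]),
    (h'.2 R' h'.1).1 (by simp only []; rw [Category.assoc, ha, hb, Category.id_comp])⟩, ha⟩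

theorem IsCoref.of_iso {l : List A} {R R' X : Dual.D A} {u : R ⟶ X} (h : IsCoref l u) (e : R' ≅ R)
    {u' : R' ⟶ X} (he : u' = e.hom ≫ u) : IsCoref l u' := by
  subst he
  refine ⟨h.1.of_iso e.symm, fun T hT => ?_⟩
  have := (h.2 T hT).comp e.homToEquiv.bijective
  convert this using 1
  funext t
  exact (Category.assoc _ _ _).symm

theorem isCoref_id {l : List A} {X : Dual.D A} (h : IsTors l X) : IsCoref l (𝟙 X) :=
  ⟨h, fun T _ => by simp only [Category.comp_id]; exact Function.bijective_id⟩

theorem bijective_comp_of_loc {l : List A} (hg : g ∈ l) {R' R : Dual.D A} {v : R' ⟶ R}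
    {G : Dual.D (Localization.Away g)} {w : R ⟶ (resD g).obj G} {q : (resD g).obj G ⟶ R'⟦(1 : ℤ)⟧}
    (hv : Triangle.mk v w q ∈ Pretriangulated.distinguishedTriangles) {T : Dual.D A} (hT : IsTors l T) :
    Function.Bijective fun t : T ⟶ R' => t ≫ v := by
  haveI h0 := subsingleton_hom_resD g (hT g hg) G
  haveI h1 := subsingleton_hom_resD g ((hT.shift 1) g hg) G
  refine ⟨fun a b hab => sub_eq_zero.1 ?_, fun y => ?_⟩
  · obtain ⟨c, hc⟩ := Triangle.coyoneda_exact₂ _ (Pretriangulated.inv_rot_of_distTriang _ hv) (a - b)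
      (show (a - b) ≫ v = 0 by rw [Preadditive.sub_comp, sub_eq_zero]; exact hab)
    have hc0 : (show T ⟶ ((resD g).obj G)⟦(-1 : ℤ)⟧ from c) = 0 :=
      (((shiftEquiv' (Dual.D A) (1 : ℤ) (-1) (by omega)).toAdjunction.homEquiv T _).symm.injective
        (h1.elim _ _))
    rw [hc, show c = 0 from hc0]
    exact zero_comp
  · obtain ⟨t, ht⟩ := Triangle.coyoneda_exact₂ _ hv y (h0.elim _ _)
    exact ⟨t, ht.symm⟩

theorem isCoref_step {l : List A} {R' R X : Dual.D A} {v : R' ⟶ R} {u : R ⟶ X} (hu : IsCoref l u)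
    {q : (locD g).obj R ⟶ R'⟦(1 : ℤ)⟧}
    (hv : Triangle.mk v (toLocD g R) q ∈ Pretriangulated.distinguishedTriangles) :
    IsCoref (g :: l) (v ≫ u) := by
  constructor
  · intro g' hg'
    rcases List.mem_cons.1 hg' with rfl | hg'
    · refine tors_of_isZero_extD _ ?_
      refine (Triangle.isZero₁_iff_isIso₂ _ ((extD g').map_distinguished _ hv)).2 ?_
      have hinv : (extD g').map (toLocD g' R) = inv ((adjD g').counit.app ((extD g').obj R)) :=
        IsIso.eq_inv_of_inv_hom_id ((adjD g').left_triangle_components R)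
      change IsIso ((extD g').map (toLocD g' R))
      rw [hinv]
      infer_instance
    · exact IsTors.obj₁ _ hv hu.1 (isTors_locD g hu.1) g' hg'
  · intro T hT
    have h1 := hu.2 T fun g' hg' => hT g' (List.mem_cons_of_mem g hg')
    have h2 := bijective_comp_of_loc (List.mem_cons_self) hv hT
    convert h1.comp h2 using 1
    funext t
    exact (Category.assoc _ _ _).symm

theorem exists_coref (l : List A) (X : Dual.D A) : ∃ (R : Dual.D A) (u : R ⟶ X), IsCoref l u := by
  induction l with
  | nil => exact ⟨X, 𝟙 X, isCoref_id fun g hg => absurd hg List.not_mem_nil⟩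
  | cons g l ih =>
    obtain ⟨R, u, hu⟩ := ih
    obtain ⟨R', v, q, hv⟩ := Pretriangulated.distinguished_cocone_triangle₁ (toLocD g R)
    exact ⟨R', v ≫ u, isCoref_step hu hv⟩

theorem exists_coref_tors (m : List A) {l : List A} {X : Dual.D A} (hX : IsTors l X) :
    ∃ (R : Dual.D A) (u : R ⟶ X), IsCoref m u ∧ IsTors l R := by
  induction m with
  | nil => exact ⟨X, 𝟙 X, isCoref_id fun g hg => absurd hg List.not_mem_nil, hX⟩
  | cons g m ih =>
    obtain ⟨R, u, hu, hR⟩ := ih
    obtain ⟨R', v, q, hv⟩ := Pretriangulated.distinguished_cocone_triangle₁ (toLocD g R)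
    exact ⟨R', v ≫ u, isCoref_step hu hv, IsTors.obj₁ _ hv hR (isTors_locD g hR)⟩

/-- The coreflection preserves torsion for other elements. -/
theorem isTors_coref (m : List A) {l : List A} {R X : Dual.D A} {u : R ⟶ X} (hX : IsTors l X)
    (hu : IsCoref m u) : IsTors l R := by
  obtain ⟨R', u', hu', hR'⟩ := exists_coref_tors m hX
  exact hR'.of_iso (hu'.exists_iso hu).choose

/-- Composition of coreflections. -/
theorem isCoref_append (m l : List A) {R R' X : Dual.D A} {u : R ⟶ X} {v : R' ⟶ R} (hu : IsCoref l u)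
    (hv : IsCoref m v) (h : IsTors l R') : IsCoref (m ++ l) (v ≫ u) := by
  refine ⟨fun g hg => (List.mem_append.1 hg).elim (hv.1 g) (h g), fun T hT => ?_⟩
  have hb := (hu.2 T fun g hg => hT g (List.mem_append_right _ hg)).comp
    (hv.2 T fun g hg => hT g (List.mem_append_left _ hg))
  convert hb using 1
  funext t
  exact (Category.assoc _ _ _).symm

/-- Power torsion for a finitely generated ideal. -/
theorem mem_torsionSub_iff (l : List A) {M : Type u} [AddCommGroup M] [Module A M] (x : M) :
    x ∈ DRing.torsionSub (Ideal.span {a | a ∈ l}) M ↔ ∀ g ∈ l, ∃ n : ℕ, g ^ n • x = 0 := by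
  constructor
  · rintro ⟨n, hn⟩ g hg
    exact ⟨n, hn _ (Ideal.pow_mem_pow (Ideal.subset_span (show g ∈ {a : A | a ∈ l} from hg)) n)⟩
  · intro h
    have hrad : Ideal.span {a | a ∈ l} ≤ (Submodule.annihilator (Submodule.span A {x})).radical :=
      Ideal.span_le.2 fun g hg => by
        obtain ⟨n, hn⟩ := h g hg
        exact ⟨n, Submodule.mem_annihilator_span_singleton _ _ |>.2 hn⟩
    obtain ⟨N, hN⟩ := Ideal.exists_pow_le_of_le_radical_of_fg hrad
      ⟨(List.finite_toSet l).toFinset, by simp⟩
    exact ⟨N, fun a ha => (Submodule.mem_annihilator_span_singleton _ _).1 (hN ha)⟩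

theorem isTors_iff (l : List A) (T : Dual.D A) :
    IsTors l T ↔ ∀ i : ℤ, LocCoh.IsPowerTorsion (Ideal.span {a | a ∈ l}) (Dual.HD A T i) :=
  ⟨fun h i m => (mem_torsionSub_iff l m).2 fun g hg => h g hg i m,
    fun h g hg i m => (mem_torsionSub_iff l m).1 (h i m) g hg⟩

section Model

variable [IsNoetherianRing A]

/-- The torsion subcomplex. -/
noncomputable abbrev gammaCx (l : List A) (E : CochainComplex (ModuleCat.{u} A) ℤ) :
    CochainComplex (ModuleCat.{u} A) ℤ :=
  ((DRing.gammaI (Ideal.span {a | a ∈ l})).mapHomologicalComplex (ComplexShape.up ℤ)).obj E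

/-- Inclusion of torsion subcomplexes. -/
noncomputable def gammaLe {J J' : Ideal A} (h : J' ≤ J) : DRing.gammaI J ⟶ DRing.gammaI J' where
  app M := ModuleCat.ofHom (Submodule.inclusion (fun x ⟨n, hn⟩ => ⟨n, fun a ha => hn a (Ideal.pow_right_mono h n ha)⟩))
  naturality _ _ _ := rfl

/-- The inclusion into the complex. -/
noncomputable def gammaToId (l : List A) (E : CochainComplex (ModuleCat.{u} A) ℤ) : gammaCx l E ⟶ E where
  f i := (DRing.gammaIι (Ideal.span {a | a ∈ l})).app (E.X i)
  comm' i j _ := ((DRing.gammaIι (Ideal.span {a | a ∈ l})).naturality (E.d i j)).symm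

theorem span_le_cons (g : A) (l : List A) :
    Ideal.span {a | a ∈ l} ≤ Ideal.span {a | a ∈ g :: l} :=
  Ideal.span_mono fun _ ha => List.mem_cons_of_mem _ ha

theorem shortExact_gamma (g : A) (l : List A) (M : ModuleCat.{u} A) [Injective M] :
    ∃ w, (ShortComplex.mk ((gammaLe (span_le_cons g l)).app M)
      ((ModuleCat.extendRestrictScalarsAdj.{u, u, u} (φA g)).unit.app
        ((DRing.gammaI (Ideal.span {a | a ∈ l})).obj M)) w).ShortExact := by
  let N := (DRing.gammaI (Ideal.span {a | a ∈ l})).obj M
  let η := (ModuleCat.extendRestrictScalarsAdj.{u, u, u} (φA g)).unit.app N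
  let L := TensorProduct.mk A (Localization.Away g) N 1
  have hη : ∀ x : N, extTensorEquiv g N (η.hom x) = L x := extTensorEquiv_unit g N
  have hker : ∀ x : N, η.hom x = 0 ↔ ∃ n : ℕ, g ^ n • x = 0 := fun x => by
    rw [← (extTensorEquiv g N).map_eq_zero_iff, hη, IsLocalizedModule.eq_zero_iff (Submonoid.powers g) L]
    exact ⟨fun ⟨⟨_, n, rfl⟩, hn⟩ => ⟨n, hn⟩, fun ⟨n, hn⟩ => ⟨⟨_, n, rfl⟩, hn⟩⟩
  have hw : (gammaLe (span_le_cons g l)).app M ≫ η = 0 := by
    ext x
    refine (hker _).2 ?_
    obtain ⟨n, hn⟩ := (mem_torsionSub_iff (g :: l) x.1).1 x.2 g List.mem_cons_self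
    exact ⟨n, Subtype.ext hn⟩
  refine ⟨hw, { exact := (ShortComplex.moduleCat_exact_iff _).2 fun (x : N) hx => ?_, mono_f := ?_, epi_g := ?_ }⟩
  · obtain ⟨n, hn⟩ := (hker x).1 hx
    refine ⟨⟨x.1, (mem_torsionSub_iff (g :: l) x.1).2 fun g' hg' => ?_⟩, rfl⟩
    rcases List.mem_cons.1 hg' with rfl | hg'
    · exact ⟨n, congrArg Subtype.val hn⟩
    · exact (mem_torsionSub_iff l x.1).1 x.2 g' hg'
  · rw [ModuleCat.mono_iff_injective]
    exact fun a b h => Subtype.ext (congrArg Subtype.val h :)
  · rw [ModuleCat.epi_iff_surjective]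
    haveI hM : Module.Injective A M := Module.injective_module_of_injective_object A M
    have hb := _root_.LocCohLib.surjective_loc_of_baer
      (_root_.LocCohLib.baer_torsionSub (Module.Baer.of_injective hM) (Ideal.span {a | a ∈ l})) g
    intro z
    obtain ⟨x, hx⟩ := hb ((IsLocalizedModule.iso (Submonoid.powers g) L).symm (extTensorEquiv g N z))
    refine ⟨x, (extTensorEquiv g N).injective ?_⟩
    refine (hη x).trans ?_
    exact (IsLocalizedModule.iso_mk_one (Submonoid.powers g) L x).symm.trans
      ((congrArg (IsLocalizedModule.iso (Submonoid.powers g) L) hx).trans (LinearEquiv.apply_symm_apply _ _))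

theorem isCoref_gammaCx (E : CochainComplex (ModuleCat.{u} A) ℤ) (hE : ∀ i, Injective (E.X i)) :
    ∀ l : List A, IsCoref l (DerivedCategory.Q.map (gammaToId l E))
  | [] => by
    haveI : IsIso (gammaToId [] E) := by
      haveI : ∀ i, IsIso ((gammaToId [] E).f i) := fun i => by
        rw [ConcreteCategory.isIso_iff_bijective]
        exact ⟨Subtype.val_injective, fun x => ⟨⟨x, (mem_torsionSub_iff ([] : List A) x).2 (fun g hg => absurd hg List.not_mem_nil)⟩, rfl⟩⟩
      exact HomologicalComplex.Hom.isIso_of_components _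
    exact (isCoref_id (fun g hg => absurd hg List.not_mem_nil)).of_iso
      (asIso (DerivedCategory.Q.map (gammaToId [] E))) (Category.comp_id _).symm
  | g :: l => by
    obtain ⟨h1, h2⟩ := isCoref_gammaCx E hE l
    let v : gammaCx (g :: l) E ⟶ gammaCx l E :=
      (NatTrans.mapHomologicalComplex (gammaLe (span_le_cons g l)) _).app E
    let p : gammaCx l E ⟶ ((resM g).mapHomologicalComplex _).obj
        (((extM g).mapHomologicalComplex _).obj (gammaCx l E)) :=
      (DCompLib.adjC g).unit.app (gammaCx l E)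
    haveI := hE
    have hw : v ≫ p = 0 := by
      ext i : 1
      exact (shortExact_gamma g l (E.X i)).choose
    have hS : (ShortComplex.mk v p hw).ShortExact :=
      HomologicalComplex.shortExact_of_degreewise_shortExact _ fun i => (shortExact_gamma g l (E.X i)).choose_spec
    have hT := DerivedCategory.triangleOfSES_distinguished hS
    let G := DerivedCategory.Q.obj (((extM g).mapHomologicalComplex (ComplexShape.up ℤ)).obj (gammaCx l E))
    let eG : DerivedCategory.Q.obj (((resM g).mapHomologicalComplex _).obj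
        (((extM g).mapHomologicalComplex _).obj (gammaCx l E))) ≅ (resD g).obj G :=
      ((resM g).mapDerivedCategoryFactors.app _).symm
    let T₀ := Triangle.mk (DerivedCategory.Q.map v) (DerivedCategory.Q.map p ≫ eG.hom)
      (eG.inv ≫ DerivedCategory.triangleOfSESδ hS)
    have hT₀ : T₀ ∈ Pretriangulated.distinguishedTriangles := by
      refine Pretriangulated.isomorphic_distinguished _ hT _
        (Triangle.isoMk _ _ (Iso.refl _) (Iso.refl _) eG.symm ?_ ?_ ?_)
      · exact (Category.comp_id _).trans (Category.id_comp _).symm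
      · exact ((Category.assoc _ _ _).trans (congrArg (DerivedCategory.Q.map p ≫ ·) eG.hom_inv_id)).trans
          ((Category.comp_id _).trans (Category.id_comp _).symm)
      · change (eG.inv ≫ DerivedCategory.triangleOfSESδ hS) ≫ (shiftFunctor _ (1 : ℤ)).map (𝟙 _) =
          eG.inv ≫ DerivedCategory.triangleOfSESδ hS
        rw [CategoryTheory.Functor.map_id]
        exact Category.comp_id _
    refine ⟨fun g' hg' i => ?_, fun T hT' => ?_⟩
    · refine isTorsM_of_surjective
        ((DerivedCategory.homologyFunctorFactors (ModuleCat.{u} A) i).app (gammaCx (g :: l) E)).inv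
        ((DerivedCategory.homologyFunctorFactors (ModuleCat.{u} A) i).app
          (gammaCx (g :: l) E)).symm.toLinearEquiv.surjective ?_
      refine isTorsM_of_surjective ((gammaCx (g :: l) E).homologyπ i)
        ((ModuleCat.epi_iff_surjective _).1 inferInstance) ?_
      refine isTorsM_of_injective ((gammaCx (g :: l) E).iCycles i)
        ((ModuleCat.mono_iff_injective _).1 inferInstance) fun x => ?_
      obtain ⟨n, hn⟩ := (mem_torsionSub_iff (g :: l) x.1).1 x.2 g' hg'
      exact ⟨n, Subtype.ext hn⟩
    · have hb := bijective_comp_of_loc (g := g) List.mem_cons_self hT₀ hT'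
      have h3 := (h2 T fun g' hg' => hT' g' (List.mem_cons_of_mem g hg')).comp hb
      convert h3 using 1
      funext t
      refine Eq.trans ?_ (Category.assoc _ _ _).symm
      rw [← Functor.map_comp]
      rfl

theorem exists_list_span' (I : Ideal A) : ∃ l : List A, Ideal.span {a | a ∈ l} = I := by
  obtain ⟨S, hS⟩ := IsNoetherian.noetherian I
  exact ⟨S.toList, by simpa [Finset.mem_toList] using hS⟩

/-- `RΓ_J → 𝟭` is the coreflection onto objects with torsion cohomology. -/
theorem isCoref_RgammaIε (l : List A) (J : Ideal A) (hl : Ideal.span {a | a ∈ l} = J) [DRing.HasRgammaI J]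
    (X : Dual.D A) : IsCoref l ((DRing.RgammaIε J).app X) := by
  subst hl
  let J := Ideal.span {a | a ∈ l}
  let K := DerivedCategory.Q.objPreimage X
  let eX : DerivedCategory.Q.obj K ≅ X := DerivedCategory.Q.objObjPreimageIso X
  obtain ⟨E, f, hE, hf, hinj⟩ := DerLib.KInjRes.exists_resolution K
  haveI := (HomologicalComplex.mem_quasiIso_iff _).1 hf.2
  let eE : DerivedCategory.Qh.obj ((HomotopyCategory.quotient _ _).obj E) ≅ X :=
    (DerivedCategory.quotientCompQhIso _).app E ≪≫ (asIso (DerivedCategory.Q.map f)).symm ≪≫ eX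
  let W := HomotopyCategory.quasiIso (ModuleCat.{u} A) (ComplexShape.up ℤ)
  let α := (DRing.gammaIKh J).totalRightDerivedUnit DerivedCategory.Qh W
  haveI := DerLib.KInjDerived.isIso_app (DRing.RgammaI J) α (DerLib.KInjDerived.enoughKInj _) E
  let P := (HomotopyCategory.quotient (ModuleCat.{u} A) (ComplexShape.up ℤ)).obj E
  have hfac : α.app P ≫ (DRing.RgammaIε J).app (DerivedCategory.Qh.obj P) =
      (DRing.gammaIτ J ≫ (Functor.rightUnitor _).inv).app P :=
    (DRing.RgammaI J).rightDerived_fac_app α W (𝟭 _) _ P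
  let qG := (DerivedCategory.quotientCompQhIso (ModuleCat.{u} A)).app (gammaCx l E)
  let eΓ : (DRing.gammaIKh J).obj P ≅ DerivedCategory.Q.obj (gammaCx l E) :=
    DerivedCategory.Qh.mapIso (((DRing.gammaI J).mapHomotopyCategoryFactors (ComplexShape.up ℤ)).app E) ≪≫ qG
  have hτ : (DRing.gammaIτ J).app P = eΓ.hom ≫ DerivedCategory.Q.map (gammaToId l E) ≫
      ((DerivedCategory.quotientCompQhIso (ModuleCat.{u} A)).app E).inv := by
    have hn : DerivedCategory.Qh.map ((HomotopyCategory.quotient _ _).map (gammaToId l E)) =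
        qG.hom ≫ DerivedCategory.Q.map (gammaToId l E) ≫
          ((DerivedCategory.quotientCompQhIso (ModuleCat.{u} A)).app E).inv := by
      rw [← Category.assoc, Iso.eq_comp_inv]
      exact (DerivedCategory.quotientCompQhIso (ModuleCat.{u} A)).hom.naturality (gammaToId l E)
    refine Eq.trans ?_ ((congrArg
      (DerivedCategory.Qh.map (((DRing.gammaI J).mapHomotopyCategoryFactors (ComplexShape.up ℤ)).hom.app E) ≫ ·)
      hn).trans (Category.assoc _ _ _).symm)
    change (DRing.gammaIτ0 J).app E = _
    simp only [DRing.gammaIτ0, NatTrans.comp_app, Functor.associator_inv_app, Functor.associator_hom_app,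
      Functor.leftUnitor_hom_app, Functor.whiskerRight_app, Functor.comp_map, Category.id_comp]
    congr 1
    refine (congrArg (_ ≫ ·) (Category.comp_id _)).trans ?_
    rw [← Functor.map_comp, ← Functor.map_comp]
    rfl
  let q := (DerivedCategory.quotientCompQhIso (ModuleCat.{u} A)).app E
  have h := isCoref_gammaCx E hinj l
  let eR : (DRing.RgammaI J).obj X ≅ DerivedCategory.Q.obj (gammaCx l E) :=
    (DRing.RgammaI J).mapIso eE.symm ≪≫ (asIso (α.app P)).symm ≪≫ eΓ
  have hu : (DRing.RgammaIε J).app X = eR.hom ≫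
      (DerivedCategory.Q.map (gammaToId l E) ≫ q.inv ≫ eE.hom) := by
    have hnat := (DRing.RgammaIε J).naturality eE.hom
    simp only [Functor.id_map] at hnat
    have h2 : (DRing.RgammaIε J).app (DerivedCategory.Qh.obj P) =
        inv (α.app P) ≫ eΓ.hom ≫ DerivedCategory.Q.map (gammaToId l E) ≫ q.inv := by
      rw [IsIso.eq_inv_comp, hfac, NatTrans.comp_app, hτ]
      exact Category.comp_id _
    have h3 : (DRing.RgammaIε J).app X = (DRing.RgammaI J).map eE.inv ≫
        (DRing.RgammaIε J).app (DerivedCategory.Qh.obj P) ≫ eE.hom := by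
      rw [← hnat, ← Functor.map_comp_assoc, Iso.inv_hom_id, CategoryTheory.Functor.map_id, Category.id_comp]
    rw [h3, h2]
    simp only [eR, Iso.trans_hom, Functor.mapIso_hom, Iso.symm_hom, asIso_inv, Category.assoc]
  refine ⟨h.1.of_iso eR.symm, fun T hT => ?_⟩
  have hb := ((q.symm ≪≫ eE).homToEquiv.bijective).comp ((h.2 T hT).comp eR.homToEquiv.bijective)
  convert hb using 1
  funext t
  change t ≫ (DRing.RgammaIε J).app X = ((t ≫ eR.hom) ≫ DerivedCategory.Q.map (gammaToId l E)) ≫ q.inv ≫ eE.hom
  rw [hu, Category.assoc, Category.assoc]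

end Model

end Groth.Agent.DRingLib
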