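import Groth.Agent.DRingLib.RgammaPro
import Groth.Prelude.Def_DCoh2

/-!
# Derived completion of `RΓ_J M` as a derived limit
-/

set_option autoImplicit false
set_option linter.style.haveILetI false
set_option linter.unusedSectionVars false
set_option backward.isDefEq.respectTransparency false

universe u

open CategoryTheory CategoryTheory.Limits Opposite
open CategoryTheory.Pretriangulated (Triangle)
open Groth.Agent.DerLib.NilpTest (Nilp)

attribute [local instance] HasDerivedCategory.standard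

namespace Groth.Agent.DRingLib

variable {A : Type u} [CommRing A]

section Milnor

variable {D : Type*} [Category D] [Preadditive D] [HasZeroObject D] [HasShift D ℤ]
  [∀ n : ℤ, (shiftFunctor D n).Additive] [Pretriangulated D] {K : ℕ → D} [HasProduct K] {X T : D}
  (tt : ∀ n m : ℕ, n ≤ m → (K m ⟶ K n)) (x : ∀ n, X ⟶ K n)

/-- The shift map. -/
noncomputable abbrev shiftMap : ∏ᶜ K ⟶ ∏ᶜ K :=
  Pi.lift fun n => Pi.π K n - Pi.π K (n + 1) ≫ tt n (n + 1) (Nat.le_succ n)

omit [HasZeroObject D] [HasShift D ℤ] [∀ n : ℤ, (shiftFunctor D n).Additive] [Pretriangulated D] in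
theorem shiftMap_π (y : T ⟶ ∏ᶜ K) (n : ℕ) : (y ≫ shiftMap tt) ≫ Pi.π K n =
    y ≫ Pi.π K n - (y ≫ Pi.π K (n + 1)) ≫ tt n (n + 1) (Nat.le_succ n) := by
  simp only [Category.assoc, Pi.lift_π, Preadditive.comp_sub]

variable (hcomp : ∀ n m k (h : n ≤ m) (h' : m ≤ k), tt m k h' ≫ tt n m h = tt n k (h.trans h'))
  (hid : ∀ n, tt n n (le_refl n) = 𝟙 (K n)) (hx : ∀ n m (h : n ≤ m), x m ≫ tt n m h = x n)
  (φ : ℕ → ℕ) (hφ : ∀ n, n ≤ φ n)
  (hψ : ∀ n (y : T ⟶ K (φ n)), ∃ a : T ⟶ X, a ≫ x n = y ≫ tt n (φ n) (hφ n))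

include hcomp hid hx hψ

omit [HasZeroObject D] [HasShift D ℤ] [∀ n : ℤ, (shiftFunctor D n).Additive] [Pretriangulated D] in
theorem surjective_shiftMap (z : T ⟶ ∏ᶜ K) : ∃ y, y ≫ shiftMap tt = z := by
  let P : ℕ → ℕ := fun n => Nat.rec (φ 0 + 1) (fun i p => max p (max (φ (i + 1)) (i + 2))) n
  have hP0 : ∀ n, φ n ≤ P n ∧ n < P n := fun n => by
    cases n with
    | zero => exact ⟨Nat.le_succ _, Nat.succ_pos _⟩
    | succ i => exact ⟨(le_max_left _ _).trans (le_max_right _ _), by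
        show i + 1 < max (P i) (max (φ (i + 1)) (i + 2))
        omega⟩
  have hPm : ∀ n, P n ≤ P (n + 1) := fun n => le_max_left _ _
  let term : ∀ n : ℕ, ℕ → (T ⟶ K n) := fun n i => if h : n ≤ i then (z ≫ Pi.π K i) ≫ tt n i h else 0
  have htail : ∀ n, ∃ d : T ⟶ X, d ≫ x n = ∑ i ∈ Finset.Ico (P n) (P (n + 1)), term n i := fun n => by
    have h1 : ∀ i, P n ≤ i → ∃ d : T ⟶ X, d ≫ x n = term n i := fun i hi => by
      obtain ⟨d, hd⟩ := hψ n (((z ≫ Pi.π K i) ≫ tt _ _ ((hP0 n).1.trans hi)))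
      refine ⟨d, hd.trans ?_⟩
      simp only [term, dif_pos ((hP0 n).2.le.trans hi)]
      rw [Category.assoc, hcomp]
    choose! d hd using h1
    exact ⟨∑ i ∈ Finset.Ico (P n) (P (n + 1)), d i, (Preadditive.sum_comp _ _ _).trans
      (Finset.sum_congr rfl fun i hi => hd i (Finset.mem_Ico.1 hi).1)⟩
  choose d hd using htail
  let b : ℕ → (T ⟶ X) := fun n => -∑ i ∈ Finset.range n, d i
  let y : ∀ n, T ⟶ K n := fun n => (∑ i ∈ Finset.Ico n (P n), term n i) + b n ≫ x n
  refine ⟨Pi.lift y, Pi.hom_ext _ _ fun n => (shiftMap_π tt _ n).trans ?_⟩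
  rw [Pi.lift_π, Pi.lift_π]
  have hS : (∑ i ∈ Finset.Ico (n + 1) (P (n + 1)), term (n + 1) i) ≫ tt n (n + 1) (Nat.le_succ n) =
      ∑ i ∈ Finset.Ico (n + 1) (P (n + 1)), term n i := by
    rw [Preadditive.sum_comp]
    refine Finset.sum_congr rfl fun i hi => ?_
    have h1 := (Finset.mem_Ico.1 hi).1
    simp only [term, dif_pos h1, dif_pos (Nat.le_of_succ_le h1), Category.assoc, hcomp]
  have hz : term n n = z ≫ Pi.π K n := by
    simp only [term, dif_pos le_rfl, hid, Category.comp_id]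
  have hb : b (n + 1) = b n - d n := by
    simp only [b, Finset.sum_range_succ]
    abel
  simp only [y, hb, Preadditive.add_comp, Preadditive.sub_comp, Category.assoc, hx, hS]
  have e1 := Finset.sum_Ico_consecutive (term n) (Nat.succ_le_of_lt (hP0 n).2) (hPm n)
  have e2 := Finset.sum_eq_sum_Ico_succ_bot (hP0 n).2 (term n)
  rw [← e1, e2, hz, ← hd n]
  abel

theorem bijective_to_rlim (n₀ : ℕ) (hinj : ∀ a : T ⟶ X, a ≫ x n₀ = 0 → a = 0)
    (hsurj : ∀ z : T⟦(1 : ℤ)⟧ ⟶ ∏ᶜ K, ∃ y, y ≫ shiftMap tt = z)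
    {L : D} {a : L ⟶ ∏ᶜ K} {c : ∏ᶜ K ⟶ L⟦(1 : ℤ)⟧}
    (hL : Triangle.mk a (shiftMap tt) c ∈ Pretriangulated.distinguishedTriangles)
    (q : X ⟶ L) (hqa : ∀ n, (q ≫ a) ≫ Pi.π K n = x n) :
    Function.Bijective fun y : T ⟶ X => y ≫ q := by
  refine ⟨fun y y' hyy => sub_eq_zero.1 (hinj _ ?_), fun d => ?_⟩
  · simp only at hyy
    rw [← hqa n₀, ← Category.assoc, ← Category.assoc, Preadditive.sub_comp y y' q, hyy, sub_self, zero_comp, zero_comp]
  · let y : ∀ n, T ⟶ K n := fun n => d ≫ a ≫ Pi.π K n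
    have hy1 : ∀ n, y (n + 1) ≫ tt n (n + 1) (Nat.le_succ n) = y n := fun n => by
      have h := shiftMap_π tt (d ≫ a) n
      rw [Category.assoc d a (shiftMap tt),
        show a ≫ shiftMap tt = 0 from Pretriangulated.comp_distTriang_mor_zero₁₂ _ hL, comp_zero, zero_comp] at h
      simpa only [y, Category.assoc] using (sub_eq_zero.1 h.symm).symm
    have hcompat : ∀ n m (h : n ≤ m), y m ≫ tt n m h = y n := by
      intro n m h
      induction h with
      | refl => rw [hid, Category.comp_id]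
      | @step m h ih =>
        rw [← hcomp n m (m + 1) h (Nat.le_succ m), ← Category.assoc, hy1, ih]
    choose w hw using fun m => hψ m (y (φ m))
    have hw' : ∀ m, w m ≫ x m = y m := fun m => (hw m).trans (hcompat _ _ (hφ m))
    refine ⟨w n₀, sub_eq_zero.1 ?_⟩
    have hm : ∀ m, n₀ ≤ m → w m = w n₀ := fun m hm => sub_eq_zero.1 (hinj _ (by
      rw [Preadditive.sub_comp, sub_eq_zero, hw', ← hx n₀ m hm, ← Category.assoc, hw', hcompat]))
    have heq : (w n₀ ≫ q - d) ≫ a = 0 := Pi.hom_ext _ _ fun n => by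
      rw [Preadditive.sub_comp, Preadditive.sub_comp, zero_comp, sub_eq_zero, Category.assoc, Category.assoc,
        ← Category.assoc q, hqa, Category.assoc]
      change w n₀ ≫ x n = y n
      rw [← hm (max n n₀) (le_max_right _ _), ← hx n _ (le_max_left n n₀), ← Category.assoc, hw', hcompat]
    obtain ⟨e, he⟩ := Triangle.coyoneda_exact₁ _ hL
      ((w n₀ ≫ q - d)⟦(1 : ℤ)⟧') (by
        change (w n₀ ≫ q - d)⟦(1 : ℤ)⟧' ≫ a⟦(1 : ℤ)⟧' = 0
        rw [← Functor.map_comp, heq, Functor.map_zero])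
    obtain ⟨e', he'⟩ := hsurj e
    apply (shiftFunctor D (1 : ℤ)).map_injective
    rw [Functor.map_zero, he, ← he']
    refine (Category.assoc _ _ _).trans ?_
    exact (congrArg (e' ≫ ·) (Pretriangulated.comp_distTriang_mor_zero₂₃ _ hL)).trans comp_zero

end Milnor

theorem IsCoref.shift {l : List A} {R X : Dual.D A} {u : R ⟶ X} (h : IsCoref l u) (n : ℤ) :
    IsCoref l (u⟦n⟧') := by
  refine ⟨h.1.shift n, fun T hT => ?_⟩
  let adj := (shiftEquiv' (Dual.D A) (-n) n (by omega)).toAdjunction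
  have hb := (adj.homEquiv T X).bijective.comp ((h.2 _ (hT.shift (-n))).comp (adj.homEquiv T R).symm.bijective)
  convert hb using 1
  funext t
  exact ((adj.homEquiv_naturality_right _ u).trans (congrArg (· ≫ u⟦n⟧') ((adj.homEquiv T R).apply_symm_apply t))).symm

variable [IsNoetherianRing A] (J : Ideal A) [DRing.HasRgammaI J] (l : List A)
  (hl : Ideal.span {a | a ∈ l} = J)

/-- The functor. -/
noncomputable abbrev Φ : Dual.D A ⥤ Dual.D A := DRing.RgammaI J

include l hl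

theorem additive_Φ : (Φ J).Additive :=
  ⟨fun {X Y f g} => ((isCoref_RgammaIε l J hl Y).2 _ (isCoref_RgammaIε l J hl X).1).1 (by
    simp only []
    rw [Preadditive.add_comp]
    erw [(DRing.RgammaIε J).naturality, (DRing.RgammaIε J).naturality, (DRing.RgammaIε J).naturality]
    exact Preadditive.comp_add _ _ _ _ _ _)⟩

theorem Φ_map_smul (r : A) (X : Dual.D A) : (Φ J).map (r • 𝟙 X) = r • 𝟙 _ :=
  ((isCoref_RgammaIε l J hl X).2 _ (isCoref_RgammaIε l J hl X).1).1 (by
    simp only []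
    erw [(DRing.RgammaIε J).naturality]
    simp only [Functor.id_map, Linear.comp_smul, Linear.smul_comp, Category.id_comp, Category.comp_id]
    exact congrArg (r • ·) (Category.comp_id _))

theorem exists_Φ_triangle {X Y Z : Dual.D A} {v : X ⟶ Y} {w : Y ⟶ Z} {q : Z ⟶ X⟦(1 : ℤ)⟧}
    (hS : Triangle.mk v w q ∈ Pretriangulated.distinguishedTriangles) :
    ∃ δ, Triangle.mk ((Φ J).map v) ((Φ J).map w) δ ∈ Pretriangulated.distinguishedTriangles := by
  let ε := DRing.RgammaIε J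
  have hc := fun K => isCoref_RgammaIε l J hl K
  obtain ⟨W, g', h', hT⟩ := Pretriangulated.distinguished_cocone_triangle ((Φ J).map v)
  obtain ⟨c, hc₁, hc₂⟩ := Pretriangulated.complete_distinguished_triangle_morphism _ _ hT hS
    (ε.app X) (ε.app Y) (ε.naturality v)
  change g' ≫ c = ε.app Y ≫ w at hc₁
  change h' ≫ (ε.app X)⟦(1 : ℤ)⟧' = c ≫ q at hc₂
  have hW : IsTors l W := IsTors.obj₁ _ (Pretriangulated.rot_of_distTriang _ (Pretriangulated.rot_of_distTriang _ hT))
    ((hc X).1.shift 1) ((hc Y).1.shift 1)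
  have hcoref : IsCoref l c := by
    refine ⟨hW, fun T hT' => ⟨fun a b hab => sub_eq_zero.1 ?_, fun z => ?_⟩⟩
    · have h0 : (a - b) ≫ c = 0 := by rw [Preadditive.sub_comp, sub_eq_zero]; exact hab
      generalize a - b = a at h0 ⊢
      have h1 : a ≫ h' = 0 := (((hc X).shift 1).2 T hT').1 (by
        simp only []
        rw [Category.assoc, hc₂, reassoc_of% h0, zero_comp]
        exact zero_comp.symm)
      obtain ⟨b', hb'⟩ := Triangle.coyoneda_exact₃ _ hT a h1
      change a = b' ≫ g' at hb'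
      have h2 : (b' ≫ ε.app Y) ≫ w = 0 := by
        rw [Category.assoc, ← hc₁, ← Category.assoc, ← hb', h0]
      obtain ⟨x, hx⟩ := Triangle.coyoneda_exact₂ _ hS (b' ≫ ε.app Y) h2
      obtain ⟨x', hx'⟩ := ((hc X).2 T hT').2 x
      simp only at hx'
      have h3 : b' = x' ≫ (Φ J).map v := ((hc Y).2 T hT').1 (by
        simp only []
        rw [Category.assoc]
        refine hx.trans ?_
        change x ≫ v = _
        rw [← hx', Category.assoc]
        exact (congrArg (x' ≫ ·) (ε.naturality v)).symm)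
      rw [hb', h3, Category.assoc]
      exact (congrArg (x' ≫ ·) (Pretriangulated.comp_distTriang_mor_zero₁₂ _ hT)).trans comp_zero
    · obtain ⟨w', hw'⟩ := (((hc X).shift 1).2 T hT').2 (z ≫ q)
      simp only at hw'
      have h1 : w' ≫ ((Φ J).map v)⟦(1 : ℤ)⟧' = 0 := (((hc Y).shift 1).2 T hT').1 (by
        simp only []
        rw [Category.assoc, ← Functor.map_comp]
        erw [ε.naturality]
        rw [Functor.map_comp, ← Category.assoc]
        erw [hw', Category.assoc, Pretriangulated.comp_distTriang_mor_zero₃₁ _ hS, comp_zero]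
        exact zero_comp.symm)
      obtain ⟨a₀, ha⟩ := Triangle.coyoneda_exact₂ _
        (Pretriangulated.rot_of_distTriang _ (Pretriangulated.rot_of_distTriang _ hT)) w'
        (by change w' ≫ (-((Φ J).map v)⟦(1 : ℤ)⟧') = 0; rw [Preadditive.comp_neg, h1, neg_zero])
      let a : T ⟶ W := a₀
      change w' = a ≫ h' at ha
      have h2 : (z - a ≫ c) ≫ q = 0 := by
        rw [Preadditive.sub_comp, Category.assoc, ← hc₂, ← Category.assoc, ← ha, hw', sub_self]
      obtain ⟨y, hy⟩ := Triangle.coyoneda_exact₃ _ hS (z - a ≫ c) h2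
      change z - a ≫ c = y ≫ w at hy
      obtain ⟨y', hy'⟩ := ((hc Y).2 T hT').2 y
      simp only at hy'
      refine ⟨a + y' ≫ g', ?_⟩
      change (a + y' ≫ g') ≫ c = z
      rw [Preadditive.add_comp, Category.assoc, hc₁, ← Category.assoc, hy', ← hy]
      abel
  obtain ⟨e, he⟩ := hcoref.exists_iso (hc Z)
  have hw : g' ≫ e.hom = (Φ J).map w := ((hc Z).2 _ (hc Y).1).1 (by
    simp only []
    rw [Category.assoc, he, hc₁]
    exact (ε.naturality w).symm)
  refine ⟨e.inv ≫ h', Pretriangulated.isomorphic_distinguished _ hT _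
    (Triangle.isoMk _ _ (Iso.refl _) (Iso.refl _) e.symm ?_ ?_ ?_)⟩
  · exact (Category.comp_id _).trans (Category.id_comp _).symm
  · exact ((congrArg (· ≫ e.inv) hw.symm).trans ((Category.assoc _ _ _).trans
      ((congrArg (g' ≫ ·) e.hom_inv_id).trans (Category.comp_id _)))).trans (Category.id_comp _).symm
  · change (e.inv ≫ h') ≫ (shiftFunctor (Dual.D A) (1 : ℤ)).map (𝟙 _) = e.inv ≫ h'
    rw [CategoryTheory.Functor.map_id, Category.comp_id]

variable (I : Ideal A) (M : Type u) [AddCommGroup M] [Module A M] [Module.Finite A M]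

omit l hl

/-- The `n`-th module. -/
abbrev Mq (n : ℕ) : ModuleCat.{u} A := ModuleCat.of A (M ⧸ (I ^ n • ⊤ : Submodule A M))

/-- The projection. -/
abbrev mqπ (n : ℕ) : ModuleCat.of A M ⟶ Mq I M n := ModuleCat.ofHom (I ^ n • ⊤ : Submodule A M).mkQ

/-- The transition. -/
abbrev mqT {n m : ℕ} (h : n ≤ m) : Mq I M m ⟶ Mq I M n :=
  ModuleCat.ofHom (Submodule.mapQ (I ^ m • ⊤ : Submodule A M) (I ^ n • ⊤ : Submodule A M) LinearMap.id
    (Submodule.smul_mono (Ideal.pow_le_pow_right h) le_rfl))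

theorem mqπ_T {n m : ℕ} (h : n ≤ m) : mqπ I M m ≫ mqT I M h = mqπ I M n := rfl

theorem mqT_T {n m k : ℕ} (h : n ≤ m) (h' : m ≤ k) : mqT I M h' ≫ mqT I M h = mqT I M (h.trans h') :=
  ModuleCat.hom_ext (LinearMap.ext fun z => by
    obtain ⟨z, rfl⟩ := Submodule.Quotient.mk_surjective _ z
    rfl)

theorem mqT_refl (n : ℕ) : mqT I M (le_refl n) = 𝟙 _ :=
  ModuleCat.hom_ext (LinearMap.ext fun z => by
    obtain ⟨z, rfl⟩ := Submodule.Quotient.mk_surjective _ z
    rfl)

include l hl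

theorem kill_hom {n : ℕ} {f : A} (hf : f ∈ I) :
    f ^ n • 𝟙 ((Φ J).obj (sF.obj (Mq I M n))) = 0 := by
  have h : f ^ n • 𝟙 (Mq I M n) = 0 := ModuleCat.hom_ext (Submodule.linearMap_qext _
    (LinearMap.ext fun m => (Submodule.Quotient.mk_eq_zero _).2
      (Submodule.smul_mem_smul (Ideal.pow_mem_pow hf n) Submodule.mem_top)))
  rw [← Φ_map_smul J l hl]
  have h2 : f ^ n • 𝟙 (sF.obj (Mq I M n)) = 0 := by
    rw [← sF.map_id, ← Functor.map_smul, h, Functor.map_zero]
  rw [h2]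
  haveI := additive_Φ J l hl
  exact Functor.map_zero _ _ _

/-- Killed test objects see `RΓ_J M` as the pro-system. -/
theorem pro_iso (s : Finset A) (hs : Ideal.span (s : Set A) = I) (T : Dual.D A) (hT : ∀ f ∈ s, Nilp f T) :
    (∃ n₀, ∀ n, n₀ ≤ n → ∀ a : T ⟶ (Φ J).obj (sF.obj (ModuleCat.of A M)),
        a ≫ (Φ J).map (sF.map (mqπ I M n)) = 0 → a = 0) ∧
      ∀ m, ∃ n, ∃ h : m ≤ n, ∀ y : T ⟶ (Φ J).obj (sF.obj (Mq I M n)),
        ∃ a : T ⟶ (Φ J).obj (sF.obj (ModuleCat.of A M)),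
          a ≫ (Φ J).map (sF.map (mqπ I M m)) = y ≫ (Φ J).map (sF.map (mqT I M h)) := by
  classical
  haveI := additive_Φ J l hl
  let F : Dual.D A ⥤ AddCommGrpCat.{u + 1} := Φ J ⋙ preadditiveCoyoneda.obj (op T)
  have hF : IsExactMid F := fun S hS y hy => by
    obtain ⟨δ, hδ⟩ := exists_Φ_triangle J l hl (v := S.mor₁) (w := S.mor₂) (q := S.mor₃) hS
    obtain ⟨x, hx⟩ := Triangle.coyoneda_exact₂ _ hδ y hy
    exact ⟨x, hx.symm⟩
  choose! k hk using hT
  obtain ⟨N, hN⟩ := DCompLib.exists_pow_le_span_pows s (s.sup k)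
  let lp := s.toList.map fun f => f ^ s.sup k
  have hlp : Ideal.span ((fun f => f ^ s.sup k) '' (s : Set A)) = Ideal.span {a | a ∈ lp} := by
    congr 1
    ext a
    simp [lp]
  have hkill : ∀ g ∈ lp, ∀ (X : Dual.D A) (x : F.obj X), F.map (g • 𝟙 X) x = 0 := fun g hg X x => by
    obtain ⟨f, hf, rfl⟩ := List.mem_map.1 hg
    have hf' := Finset.mem_toList.1 hf
    have h0 : f ^ s.sup k • 𝟙 T = 0 := by
      rw [← Nat.sub_add_cancel (Finset.le_sup (f := k) hf'), pow_add, mul_smul, hk f hf', smul_zero]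
    change x ≫ (Φ J).map (f ^ s.sup k • 𝟙 X) = 0
    rw [Φ_map_smul J l hl, Linear.comp_smul]
    erw [Category.comp_id]
    exact ((congrArg (f ^ s.sup k • ·) (Category.id_comp x).symm).trans
      (Linear.smul_comp _ _ _ _ _ _).symm).trans (by rw [h0, zero_comp])
  let SES : ℕ → ShortComplex (ModuleCat.{u} A) := fun n => ShortComplex.mk
    (ModuleCat.ofHom (I ^ n • ⊤ : Submodule A M).subtype) (mqπ I M n) (by
      ext ⟨q, hq⟩
      exact (Submodule.Quotient.mk_eq_zero _).2 hq)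
  have hSES : ∀ n, (SES n).ShortExact := fun n =>
    { exact := (ShortComplex.moduleCat_exact_iff _).2 fun q hq =>
        ⟨⟨q, (Submodule.Quotient.mk_eq_zero _).1 hq⟩, rfl⟩
      mono_f := (ModuleCat.mono_iff_injective _).2 Subtype.val_injective
      epi_g := (ModuleCat.epi_iff_surjective _).2 (Submodule.mkQ_surjective _) }
  haveI : IsNoetherian A M := isNoetherian_of_isNoetherianRing_of_finite A M
  refine ⟨?_, fun m => ?_⟩
  · obtain ⟨n₀, hn₀⟩ := exists_deep_zero lp F hF hkill (ModuleCat.of A M)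
    refine ⟨N * n₀, fun n hn a ha => ?_⟩
    obtain ⟨b, hb⟩ := hF _ (hSES n).singleTriangle_distinguished a ha
    refine hb.symm.trans (hn₀ _ _ ?_ b)
    change LinearMap.range (I ^ n • ⊤ : Submodule A M).subtype ≤ _
    rw [Submodule.range_subtype, ← hlp]
    refine Submodule.smul_mono ((Ideal.pow_le_pow_right hn).trans ?_) le_rfl
    rw [pow_mul, ← hs]
    exact Ideal.pow_right_mono hN _
  · obtain ⟨n₀, hn₀⟩ := exists_deep_zero lp (shiftFunctor (Dual.D A) (1 : ℤ) ⋙ F) hF.shift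
      (fun g hg X x => by
        change F.map ((shiftFunctor (Dual.D A) (1 : ℤ)).map (g • 𝟙 X)) x = 0
        rw [DerLib.NilpTest.smul_shift]
        exact hkill g hg _ x) (ModuleCat.of A (I ^ m • ⊤ : Submodule A M))
    refine ⟨N * n₀ + m, Nat.le_add_left m _, fun y => ?_⟩
    have hle : m ≤ N * n₀ + m := Nat.le_add_left m _
    let φ : SES (N * n₀ + m) ⟶ SES m :=
      { τ₁ := ModuleCat.ofHom (Submodule.inclusion (Submodule.smul_mono (Ideal.pow_le_pow_right hle) le_rfl))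
        τ₂ := 𝟙 _
        τ₃ := mqT I M hle
        comm₁₂ := rfl
        comm₂₃ := rfl }
    have hdeep : LinearMap.range φ.τ₁.hom ≤
        Ideal.span {a | a ∈ lp} ^ n₀ • (⊤ : Submodule A (I ^ m • ⊤ : Submodule A M)) := by
      refine le_trans ?_ (Submodule.smul_mono ((le_of_eq (pow_mul I N n₀)).trans
        (Ideal.pow_right_mono ((hs ▸ hN).trans hlp.le) n₀)) le_rfl)
      rintro _ ⟨q, rfl⟩
      have hq : (q.1 : M) ∈ ((I ^ (N * n₀) • ⊤ : Submodule A (I ^ m • ⊤ : Submodule A M))).map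
          (I ^ m • ⊤ : Submodule A M).subtype := by
        rw [Submodule.map_smul'', Submodule.map_top, Submodule.range_subtype, ← Submodule.mul_smul, ← pow_add]
        exact q.2
      obtain ⟨q₀, hq₀, he⟩ := hq
      exact (Subtype.ext he : q₀ = φ.τ₁.hom q) ▸ hq₀
    have hδ : F.map (hSES m).singleδ (F.map (sF.map φ.τ₃) y) = 0 := by
      have h := congrArg (fun f => F.map f (show F.obj (sF.obj (Mq I M (N * n₀ + m))) from y))
        (ShortComplex.ShortExact.singleTriangle.map (hSES (N * n₀ + m)) (hSES m) φ).comm₃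
      simp only [Functor.map_comp] at h
      exact h.symm.trans (hn₀ _ φ.τ₁ hdeep (F.map (hSES (N * n₀ + m)).singleδ y))
    obtain ⟨a, ha⟩ := hF _ (Pretriangulated.rot_of_distTriang _ (hSES m).singleTriangle_distinguished)
      (F.map (sF.map φ.τ₃) y) hδ
    exact ⟨a, ha⟩

/-- A derived limit of the system is the completion. -/
theorem exists_isRefl_rlim [∀ K : ℕ → Dual.D A, HasProduct K] :
    ∃ (L : Dual.D A) (q : (Φ J).obj (sF.obj (ModuleCat.of A M)) ⟶ L),
      DCompLib.IsRefl I q ∧ DCoh.IsRlim (fun n => (Φ J).obj (sF.obj (Mq I M n)))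
        (fun n => (Φ J).map (sF.map (mqT I M (Nat.le_succ n)))) L := by
  classical
  obtain ⟨s, hs⟩ := IsNoetherian.noetherian I
  change Ideal.span (s : Set A) = I at hs
  let X := (Φ J).obj (sF.obj (ModuleCat.of A M))
  let K : ℕ → Dual.D A := fun n => (Φ J).obj (sF.obj (Mq I M n))
  let x : ∀ n, X ⟶ K n := fun n => (Φ J).map (sF.map (mqπ I M n))
  let tt : ∀ n m : ℕ, n ≤ m → (K m ⟶ K n) := fun _ _ h => (Φ J).map (sF.map (mqT I M h))
  have hcomp : ∀ n m k (h : n ≤ m) (h' : m ≤ k), tt m k h' ≫ tt n m h = tt n k (h.trans h') :=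
    fun n m k h h' => by simp only [tt, ← Functor.map_comp, mqT_T]
  have hid : ∀ n, tt n n (le_refl n) = 𝟙 (K n) := fun n => by
    simp only [tt, mqT_refl, CategoryTheory.Functor.map_id]; rfl
  have hx : ∀ n m (h : n ≤ m), x m ≫ tt n m h = x n := fun n m h => by
    simp only [x, tt, ← Functor.map_comp, mqπ_T]
  obtain ⟨L, a, c, hL⟩ := Pretriangulated.distinguished_cocone_triangle₁ (shiftMap tt)
  obtain ⟨q, hq⟩ : ∃ q : X ⟶ L, Pi.lift x = q ≫ a :=
    Triangle.coyoneda_exact₂ _ hL (Pi.lift x) (Pi.hom_ext _ _ fun n => by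
      refine (shiftMap_π tt _ n).trans ?_
      rw [Pi.lift_π, Pi.lift_π, hx, sub_self, zero_comp])
  have hqa : ∀ n, (q ≫ a) ≫ Pi.π K n = x n := fun n => by rw [← hq, Pi.lift_π]
  refine ⟨L, q, ?_, a, c, hL⟩
  have hK : ∀ n, DRing.IsDerivedComplete I (K n) := fun n =>
    hs ▸ DCompLib.isDerivedComplete_of_nilp s fun f hf => ⟨n, kill_hom J l hl I M (hs ▸ Ideal.subset_span hf)⟩
  have hP : DRing.IsDerivedComplete I (∏ᶜ K) := fun f hf => (DCompLib.comp_iff_forall f).2 fun Y =>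
    ⟨fun y y' => Pi.hom_ext _ _ fun n => ((DCompLib.comp_iff_forall f).1 (hK n f hf) Y).elim _ _⟩
  have hL1 : DRing.IsDerivedComplete I (L⟦(1 : ℤ)⟧) :=
    DCompLib.isDerivedComplete_obj₃ (Triangle.mk a (shiftMap tt) c).rotate
      (Pretriangulated.rot_of_distTriang _ hL) hP hP
  have hLc : DRing.IsDerivedComplete I L :=
    (DRing.IsDerivedComplete I).prop_of_iso
      ((shiftEquiv' (Dual.D A) (1 : ℤ) (-1) (by omega)).unitIso.app L).symm
      ((DRing.IsDerivedComplete I).le_shift (-1 : ℤ) _ hL1)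
  have hb : ∀ T : Dual.D A, (∀ f ∈ s, Nilp f T) → Function.Bijective fun y : T ⟶ X => y ≫ q := by
    intro T hT
    obtain ⟨⟨n₀, hn₀⟩, h2⟩ := pro_iso J l hl I M s hs T hT
    obtain ⟨-, h2'⟩ := pro_iso J l hl I M s hs (T⟦(1 : ℤ)⟧)
      fun f hf => DerLib.NilpTest.nilp_shift (hT f hf) 1
    choose φ hφ hψ using h2
    choose φ' hφ' hψ' using h2'
    exact bijective_to_rlim tt x hcomp hid hx φ hφ hψ n₀ (hn₀ n₀ le_rfl)
      (surjective_shiftMap tt x hcomp hid hx φ' hφ' hψ') hL q hqa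
  obtain ⟨C, p, r, hC⟩ := Pretriangulated.distinguished_cocone_triangle q
  obtain ⟨B, Z, u, r', t', hS, hB, hZ⟩ := DCompLib.exists_decomp (I := I) s.toList
    (fun f hf => hs ▸ Ideal.subset_span (Finset.mem_toList.1 hf)) C
  refine DCompLib.isRefl_of_triangle hC hLc ?_
  refine DerLib.NilpTest.leftOrthogonal_of_test (R := A) (DRing.IsDerivedComplete I) s.toList ?_ ?_ hS ?_ hZ ?_
  · intro K' hK'
    exact hs ▸ DCompLib.isDerivedComplete_of_nilp s fun f hf => hK' f (Finset.mem_toList.2 hf)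
  · intro f hf K' hK' hi
    exact DCompLib.isZero_of_isIso_smul s (Finset.mem_toList.1 hf) (hs.symm ▸ hK') hi
  · exact hs ▸ DCompLib.isDerivedComplete_span_iff.2 fun f hf => hB f (Finset.mem_toList.2 hf)
  · intro T hT0
    exact DerLib.NilpTest.subsingleton_obj₃ hC (hb T fun f hf => hT0 f (Finset.mem_toList.2 hf)).2
      (hb _ fun f hf => DerLib.NilpTest.nilp_shift (hT0 f (Finset.mem_toList.2 hf)) _).1

end Groth.Agent.DRingLib
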