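import Groth.Agent.DRingLib.PCohTop

/-!
# Resolving pseudo-coherent objects by finite free modules
-/

set_option autoImplicit false

universe u

open CategoryTheory CategoryTheory.Limits HomologicalComplex
open CochainComplex (mappingCone)
open CochainComplex.HomComplex

attribute [local instance] HasDerivedCategory.standard

namespace Groth.Agent.DRingLib

variable {R : Type u} [CommRing R]

/-- A map of cones is invertible in a degree when the two maps are. -/
theorem isIso_coneMap_f {K₁ L₁ K₂ L₂ : CochainComplex (ModuleCat.{u} R) ℤ} (φ₁ : K₁ ⟶ L₁)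
    (φ₂ : K₂ ⟶ L₂) (a : K₁ ⟶ K₂) (b : L₁ ⟶ L₂) (comm : φ₁ ≫ b = a ≫ φ₂) (i : ℤ)
    [IsIso (a.f (i + 1))] [IsIso (b.f i)] :
    IsIso ((CochainComplex.mappingCone.map φ₁ φ₂ a b comm).f i) := by
  refine ⟨(CochainComplex.mappingCone.fst φ₂).1.v i (i + 1) rfl ≫ inv (a.f (i + 1)) ≫
      (CochainComplex.mappingCone.inl φ₁).v (i + 1) i (by omega) +
    (CochainComplex.mappingCone.snd φ₂).v i i (add_zero i) ≫ inv (b.f i) ≫
      (CochainComplex.mappingCone.inr φ₁).f i, ?_, ?_⟩
  · refine (CochainComplex.mappingCone.ext_from_iff φ₁ (i + 1) i rfl _ _).mpr ⟨?_, ?_⟩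
    · simp [CochainComplex.mappingCone.map]
    · simp [CochainComplex.mappingCone.map]
  · refine (CochainComplex.mappingCone.ext_from_iff φ₂ (i + 1) i rfl _ _).mpr ⟨?_, ?_⟩
    · simp [CochainComplex.mappingCone.map]
    · simp [CochainComplex.mappingCone.map]

/-- A map invertible in three consecutive degrees preserves exactness in the middle one. -/
theorem isZero_homology_of_isIso_f {K L : CochainComplex (ModuleCat.{u} R) ℤ} (f : K ⟶ L) (i : ℤ)
    (h₁ : IsIso (f.f (i - 1))) (h₂ : IsIso (f.f i)) (h₃ : IsIso (f.f (i + 1)))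
    (h : IsZero (K.homology i)) : IsZero (L.homology i) := by
  have : IsIso (homologyMap f i) := by
    rw [← quasiIsoAt_iff_isIso_homologyMap, quasiIsoAt_iff' f (i - 1) i (i + 1) (by simp) (by simp)]
    have : IsIso ((shortComplexFunctor' (ModuleCat.{u} R) (ComplexShape.up ℤ) (i - 1) i (i + 1)).map f).τ₁ :=
      h₁
    have : IsIso ((shortComplexFunctor' (ModuleCat.{u} R) (ComplexShape.up ℤ) (i - 1) i (i + 1)).map f).τ₂ :=
      h₂
    have : IsIso ((shortComplexFunctor' (ModuleCat.{u} R) (ComplexShape.up ℤ) (i - 1) i (i + 1)).map f).τ₃ :=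
      h₃
    exact ShortComplex.quasiIso_of_epi_of_isIso_of_mono _
  exact h.of_iso (asIso (homologyMap f i)).symm

/-- Finitely many cycles generate a finite cohomology module. -/
theorem exists_cycles_generators (C : CochainComplex (ModuleCat.{u} R) ℤ) (m : ℤ)
    (h : Module.Finite R (C.homology m)) :
    ∃ (k : ℕ) (Z : ModuleCat.of R (Fin k → R) ⟶ C.X m), Z ≫ C.d m (m + 1) = 0 ∧
      ∀ z : C.X m, (C.d m (m + 1)).hom z = 0 →
        ∃ (c : Fin k → R) (y : C.X (m - 1)), z = Z.hom c + (C.d (m - 1) m).hom y := by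
  let S := C.sc' (m - 1) m (m + 1)
  have e : C.homology m ≅ S.moduleCatLeftHomologyData.H :=
    ShortComplex.homologyMapIso (C.isoSc' (m - 1) m (m + 1) (by simp) (by simp)) ≪≫
      S.moduleCatHomologyIso
  have hfin : Module.Finite R (LinearMap.ker S.g.hom ⧸ LinearMap.range S.moduleCatToCycles) :=
    Module.Finite.equiv e.toLinearEquiv
  obtain ⟨k, φ, hφ⟩ := Module.Finite.exists_fin' R
    (LinearMap.ker S.g.hom ⧸ LinearMap.range S.moduleCatToCycles)
  obtain ⟨ψ, hψ⟩ := Module.projective_lifting_property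
    (LinearMap.range S.moduleCatToCycles).mkQ φ (Submodule.mkQ_surjective _)
  refine ⟨k, ModuleCat.ofHom ((LinearMap.ker S.g.hom).subtype ∘ₗ ψ), ?_, fun z hz => ?_⟩
  · ext1
    exact LinearMap.ext fun c => LinearMap.mem_ker.1 (ψ c).2
  · obtain ⟨c, hc⟩ := hφ (Submodule.Quotient.mk ⟨z, hz⟩)
    have hc' : (Submodule.Quotient.mk (ψ c) :
        LinearMap.ker S.g.hom ⧸ LinearMap.range S.moduleCatToCycles) =
          Submodule.Quotient.mk ⟨z, hz⟩ := (LinearMap.congr_fun hψ c).trans hc
    obtain ⟨y, hy⟩ := (Submodule.Quotient.eq _).1 hc'.symm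
    refine ⟨c, y, ?_⟩
    have := congrArg Subtype.val hy
    change (C.d (m - 1) m).hom y = z - (show C.X m from (ψ c).1) at this
    change z = (show C.X m from (ψ c).1) + _
    rw [this, add_sub_cancel]

theorem isBddFree_single (n : ℤ) (k : ℕ) :
    IsBddFree ((single (ModuleCat.{u} R) (ComplexShape.up ℤ) n).obj (ModuleCat.of R (Fin k → R))) := by
  refine ⟨n, n, fun i hi => isZero_single_obj_X _ n _ i (by omega), fun i => ?_⟩
  by_cases h : i = n
  · subst h
    let e := (singleObjXSelf (ComplexShape.up ℤ) i (ModuleCat.of R (Fin k → R))).toLinearEquiv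
    exact ⟨Module.Finite.equiv e.symm, Module.Free.of_equiv e.symm⟩
  · have := isZero_single_obj_X (ComplexShape.up ℤ) n (ModuleCat.of R (Fin k → R)) i h
    exact ⟨finite_of_isZero this, free_of_isZero this⟩

/-- One step: kill the cohomology of the cone in degree `m` by attaching finitely many cells. -/
theorem attach {E P : CochainComplex (ModuleCat.{u} R) ℤ} (f : E ⟶ P) (hE : IsBddFree E) (m : ℤ)
    (hex : ∀ i, m < i → IsZero ((mappingCone f).homology i))
    (hfin : Module.Finite R ((mappingCone f).homology m)) :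
    ∃ (E' : CochainComplex (ModuleCat.{u} R) ℤ) (j : E ⟶ E') (f' : E' ⟶ P),
      j ≫ f' = f ∧ IsBddFree E' ∧ (∀ i, m < i → IsIso (j.f i)) ∧
        ∀ i, m ≤ i → IsZero ((mappingCone f').homology i) := by
  obtain ⟨k, Z, hZd, hZ⟩ := exists_cycles_generators (mappingCone f) m hfin
  let Fm := ModuleCat.of R (Fin k → R)
  let F := (single (ModuleCat.{u} R) (ComplexShape.up ℤ) (m + 1)).obj Fm
  let g₀ : Fm ⟶ E.X (m + 1) := Z ≫ (CochainComplex.mappingCone.fst f).1.v m (m + 1) rfl
  let q : Fm ⟶ P.X m := Z ≫ (CochainComplex.mappingCone.snd f).v m m (add_zero m)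
  have hg₀ : g₀ ≫ E.d (m + 1) (m + 1 + 1) = 0 := by
    have := congrArg (· ≫ (CochainComplex.mappingCone.fst f).1.v (m + 1) (m + 1 + 1) rfl) hZd
    simp only [Category.assoc, zero_comp,
      CochainComplex.mappingCone.d_fst_v f m (m + 1) (m + 1 + 1) rfl rfl, Preadditive.comp_neg,
      neg_eq_zero] at this
    simpa [g₀] using this
  have hq : q ≫ P.d m (m + 1) = -(g₀ ≫ f.f (m + 1)) := by
    have := congrArg (· ≫ (CochainComplex.mappingCone.snd f).v (m + 1) (m + 1) (add_zero _)) hZd
    simp only [Category.assoc, zero_comp, CochainComplex.mappingCone.d_snd_v f m (m + 1) rfl,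
      Preadditive.comp_add] at this
    simp only [g₀, q, Category.assoc]
    exact eq_neg_of_add_eq_zero_right this
  let g : F ⟶ E := mkHomFromSingle g₀ fun l hl => by
    obtain rfl : m + 1 + 1 = l := hl
    exact hg₀
  let α : Cochain F P (-1) :=
    Cochain.single ((singleObjXSelf (ComplexShape.up ℤ) (m + 1) Fm).hom ≫ (-q)) (-1)
  have hα : δ (-1) 0 α = Cochain.ofHom (g ≫ f) := by
    ext p : 1
    rw [δ_v (-1) 0 (by omega) α p p (add_zero p) (p - 1) (p + 1) rfl rfl, Cochain.ofHom_v,
      single_obj_d, zero_comp, smul_zero, add_zero, comp_f]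
    by_cases hp : p = m + 1
    · obtain rfl : m + 1 = p := hp.symm
      have gen : ∀ (m' : ℤ) (_ : m' = m) (h : m + 1 + (-1) = m'),
          α.v (m + 1) m' h ≫ P.d m' (m + 1) = g.f (m + 1) ≫ f.f (m + 1) := by
        rintro m' rfl h
        rw [Cochain.single_v, mkHomFromSingle_f, Category.assoc, Category.assoc,
          Preadditive.neg_comp, hq, neg_neg]
      exact gen _ (by omega) _
    · exact (isZero_single_obj_X (ComplexShape.up ℤ) (m + 1) Fm p hp).eq_of_src _ _
  let E' := mappingCone g
  let j : E ⟶ E' := CochainComplex.mappingCone.inr g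
  let f' : E' ⟶ P := CochainComplex.mappingCone.desc g α f hα
  have hj : ∀ i, m < i → IsIso (j.f i) := by
    intro i hi
    refine ⟨(CochainComplex.mappingCone.snd g).v i i (add_zero i),
      CochainComplex.mappingCone.inr_f_snd_v g i, ?_⟩
    refine (CochainComplex.mappingCone.ext_from_iff g (i + 1) i rfl _ _).mpr ⟨?_, ?_⟩
    · exact (isZero_single_obj_X (ComplexShape.up ℤ) (m + 1) Fm (i + 1) (by omega)).eq_of_src _ _
    · simp [j]
      exact (Category.comp_id _).symm
  have hjf : j ≫ f' = f := CochainComplex.mappingCone.inr_desc g α f hα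
  refine ⟨E', j, f', hjf, (isBddFree_single (m + 1) k).cone hE g, hj, ?_⟩
  let J : mappingCone f ⟶ mappingCone f' :=
    CochainComplex.mappingCone.map f f' j (𝟙 P) (by rw [Category.comp_id, hjf])
  have hJ : ∀ i, m ≤ i → IsIso (J.f i) := fun i hi => by
    have := hj (i + 1) (by omega)
    exact isIso_coneMap_f _ _ _ _ _ i
  intro i hi
  rcases hi.eq_or_lt with rfl | hi'
  swap
  · exact isZero_homology_of_isIso_f J i (hJ _ (by omega)) (hJ _ hi) (hJ _ (by omega)) (hex i hi')
  · rw [KFlatLib.isZero_homology_iff_exists _ (m - 1) m (m + 1) (by omega) rfl]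
    intro z' hz'
    have := hJ m le_rfl
    have := hJ (m + 1) (by omega)
    let z := (inv (J.f m)).hom z'
    have hz : (J.f m).hom z = z' := congr($(IsIso.inv_hom_id (J.f m)).hom z')
    have hdz : ((mappingCone f).d m (m + 1)).hom z = 0 := by
      refine ((ModuleCat.mono_iff_injective (J.f (m + 1))).1 inferInstance) ?_
      rw [map_zero]
      refine (congr($(J.comm m (m + 1)).hom z)).symm.trans ?_
      change ((mappingCone f').d m (m + 1)).hom ((J.f m).hom z) = 0
      rw [hz]
      exact hz'
    obtain ⟨c, y, hy⟩ := hZ z hdz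
    let x : Fm ⟶ (mappingCone f').X (m - 1) :=
      (singleObjXSelf (ComplexShape.up ℤ) (m + 1) Fm).inv ≫
        (CochainComplex.mappingCone.inl g).v (m + 1) m (by omega) ≫
          (CochainComplex.mappingCone.inl f').v m (m - 1) (by omega)
    have hx : x ≫ (mappingCone f').d (m - 1) m = -(Z ≫ J.f m) := by
      have hZ' : Z = g₀ ≫ (CochainComplex.mappingCone.inl f).v (m + 1) m (by omega) +
          q ≫ (CochainComplex.mappingCone.inr f).f m := by
        simp only [g₀, q, Category.assoc]
        rw [← Preadditive.comp_add, CochainComplex.mappingCone.id_X, Category.comp_id]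
      rw [hZ']
      simp only [x, J, CochainComplex.mappingCone.map, Category.assoc,
        CochainComplex.mappingCone.inl_v_d f' m (m - 1) (m + 1) (by omega) (by omega),
        Preadditive.comp_sub, Preadditive.add_comp, CochainComplex.mappingCone.inl_v_desc_f,
        CochainComplex.mappingCone.inr_f_desc_f, Cochain.zero_cochain_comp_v, Cochain.ofHom_v,
        comp_f, id_f, Category.id_comp]
      rw [← Category.assoc ((CochainComplex.mappingCone.inl g).v (m + 1) m _) (f'.f m),
        show (CochainComplex.mappingCone.inl g).v (m + 1) m (by omega) ≫ f'.f m =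
          α.v (m + 1) m (by omega) from
          CochainComplex.mappingCone.inl_v_desc_f g α f hα (m + 1) m (by omega),
        Cochain.single_v, ← Category.assoc ((CochainComplex.mappingCone.inl g).v (m + 1) m _) (E'.d m (m + 1)),
        CochainComplex.mappingCone.inl_v_d g (m + 1) m (m + 1 + 1) (by omega) (by omega),
        single_obj_d, zero_comp, sub_zero, mkHomFromSingle_f]
      simp [j]
      abel
    refine ⟨((J.f (m - 1)).hom y - x.hom c), ?_⟩
    rw [map_sub, ← hz, hy, map_add]
    have e1 : ((mappingCone f').d (m - 1) m).hom ((J.f (m - 1)).hom y) =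
        (J.f m).hom (((mappingCone f).d (m - 1) m).hom y) := congr($(J.comm (m - 1) m).hom y)
    have e2 : ((mappingCone f').d (m - 1) m).hom (x.hom c) = -((J.f m).hom (Z.hom c)) :=
      congr($(hx).hom c)
    rw [e1, e2]
    abel

section Resolution

variable (P : CochainComplex (ModuleCat.{u} R) ℤ) (b : ℤ)

/-- A stage of the resolution: exact cone in degrees `> n`, no terms above `b`. -/
structure Stage (n : ℤ) where
  /-- the complex -/
  E : CochainComplex (ModuleCat.{u} R) ℤ
  /-- the map -/
  f : E ⟶ P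
  bdd : IsBddFree E
  above : ∀ i, b < i → IsZero (E.X i)
  exact_cone : ∀ i, n < i → IsZero ((mappingCone f).homology i)

variable (hfin : ∀ (E : CochainComplex (ModuleCat.{u} R) ℤ) (f : E ⟶ P) (m : ℤ), IsBddFree E →
  (∀ i, m < i → IsZero ((mappingCone f).homology i)) →
    Module.Finite R ((mappingCone f).homology m))

include hfin in
theorem exists_next (n : ℕ) (S : Stage P b (b - n)) :
    ∃ (S' : Stage P b (b - (n + 1 : ℕ))) (j : S.E ⟶ S'.E),
      j ≫ S'.f = S.f ∧ ∀ i, b - n < i → IsIso (j.f i) := by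
  obtain ⟨E', j, f', hjf, hE', hj, hex⟩ :=
    attach S.f S.bdd (b - n) S.exact_cone (hfin S.E S.f (b - n) S.bdd S.exact_cone)
  refine ⟨⟨E', f', hE', fun i hi => ?_, fun i hi => hex i (by push_cast at hi; omega)⟩, j, hjf, hj⟩
  have := hj i (by omega)
  exact (S.above i hi).of_iso (asIso (j.f i)).symm

variable (hb : ∀ i, b < i → IsZero (P.homology i))

include hb in
theorem exists_stage_zero : Nonempty (Stage P b (b - (0 : ℕ))) := by
  let Z : CochainComplex (ModuleCat.{u} R) ℤ :=
    (single (ModuleCat.{u} R) (ComplexShape.up ℤ) b).obj (ModuleCat.of R (Fin 0 → R))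
  have hZ : ∀ i, IsZero (Z.X i) := fun i => by
    by_cases h : i = b
    · subst h
      exact (ModuleCat.isZero_of_subsingleton (ModuleCat.of R (Fin 0 → R))).of_iso
        (singleObjXSelf (ComplexShape.up ℤ) i _)
    · exact isZero_single_obj_X _ _ _ _ h
  refine ⟨⟨Z, 0, isBddFree_single b 0, fun i _ => hZ i, fun i hi => isZero_homology_of_Hn ?_⟩⟩
  have hT := DerivedCategory.mappingCone_triangle_distinguished (0 : Z ⟶ P)
  refine (Approx.iff_cone (b + 1) _ hT).1 ?_ i (by push_cast at hi; omega)
  refine ⟨fun l hl => ?_, ?_⟩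
  · exact isIso_of_source_target_iso_zero _ (isZero_Hn_Q _ l (hZ l)).isoZero
      (isZero_Hn_of_homology (hb l (by omega))).isoZero
  · exact ⟨fun _ _ _ => (isZero_Hn_of_homology (hb (b + 1) (by omega))).eq_of_src _ _⟩

include hfin hb in
/-- A complex with bounded above cohomology which satisfies the finiteness condition is
quasi-isomorphic to a bounded above complex of finite free modules, and is approximated by bounded
complexes of finite free modules. -/
theorem exists_resolution :
    (∀ m, ∃ (E : CochainComplex (ModuleCat.{u} R) ℤ) (f : E ⟶ P), IsBddFree E ∧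
        Approx m (DerivedCategory.Q.map f)) ∧
      ∃ (E : CochainComplex (ModuleCat.{u} R) ℤ) (f : E ⟶ P), DRing.VanishesAbove E b ∧
        DRing.TermwiseFiniteFree E ∧ QuasiIso f := by
  classical
  choose nx nj hnj hni using fun (n : ℕ) (S : Stage P b (b - n)) => exists_next P b hfin n S
  obtain ⟨S₀⟩ := exists_stage_zero P b hb
  let S : ∀ n : ℕ, Stage P b (b - n) := fun n => Nat.rec S₀ (fun n S => nx n S) n
  refine ⟨fun m => ⟨(S (b + 1 - m).toNat).E, (S (b + 1 - m).toNat).f, (S _).bdd, ?_⟩, ?_⟩
  · refine (Approx.iff_cone m _ (DerivedCategory.mappingCone_triangle_distinguished _)).2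
      fun i hi => isZero_Hn_of_homology ((S _).exact_cone i ?_)
    have := Int.self_le_toNat (b + 1 - m)
    omega
  let F : ℕ ⥤ CochainComplex (ModuleCat.{u} R) ℤ :=
    Functor.ofSequence (X := fun n => (S n).E) fun n => nj n (S n)
  let c : Cocone F :=
    { pt := P
      ι := NatTrans.ofSequence (fun n => (S n).f) fun n => by
        refine Eq.trans ?_ (Category.comp_id _).symm
        refine Eq.trans (congrArg (· ≫ (S (n + 1)).f)
          (Functor.ofSequence_map_homOfLE_succ _ n)) ?_
        exact hnj n (S n) }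
  let f : colimit F ⟶ P := colimit.desc F c
  have hconst : ∀ (i : ℤ) (k : ℕ), b + 1 - i ≤ k →
      (F ⋙ eval (ModuleCat.{u} R) (ComplexShape.up ℤ) i).IsEventuallyConstantFrom k := by
    intro i k hk l g
    obtain ⟨d, rfl⟩ := Nat.exists_eq_add_of_le (leOfHom g)
    obtain rfl : g = homOfLE (Nat.le_add_right k d) := Subsingleton.elim _ _
    induction d with
    | zero => exact inferInstanceAs (IsIso (((F ⋙ eval _ _ i)).map (𝟙 k)))
    | succ d ih =>
      have h1 := ih
      have h2 : IsIso ((F ⋙ eval (ModuleCat.{u} R) (ComplexShape.up ℤ) i).map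
          (homOfLE (Nat.le_add_right (k + d) 1))) := by
        change IsIso ((F.map (homOfLE (Nat.le_add_right (k + d) 1))).f i)
        rw [show F.map (homOfLE (Nat.le_add_right (k + d) 1)) = nj (k + d) (S (k + d)) from
          Functor.ofSequence_map_homOfLE_succ _ (k + d)]
        exact hni (k + d) (S (k + d)) i (by push_cast; omega)
      have e : (homOfLE (Nat.le_add_right k (d + 1)) : k ⟶ k + (d + 1)) =
          homOfLE (Nat.le_add_right k d) ≫ homOfLE (Nat.le_add_right (k + d) 1) := rfl
      rw [e, Functor.map_comp]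
      infer_instance
  have hι : ∀ (i : ℤ) (k : ℕ), b + 1 - i ≤ k → IsIso ((colimit.ι F k).f i) := fun i k hk =>
    (hconst i k hk).isIso_ι_of_isColimit
      (isColimitOfPreserves (eval (ModuleCat.{u} R) (ComplexShape.up ℤ) i) (colimit.isColimit F))
  let ι : ∀ k : ℕ, (S k).E ⟶ colimit F := fun k => colimit.ι F k
  refine ⟨colimit F, f, fun i hi => ?_, fun i => ?_, ?_⟩
  · have : IsIso ((ι 0).f i) := hι i 0 (by push_cast; omega)
    exact ((S 0).above i hi).of_iso (asIso ((ι 0).f i)).symm
  · have : IsIso ((ι (b + 1 - i).toNat).f i) :=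
      hι i (b + 1 - i).toNat (Int.self_le_toNat _)
    obtain ⟨a', b', hab, hf⟩ := (S (b + 1 - i).toNat).bdd
    let e : (S (b + 1 - i).toNat).E.X i ≅ (colimit F).X i :=
      asIso ((ι (b + 1 - i).toNat).f i)
    have := (hf i).1
    have := (hf i).2
    exact ⟨Module.Finite.equiv e.toLinearEquiv, Module.Free.of_equiv e.toLinearEquiv⟩
  · refine (KFlatLib.acyclic_cone_iff f).1 fun i => ?_
    have hk := Int.self_le_toNat (b + 2 - i)
    let k := (b + 2 - i).toNat
    let J : mappingCone (S k).f ⟶ mappingCone f :=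
      CochainComplex.mappingCone.map (S k).f f (ι k) (𝟙 P)
        (by rw [Category.comp_id]; exact (colimit.ι_desc c k).symm)
    have hJ : ∀ l, i - 1 ≤ l → IsIso (J.f l) := fun l hl => by
      have : IsIso ((ι k).f (l + 1)) := hι (l + 1) k (by omega)
      exact isIso_coneMap_f _ _ _ _ _ l
    exact isZero_homology_of_isIso_f J i (hJ _ (by omega)) (hJ _ (by omega)) (hJ _ (by omega))
      ((S k).exact_cone i (by omega))

end Resolution

/-- Pseudo-coherent for every `m` implies pseudo-coherent, and conversely for projective terms. -/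
theorem finite_cone_of_forall {P : CochainComplex (ModuleCat.{u} R) ℤ}
    (hP : ∀ m, DRing.IsPseudoCoherent R m (DerivedCategory.Q.obj P))
    (E : CochainComplex (ModuleCat.{u} R) ℤ) (f : E ⟶ P) (m : ℤ) (hE : IsBddFree E)
    (h : ∀ i, m < i → IsZero ((mappingCone f).homology i)) :
    Module.Finite R ((mappingCone f).homology m) := by
  have hE' : DRing.IsPseudoCoherent R (m + 1) (DerivedCategory.Q.obj E) :=
    isPseudoCoherent_iff.2 ⟨E, 𝟙 _, hE, Approx.of_isIso _ _⟩
  have hC := isPseudoCoherent_obj₃ _ (DerivedCategory.mappingCone_triangle_distinguished f) m hE'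
    (hP m)
  have : Module.Finite R ((DerivedCategory.Q ⋙
      DerivedCategory.homologyFunctor (ModuleCat.{u} R) m).obj (mappingCone f)) :=
    finite_of_isPseudoCoherent hC fun i hi => isZero_Hn_of_homology (h i hi)
  exact Module.Finite.equiv
    ((DerivedCategory.homologyFunctorFactors (ModuleCat.{u} R) m).app (mappingCone f)).toLinearEquiv

theorem finite_cone_of_projective {P : CochainComplex (ModuleCat.{u} R) ℤ} (b : ℤ)
    (hb : ∀ i, b < i → IsZero (P.X i))
    (hP : ∀ i, Module.Finite R (P.X i) ∧ Module.Projective R (P.X i))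
    (E : CochainComplex (ModuleCat.{u} R) ℤ) (f : E ⟶ P) (m : ℤ) (hE : IsBddFree E)
    (h : ∀ i, m < i → IsZero ((mappingCone f).homology i)) :
    Module.Finite R ((mappingCone f).homology m) := by
  obtain ⟨a', b', hab, hf⟩ := hE
  have hX : ∀ i, (mappingCone f).X i ≅ (E.X (i + 1) ⊞ P.X i : ModuleCat.{u} R) := fun i =>
    HomologicalComplex.homotopyCofiber.XIsoBiprod f i (i + 1) rfl
  refine homology_finite_of_cycles _ m (finite_projective_cycles _ (max b b') (fun i hi => ?_)
    (fun i => ?_) m h).1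
  · exact IsZero.of_iso (biprod_isZero_iff _ _ |>.mpr ⟨hab _ (by omega), hb _ (by omega)⟩) (hX i)
  · let e : (mappingCone f).X i ≅ ModuleCat.of R (E.X (i + 1) × P.X i) :=
      hX i ≪≫ ModuleCat.biprodIsoProd _ _
    have := (hf (i + 1)).1
    have := (hf (i + 1)).2
    have := (hP i).1
    have := (hP i).2
    exact ⟨Module.Finite.equiv e.toLinearEquiv.symm,
      Module.Projective.of_equiv e.toLinearEquiv.symm⟩

theorem forall_isPseudoCoherent_of_projective {K : Dual.D R}
    (P : CochainComplex (ModuleCat.{u} R) ℤ) (b : ℤ) (hb : ∀ i, b < i → IsZero (P.X i))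
    (hP : ∀ i, Module.Finite R (P.X i) ∧ Module.Projective R (P.X i))
    (e : DerivedCategory.Q.obj P ≅ K) (m : ℤ) : DRing.IsPseudoCoherent R m K := by
  obtain ⟨E, f, hE, hf⟩ := (exists_resolution P b (finite_cone_of_projective b hb hP)
    fun i hi => (exactAt_iff_isZero_homology _ i).mp
      (ShortComplex.exact_of_isZero_X₂ _ (hb i hi))).1 m
  exact isPseudoCoherent_iff.2
    ⟨E, DerivedCategory.Q.map f ≫ e.hom, hE, hf.comp (Approx.of_isIso _ _)⟩

theorem isPseudoCoherent'_of_forall {K : Dual.D R}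
    (hK : ∀ m, DRing.IsPseudoCoherent R m K) : DRing.IsPseudoCoherent' R K := by
  obtain ⟨E₀, α, hE₀, hα⟩ := isPseudoCoherent_iff.1 (hK 0)
  obtain ⟨b₀, hb₀⟩ := hE₀.bddAbove
  let P := DerivedCategory.Q.objPreimage K
  let e : DerivedCategory.Q.obj P ≅ K := DerivedCategory.Q.objObjPreimageIso K
  have hP : ∀ i, max b₀ 0 < i → IsZero (P.homology i) := fun i hi => by
    have := hα.1 i (lt_of_le_of_lt (le_max_right _ _) hi)
    refine isZero_homology_of_Hn (IsZero.of_iso ?_ ((Hn R i).mapIso e))
    exact (isZero_Hn_Q E₀ i (hb₀ i (lt_of_le_of_lt (le_max_left _ _) hi))).of_iso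
      (asIso ((Hn R i).map α)).symm
  obtain ⟨E, f, hEb, hEf, hf⟩ := (exists_resolution P (max b₀ 0) (finite_cone_of_forall fun m =>
    isPseudoCoherent_of_iso e.symm (hK m)) hP).2
  exact ⟨E, max b₀ 0, hEb, hEf, ⟨asIso (DerivedCategory.Q.map f) ≪≫ e⟩⟩

end Groth.Agent.DRingLib
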