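import Groth.Agent.DRingLib.Resol
import Groth.Agent.KFlatLib.ResolProps

/-!
# Properties of the functorial free resolution over a ring
-/

set_option autoImplicit false

universe u

open CategoryTheory CategoryTheory.Limits HomologicalComplex
open CochainComplex (mappingCone)
open KFlatLib (DegSplit isKFlat_mappingCone isKFlat_of_d_eq_zero)

namespace Groth.Agent.DRingLib

variable {R : Type u} [CommRing R]

/-- K-flat with flat terms. -/
abbrev Good (K : CochainComplex (ModuleCat.{u} R) ℤ) : Prop :=
  DRing.IsKFlat R K ∧ ∀ n, Module.Flat R (K.X n)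

theorem good_zeroCx {A : ℤ → ModuleCat.{u} R} (h : ∀ n, Module.Flat R (A n)) : Good (zeroCx A) :=
  ⟨isKFlat_of_d_eq_zero _ (fun _ _ => rfl) h, h⟩

theorem flat_cone {P Q : CochainComplex (ModuleCat.{u} R) ℤ} (hP : ∀ n, Module.Flat R (P.X n))
    (hQ : ∀ n, Module.Flat R (Q.X n)) (φ : P ⟶ Q) (n : ℤ) :
    Module.Flat R ((mappingCone φ).X n) := by
  let S := CochainComplex.mappingCone.triangleRotateShortComplex φ
  have hsplit : DegSplit S := CochainComplex.mappingCone.triangleRotateShortComplexSplitting φ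
  have : Module.Flat R (S.map (eval (ModuleCat.{u} R) (ComplexShape.up ℤ) n)).X₁ := hQ n
  have : Module.Flat R (S.map (eval (ModuleCat.{u} R) (ComplexShape.up ℤ) n)).X₃ := hP (n + 1)
  exact KFlatLib.flat_of_splitting (hsplit n)

theorem good_cone {P Q : CochainComplex (ModuleCat.{u} R) ℤ} (hP : Good P) (hQ : Good Q)
    (φ : P ⟶ Q) : Good (mappingCone φ) :=
  ⟨isKFlat_mappingCone hP.1 hQ.1 φ, flat_cone hP.2 hQ.2 φ⟩

theorem good_stg (G : CochainComplex (ModuleCat.{u} R) ℤ) : ∀ k, Good ((stg k).P.obj G) := by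
  intro k
  induction k with
  | zero => exact good_cone (good_zeroCx fun _ => cover_flat _) (good_zeroCx fun _ => cover_flat _) _
  | succ k ih => exact good_cone (good_zeroCx fun _ => cover_flat _) ih _

/-- The tower evaluated at `G`. -/
noncomputable abbrev towerAt (G : CochainComplex (ModuleCat.{u} R) ℤ) :
    ℕ ⥤ CochainComplex (ModuleCat.{u} R) ℤ :=
  tower ⋙ (evaluation _ _).obj G

/-- The colimit cocone of the tower at `G`. -/
noncomputable abbrev resCocone (G : CochainComplex (ModuleCat.{u} R) ℤ) : Cocone (towerAt G) :=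
  ((evaluation _ _).obj G).mapCocone (colimit.cocone (tower (R := R)))

/-- The cocone is a colimit in each degree. -/
noncomputable def isColimitRes (G : CochainComplex (ModuleCat.{u} R) ℤ) (q : ℤ) :
    IsColimit ((eval _ (ComplexShape.up ℤ) q).mapCocone (resCocone G)) :=
  isColimitOfPreserves (eval (ModuleCat.{u} R) (ComplexShape.up ℤ) q)
    (isColimitOfPreserves ((evaluation _ _).obj G) (colimit.isColimit (tower (R := R))))

theorem good_resP (G : CochainComplex (ModuleCat.{u} R) ℤ) : Good ((resP R).obj G) :=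
  ⟨KFlatLib.isKFlat_colim (towerAt G) (resCocone G) (isColimitRes G) fun k => (good_stg G k).1,
    fun n => KFlatLib.flat_colim (towerAt G) (resCocone G) (isColimitRes G) n
      fun k => (good_stg G k).2 n⟩

theorem ι_resψ (G : CochainComplex (ModuleCat.{u} R) ℤ) (k : ℕ) :
    (colimit.ι (tower (R := R)) k).app G ≫ (resψ R).app G = (stg k).π.app G :=
  congr($(colimit.ι_desc (towerCocone (R := R)) k).app G)

theorem epi_resψ (G : CochainComplex (ModuleCat.{u} R) ℤ) (n : ℤ) : Epi (((resψ R).app G).f n) := by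
  have h := congr($(ι_resψ G 0).f n)
  have h' : (CochainComplex.mappingCone.inl (𝟙 (baseObj G))).v (n + 1) n (by omega) ≫
      (baseπ G).f n = (baseα G).v (n + 1) n (by omega) := by
    rw [baseπ, CochainComplex.mappingCone.inl_v_desc_f]
  have : Epi ((baseα G).v (n + 1) n (by omega)) := by
    rw [baseα, CochainComplex.HomComplex.Cochain.mk_v]
    exact @epi_comp _ _ _ _ _ _ (epi_coverπ _) _ inferInstance
  have h0 : Epi (((stg (R := R) 0).π.app G).f n) :=
    epi_of_epi_fac (f := (CochainComplex.mappingCone.inl (𝟙 (baseObj G))).v (n + 1) n (by omega))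
      h'
  exact @epi_of_epi_fac _ _ _ _ _ _ _ _ h0 h

theorem tower_succ (G : CochainComplex (ModuleCat.{u} R) ℤ) (k : ℕ) :
    (CochainComplex.mappingCone.inr (stepφ (stg k) G)) ≫ (colimit.ι (tower (R := R)) (k + 1)).app G =
      (colimit.ι (tower (R := R)) k).app G := by
  have h : (tower (R := R)).map (homOfLE (Nat.le_add_right k 1)) = nextι (stg k) :=
    Functor.ofSequence_map_homOfLE_succ _ k
  have := congr($(colimit.w (tower (R := R)) (homOfLE (Nat.le_add_right k 1))).app G)
  rw [h] at this
  exact this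

theorem quasiIso_resψ (G : CochainComplex (ModuleCat.{u} R) ℤ) : QuasiIso ((resψ R).app G) := by
  have : ∀ n, Epi (((resψ R).app G).f n) := epi_resψ G
  refine KFlatLib.quasiIso_of_surjective _ fun n z hz hz' => ?_
  let S' := towerAt G
  let c := resCocone G
  have : PreservesFilteredColimitsOfSize.{0, 0}
      (CategoryTheory.forget (ModuleCat.{u} R)) :=
    preservesFilteredColimitsOfSize_shrink.{0, u, 0, u} _
  obtain ⟨j, w, rfl⟩ := Concrete.isColimit_exists_rep _ (isColimitRes G n) z
  change ↥((S'.obj j).X n) at w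
  have hdw : ((c.ι.app j).f (n + 1)).hom (((S'.obj j).d n (n + 1)).hom w) = 0 :=
    (congr($((c.ι.app j).comm n (n + 1)).hom w)).symm.trans hz
  obtain ⟨k, f, g, hk⟩ := (Concrete.isColimit_rep_eq_iff_exists _ (isColimitRes G (n + 1))
    (i := j) (j := j) (((S'.obj j).d n (n + 1)).hom w) 0).mp (hdw.trans (map_zero _).symm)
  let v : (S'.obj k).X n := ((S'.map f).f n).hom w
  have hv : ((c.ι.app k).f n).hom v = ((c.ι.app j).f n).hom w :=
    congr($(congr_arg (fun t => Hom.f t n) (c.w f)).hom w)
  have hdv : ((S'.obj k).d n (n + 1)).hom v = 0 :=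
    (congr($((S'.map f).comm n (n + 1)).hom w)).trans (hk.trans (map_zero _))
  let P := (stg k).P.obj G
  let π : P ⟶ G := (stg k).π.app G
  change ↥(P.X n) at v
  have hπv : (π.f n).hom v = 0 := by
    refine Eq.trans ?_ hz'
    refine Eq.trans ?_ (congrArg _ hv)
    exact congr($(congr_arg (fun t => Hom.f t n) (ι_resψ G k)).hom v).symm
  -- lift to the kernel, then to a generator
  let lf := biprod.lift (P.d n (n + 1)) (π.f n)
  let K₀ := ShortComplex.mk (kernel.ι lf) lf (kernel.condition lf)
  have hK₀ : K₀.Exact := ShortComplex.exact_of_f_is_kernel K₀ (kernelIsKernel lf)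
  have hlf : lf.hom v = 0 := by
    have e : lf = P.d n (n + 1) ≫ biprod.inl + π.f n ≫ biprod.inr := biprod.lift_eq
    rw [e]
    change (biprod.inl (X := P.X (n + 1)) (Y := G.X n)).hom ((P.d n (n + 1)).hom v) +
      (biprod.inr (X := P.X (n + 1)) (Y := G.X n)).hom ((π.f n).hom v) = 0
    have hdv' : (P.d n (n + 1)).hom v = 0 := hdv
    rw [hdv', hπv, map_zero, map_zero, add_zero]
  obtain ⟨a, ha⟩ := (ShortComplex.ShortExact.moduleCat_exact_iff_function_exact _).mp hK₀ v |>.mp hlf
  obtain ⟨b, hb⟩ := (ModuleCat.epi_iff_surjective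
    ((coverπ (R := R)).app (zq (stg k) G n))).mp inferInstance a
  let φ := stepφ (stg k) G
  have hφb : (φ.f n).hom b = v := (congrArg _ hb).trans ha
  let il := (CochainComplex.mappingCone.inl φ).v n (n - 1) (by omega)
  let j' := ((colimit.ι (tower (R := R)) (k + 1)).app G)
  have hild : il ≫ (mappingCone φ).d (n - 1) n = φ.f n ≫ (CochainComplex.mappingCone.inr φ).f n := by
    rw [CochainComplex.mappingCone.inl_v_d φ n (n - 1) (n + 1) (by omega) (by omega)]
    have : (stepObj (stg k) G).d n (n + 1) = 0 := rfl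
    rw [this, zero_comp, sub_zero]
  have hilπ : il ≫ (stepπ (stg k) G).f (n - 1) = 0 := by
    rw [stepπ, CochainComplex.mappingCone.inl_v_desc_f, CochainComplex.HomComplex.Cochain.zero_v]
  refine ⟨(il ≫ j'.f (n - 1)).hom b, ?_, ?_⟩
  · refine Eq.trans ?_ hv
    have e : (il ≫ j'.f (n - 1)) ≫ ((resP R).obj G).d (n - 1) n =
        φ.f n ≫ ((colimit.ι (tower (R := R)) k).app G).f n := by
      refine (Category.assoc _ _ _).trans ((congrArg (il ≫ ·) (j'.comm (n - 1) n)).trans ?_)
      refine (Category.assoc _ _ _).symm.trans ((congrArg (· ≫ j'.f n) hild).trans ?_)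
      refine (Category.assoc _ _ _).trans (congrArg (φ.f n ≫ ·) ?_)
      exact congr($(tower_succ G k).f n)
    exact (congr($(e).hom b)).trans (congrArg _ hφb)
  · have e : (il ≫ j'.f (n - 1)) ≫ ((resψ R).app G).f (n - 1) = 0 := by
      refine (Category.assoc _ _ _).trans ?_
      exact (congrArg (il ≫ ·) (congr($(ι_resψ G (k + 1)).f (n - 1)))).trans hilπ
    exact congr($(e).hom b)

end Groth.Agent.DRingLib
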