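import Groth.Agent.DerLib.KInjEnough
import Groth.Agent.DerLib.KInjUse
import Groth.Agent.LocCohLib.LocalCohomology
import Groth.Prelude.Def_DualLC
import Groth.Prelude.Def_DRing3
import Mathlib.Algebra.Homology.HomotopyCategory.HomComplexSingle

/-!
# `H^q(RΓ_I K)` as a colimit of morphisms out of `A/I^n`
-/

set_option autoImplicit false
set_option linter.style.haveILetI false
set_option backward.isDefEq.respectTransparency false

universe u

open CategoryTheory CategoryTheory.Limits HomologicalComplex Opposite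
open CochainComplex.HomComplex

attribute [local instance] HasDerivedCategory.standard

noncomputable section

namespace Groth.Agent.DRingLib.GammaColim

variable {A : Type u} [CommRing A] (I : Ideal A) (E : CochainComplex (ModuleCat.{u} A) ℤ)

/-- The torsion subcomplex. -/
abbrev gCx : CochainComplex (ModuleCat.{u} A) ℤ :=
  ((DRing.gammaI I).mapHomologicalComplex (ComplexShape.up ℤ)).obj E

/-- Degree-zero cocycles killed by `I ^ n`. -/
def Z (n : ℕ) : Submodule A (E.X 0) where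
  carrier := {z | (E.d 0 1).hom z = 0 ∧ ∀ a ∈ I ^ n, a • z = 0}
  zero_mem' := ⟨map_zero _, fun a _ => smul_zero a⟩
  add_mem' := fun h h' => ⟨by rw [map_add, h.1, h'.1, add_zero],
    fun a ha => by rw [smul_add, h.2 a ha, h'.2 a ha, add_zero]⟩
  smul_mem' := fun r _ h => ⟨by rw [map_smul, h.1, smul_zero],
    fun a ha => by rw [smul_comm, h.2 a ha, smul_zero]⟩

variable {I E}

/-- The map `A/I^n → E^0` given by a killed element. -/
def gHom (n : ℕ) (z : Z I E n) : ModuleCat.of A (A ⧸ I ^ n) ⟶ E.X 0 :=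
  ModuleCat.ofHom (Submodule.liftQ _ (LinearMap.toSpanSingleton A (E.X 0) z.1)
    fun a ha => z.2.2 a ha)

theorem gHom_d (n : ℕ) (z : Z I E n) (k : ℤ) (hk : (ComplexShape.up ℤ).Rel 0 k) :
    gHom n z ≫ E.d 0 k = 0 := by
  obtain rfl : (0 : ℤ) + 1 = k := hk
  refine ModuleCat.hom_ext (Submodule.linearMap_qext _ (LinearMap.ext_ring ?_))
  change (E.d 0 1).hom ((1 : A) • z.1) = 0
  rw [one_smul, z.2.1]

/-- The chain map given by a killed cocycle. -/
def fMap (n : ℕ) (z : Z I E n) :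
    (single (ModuleCat.{u} A) (ComplexShape.up ℤ) 0).obj (ModuleCat.of A (A ⧸ I ^ n)) ⟶ E :=
  mkHomFromSingle (gHom n z) (gHom_d n z)

theorem fMap_f (n : ℕ) (z : Z I E n) :
    (fMap n z).f 0 = (singleObjXSelf (ComplexShape.up ℤ) 0 _).hom ≫ gHom n z :=
  mkHomFromSingle_f _ _

theorem gHom_add (n : ℕ) (z z' : Z I E n) : gHom n (z + z') = gHom n z + gHom n z' :=
  ModuleCat.hom_ext (Submodule.linearMap_qext _ (LinearMap.ext_ring
    (show (1 : A) • (z.1 + z'.1) = (1 : A) • z.1 + (1 : A) • z'.1 from smul_add _ _ _)))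

theorem gHom_smul (n : ℕ) (r : A) (z : Z I E n) : gHom n (r • z) = r • gHom n z :=
  ModuleCat.hom_ext (Submodule.linearMap_qext _ (LinearMap.ext_ring
    (show (1 : A) • (r • z.1) = r • ((1 : A) • z.1) from smul_comm _ _ _)))

theorem fMap_surjective (n : ℕ)
    (f : (single (ModuleCat.{u} A) (ComplexShape.up ℤ) 0).obj (ModuleCat.of A (A ⧸ I ^ n)) ⟶ E) :
    ∃ z, fMap n z = f := by
  let g := (singleObjXSelf (ComplexShape.up ℤ) 0 _).inv ≫ f.f 0
  have hg : g ≫ E.d 0 1 = 0 := by simp [g]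
  refine ⟨⟨g.hom (Submodule.Quotient.mk 1), ?_, fun a ha => ?_⟩, from_single_hom_ext ?_⟩
  · exact congrArg (fun φ => φ.hom (Submodule.Quotient.mk 1)) hg
  · rw [← map_smul, ← Submodule.Quotient.mk_smul, smul_eq_mul, mul_one,
      (Submodule.Quotient.mk_eq_zero _).2 ha, map_zero]
  · rw [fMap_f, ← Iso.eq_inv_comp]
    refine ModuleCat.hom_ext (Submodule.linearMap_qext _ (LinearMap.ext_ring ?_))
    exact one_smul A _

variable {X : Dual.D A} (b : DerivedCategory.Q.obj E ≅ X)

/-- The morphism in `D(A)` given by a killed cocycle. -/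
def psi (n : ℕ) : Z I E n →ₗ[A]
    ((DerivedCategory.singleFunctor (ModuleCat.{u} A) 0).obj (ModuleCat.of A (A ⧸ I ^ n)) ⟶ X) where
  toFun z := ((DerivedCategory.singleFunctorIsoCompQ (ModuleCat.{u} A) 0).app _).hom ≫
    DerivedCategory.Q.map (fMap n z) ≫ b.hom
  map_add' z z' := by
    have h : fMap n (z + z') = fMap n z + fMap n z' := from_single_hom_ext (by
      rw [add_f_apply, fMap_f, fMap_f, fMap_f, gHom_add, Preadditive.comp_add])
    rw [h, Functor.map_add, Preadditive.add_comp, Preadditive.comp_add]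
  map_smul' r z := by
    have h : fMap n (r • z) = r • fMap n z := from_single_hom_ext (by
      rw [fMap_f, gHom_smul, Linear.comp_smul]
      exact congrArg (r • ·) (fMap_f n z).symm)
    rw [h, Functor.map_smul, Linear.smul_comp, Linear.comp_smul]
    rfl

theorem psi_apply (n : ℕ) (z : Z I E n) : psi b n z =
    ((DerivedCategory.singleFunctorIsoCompQ (ModuleCat.{u} A) 0).app (ModuleCat.of A (A ⧸ I ^ n))).hom ≫
      DerivedCategory.Q.map (fMap n z) ≫ b.hom := rfl

theorem psi_surjective [E.IsKInjective] (n : ℕ) : Function.Surjective (psi (I := I) b n) := fun t => by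
  obtain ⟨f, hf⟩ := DerLib.KInjUse.Q_map_surjective _ E
    (((DerivedCategory.singleFunctorIsoCompQ (ModuleCat.{u} A) 0).app _).inv ≫ t ≫ b.inv)
  obtain ⟨z, rfl⟩ := fMap_surjective n f
  refine ⟨z, ?_⟩
  rw [psi_apply]
  rw [hf]
  simp

theorem psi_eq_zero [E.IsKInjective] (n : ℕ) (z : Z I E n) (h : psi b n z = 0) :
    ∃ w : E.X (-1), (∀ a ∈ I ^ n, a • w = 0) ∧ (E.d (-1) 0).hom w = z.1 := by
  have h0 : DerivedCategory.Q.map (fMap n z) = 0 := by
    have : ((DerivedCategory.singleFunctorIsoCompQ (ModuleCat.{u} A) 0).app _).hom ≫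
      DerivedCategory.Q.map (fMap n z) ≫ b.hom = 0 := h
    have h1 := congrArg (fun φ => ((DerivedCategory.singleFunctorIsoCompQ (ModuleCat.{u} A) 0).app
      (ModuleCat.of A (A ⧸ I ^ n))).inv ≫ φ ≫ b.inv) this
    simpa using h1
  obtain ⟨ho⟩ := (HomotopyCategory.quotient_map_eq_zero_iff _).1 (DerLib.KInjUse.quotient_eq_zero_of_Q h0)
  have hc : (fMap n z).f 0 = ho.hom 0 (-1) ≫ E.d (-1) 0 := by
    have := ho.comm 0
    rw [dNext_eq _ (show (ComplexShape.up ℤ).Rel 0 1 from rfl),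
      prevD_eq _ (show (ComplexShape.up ℤ).Rel (-1) 0 from rfl)] at this
    simpa using this
  rw [fMap_f, ← Iso.eq_inv_comp, ← Category.assoc] at hc
  let g := (singleObjXSelf (ComplexShape.up ℤ) 0 (ModuleCat.of A (A ⧸ I ^ n))).inv ≫ ho.hom 0 (-1)
  refine ⟨g.hom (Submodule.Quotient.mk 1), fun a ha => ?_, ?_⟩
  · rw [← map_smul, ← Submodule.Quotient.mk_smul, smul_eq_mul, mul_one,
      (Submodule.Quotient.mk_eq_zero _).2 ha, map_zero]
  · exact (congrArg (fun φ => φ.hom (Submodule.Quotient.mk 1)) hc).symm.trans (one_smul A z.1)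

theorem psi_of_boundary (n : ℕ) (z : Z I E n) (w : E.X (-1)) (hw : ∀ a ∈ I ^ n, a • w = 0)
    (hd : (E.d (-1) 0).hom w = z.1) : psi b n z = 0 := by
  let g : ModuleCat.of A (A ⧸ I ^ n) ⟶ E.X (-1) :=
    ModuleCat.ofHom (Submodule.liftQ _ (LinearMap.toSpanSingleton A (E.X (-1)) w) fun a ha => hw a ha)
  have hg : g ≫ E.d (-1) 0 = gHom n z :=
    ModuleCat.hom_ext (Submodule.linearMap_qext _ (LinearMap.ext_ring
      (show (E.d (-1) 0).hom ((1 : A) • w) = (1 : A) • z.1 by rw [one_smul, one_smul, hd])))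
  let β : Cochain ((CochainComplex.singleFunctor (ModuleCat.{u} A) 0).obj (ModuleCat.of A (A ⧸ I ^ n))) E (-1) :=
    Cochain.fromSingleMk g (zero_add _)
  have hβ : Cochain.ofHom (fMap n z) = δ (-1) 0 β + Cochain.ofHom 0 := by
    rw [Cochain.ofHom_zero, add_zero, Cochain.δ_fromSingleMk _ _ 0 0 (add_zero 0), hg]
    apply (Cochain.fromSingleEquiv (add_zero (0 : ℤ))).injective
    rw [Cochain.fromSingleEquiv_fromSingleMk]
    simp [Cochain.fromSingleEquiv, fMap_f]
  have := HomotopyCategory.eq_of_homotopy _ _ ((Cochain.equivHomotopy _ _).symm ⟨β, hβ⟩)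
  rw [Functor.map_zero] at this
  rw [psi_apply]
  rw [DerLib.KInjUse.Q_map_zero_of_quotient this, zero_comp, comp_zero]

variable (I E)

/-- The model for the cohomology of the torsion subcomplex. -/
abbrev H0 : ModuleCat.{u} A := ((gCx I E).sc' (-1) 0 1).moduleCatLeftHomologyData.H

/-- The class of a killed cocycle. -/
def chi (n : ℕ) : Z I E n →ₗ[A] H0 I E :=
  (LinearMap.range ((gCx I E).sc' (-1) 0 1).moduleCatToCycles).mkQ ∘ₗ
    LinearMap.codRestrict (LinearMap.ker ((gCx I E).sc' (-1) 0 1).g.hom)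
      (LinearMap.codRestrict (DRing.torsionSub I (E.X 0)) (Z I E n).subtype fun z => ⟨n, z.2.2⟩)
      fun z => Subtype.ext z.2.1

variable {I E}

theorem chi_eq_zero_iff (n : ℕ) (z : Z I E n) :
    chi I E n z = 0 ↔ ∃ (w : E.X (-1)) (m : ℕ), (∀ a ∈ I ^ m, a • w = 0) ∧ (E.d (-1) 0).hom w = z.1 := by
  refine (Submodule.Quotient.mk_eq_zero _).trans ⟨?_, ?_⟩
  · rintro ⟨⟨w, m, hm⟩, hw⟩
    exact ⟨w, m, hm, congrArg (fun x => x.1.1) hw⟩
  · rintro ⟨w, m, hm, hw⟩
    exact ⟨⟨w, m, hm⟩, Subtype.ext (Subtype.ext hw)⟩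

theorem chi_surjective (h : H0 I E) : ∃ n z, chi I E n z = h := by
  obtain ⟨⟨⟨x, n, hn⟩, hx⟩, rfl⟩ := Submodule.Quotient.mk_surjective _ h
  exact ⟨n, ⟨x, congrArg Subtype.val hx, hn⟩, rfl⟩

/-- The inclusion of killed cocycles. -/
def zIncl {n m : ℕ} (h : n ≤ m) : Z I E n →ₗ[A] Z I E m :=
  Submodule.inclusion fun _ hz => ⟨hz.1, fun a ha => hz.2 a (Ideal.pow_le_pow_right h ha)⟩

variable (I)

/-- The system of morphism modules. -/
abbrev sys (X : Dual.D A) : (ℕᵒᵖ)ᵒᵖ ⥤ ModuleCat.{u + 1} A :=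
  (localCohomology.ringModIdeals (localCohomology.idealPowersDiagram I) ⋙
    DerivedCategory.singleFunctor (ModuleCat.{u} A) 0).op ⋙ (linearYoneda A (Dual.D A)).obj X

theorem psi_natural {i j : (ℕᵒᵖ)ᵒᵖ} (φ : i ⟶ j) (h : i.unop.unop ≤ j.unop.unop) (z : Z I E i.unop.unop) :
    (sys I X).map φ (psi b i.unop.unop z) = psi b j.unop.unop (zIncl h z) := by
  change (DerivedCategory.singleFunctor (ModuleCat.{u} A) 0).map
    ((localCohomology.ringModIdeals (localCohomology.idealPowersDiagram I)).map φ.unop) ≫ _ = _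
  rw [psi_apply, psi_apply]
  erw [reassoc_of% ((DerivedCategory.singleFunctorIsoCompQ (ModuleCat.{u} A) 0).hom.naturality
    ((localCohomology.ringModIdeals (localCohomology.idealPowersDiagram I)).map φ.unop))]
  congr 1
  erw [← Functor.map_comp_assoc]
  congr 2
  refine from_single_hom_ext ?_
  rw [fMap_f, comp_f, fMap_f]
  erw [single_map_f_self, Category.assoc, Category.assoc, Iso.inv_hom_id_assoc]
  exact congrArg (_ ≫ ·) (ModuleCat.hom_ext (Submodule.linearMap_qext _ (LinearMap.ext_ring rfl)))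

theorem exists_equiv [E.IsKInjective] (b : DerivedCategory.Q.obj E ≅ X) :
    Nonempty (H0 I E ≃ₗ[A] (colimit (sys I X) : ModuleCat.{u + 1} A)) := by
  have hker : ∀ n, LinearMap.ker (psi (I := I) b n) ≤ LinearMap.ker (chi I E n) := fun n z hz => by
    obtain ⟨w, hw, hd⟩ := psi_eq_zero b n z hz
    exact (chi_eq_zero_iff n z).2 ⟨w, n, hw, hd⟩
  let phi : ∀ n : ℕ, ((DerivedCategory.singleFunctor (ModuleCat.{u} A) 0).obj
      (ModuleCat.of A (A ⧸ I ^ n)) ⟶ X) →ₗ[A] ULift.{u + 1} (H0 I E) := fun n =>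
    ULift.moduleEquiv.symm.toLinearMap ∘ₗ (Submodule.liftQ _ (chi I E n) (hker n)) ∘ₗ
      ((psi (I := I) b n).quotKerEquivOfSurjective (psi_surjective b n)).symm.toLinearMap
  have hphi : ∀ n z, phi n (psi b n z) = ULift.up (chi I E n z) := fun n z => by
    simp only [phi, LinearMap.comp_apply, LinearEquiv.coe_coe]
    rw [show ((psi (I := I) b n).quotKerEquivOfSurjective (psi_surjective b n)).symm (psi b n z) =
      Submodule.Quotient.mk z from (LinearEquiv.symm_apply_eq _).2 rfl]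
    rfl
  let c : Cocone (sys I X) := Cocone.mk (ModuleCat.of A (ULift.{u + 1} (H0 I E)))
    { app := fun i => ModuleCat.ofHom (phi i.unop.unop)
      naturality := fun i j φ => ModuleCat.hom_ext (LinearMap.ext fun t => by
        obtain ⟨z, rfl⟩ := psi_surjective b i.unop.unop t
        have h : i.unop.unop ≤ j.unop.unop := φ.unop.unop.down.down
        change phi j.unop.unop ((sys I X).map φ (psi b i.unop.unop z)) = phi i.unop.unop (psi b i.unop.unop z)
        rw [psi_natural I b φ h z, hphi, hphi]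
        rfl) }
  haveI := preservesFilteredColimitsOfSize_shrink.{0, u + 1, 0, u + 1} (forget AddCommGrpCat.{u + 1})
  haveI : PreservesColimitsOfShape (ℕᵒᵖ)ᵒᵖ (forget (ModuleCat.{u + 1} A)) :=
    comp_preservesColimitsOfShape (forget₂ (ModuleCat.{u + 1} A) AddCommGrpCat.{u + 1}) (forget AddCommGrpCat.{u + 1})
  let d := colimit.desc (sys I X) c
  have hd : ∀ i z, d (colimit.ι (sys I X) i (psi b i.unop.unop z)) = ULift.up (chi I E i.unop.unop z) :=
    fun i z => (congrArg (fun f : (sys I X).obj i ⟶ c.pt => f (psi b i.unop.unop z))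
      (colimit.ι_desc c i)).trans (hphi _ z)
  refine ⟨ULift.moduleEquiv.symm.trans (LinearEquiv.ofBijective d.hom ⟨?_, ?_⟩).symm⟩
  · rw [← LinearMap.ker_eq_bot, Submodule.eq_bot_iff]
    intro x hx
    obtain ⟨i, t, rfl⟩ := Concrete.colimit_exists_rep (sys I X) x
    obtain ⟨z, rfl⟩ := psi_surjective b i.unop.unop t
    obtain ⟨w, m, hm, hw⟩ := (chi_eq_zero_iff _ z).1 (congrArg ULift.down ((hd i z).symm.trans hx))
    let j : (ℕᵒᵖ)ᵒᵖ := op (op (max i.unop.unop m))
    let φ : i ⟶ j := (opOpEquivalence ℕ).inverse.map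
      (homOfLE (le_max_left i.unop.unop m) : i.unop.unop ⟶ max i.unop.unop m)
    have h0 : (sys I X).map φ (psi b i.unop.unop z) = 0 := by
      rw [psi_natural I b φ (le_max_left _ _) z]
      exact psi_of_boundary b _ _ w (fun a ha => hm a (Ideal.pow_le_pow_right (le_max_right _ _) ha)) hw
    exact ((congrArg (fun f : (sys I X).obj i ⟶ colimit (sys I X) => f (psi b i.unop.unop z))
      (colimit.w (sys I X) φ)).symm.trans (congrArg (colimit.ι (sys I X) j) h0)).trans (map_zero _)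
  · rintro ⟨h⟩
    obtain ⟨n, z, rfl⟩ := chi_surjective h
    exact ⟨colimit.ι (sys I X) (op (op n)) (psi b n z), hd (op (op n)) z⟩

end Groth.Agent.DRingLib.GammaColim
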