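import Groth.Agent.DRingLib.PCohMore
import Mathlib.RingTheory.Finiteness.Finsupp

/-!
# Coherent rings: finitely presented modules
-/

set_option autoImplicit false

universe u

open CategoryTheory CategoryTheory.Limits HomologicalComplex

attribute [local instance] HasDerivedCategory.standard

namespace Groth.Agent.DRingLib

/-- Every finitely generated ideal is finitely presented. -/
def IsCoherentR (R : Type u) [CommRing R] : Prop :=
  ∀ I : Ideal R, I.FG → Module.FinitePresentation R I

variable {R : Type u} [CommRing R]

theorem finitePresentation_submodule_pi (hR : IsCoherentR R) :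
    ∀ (n : ℕ) (N : Submodule R (Fin n → R)), N.FG → Module.FinitePresentation R N := by
  intro n
  induction n with
  | zero =>
    intro N hN
    have : Subsingleton N := inferInstance
    exact Module.finitePresentation_of_projective R N
  | succ n ih =>
    intro N hN
    let p : (Fin (n + 1) → R) →ₗ[R] R := LinearMap.proj 0
    have := hR (N.map p) (hN.map p)
    let q : N →ₗ[R] (N.map p : Submodule R R) :=
      p.restrict fun x hx => Submodule.mem_map_of_mem hx
    have hq : Function.Surjective q := by
      rintro ⟨y, x, hx, rfl⟩
      exact ⟨⟨x, hx⟩, rfl⟩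
    have := Module.Finite.iff_fg.2 hN
    have hk : (LinearMap.ker q).FG := Module.FinitePresentation.fg_ker q hq
    let t : LinearMap.ker q →ₗ[R] (Fin n → R) :=
      (LinearMap.funLeft R R Fin.succ).comp (N.subtype.comp (LinearMap.ker q).subtype)
    have ht : Function.Injective t := by
      intro x y h
      apply Subtype.ext
      apply Subtype.ext
      funext i
      refine Fin.cases ?_ (fun j => congrFun h j) i
      have h1 : p (x.1 : Fin (n + 1) → R) = 0 := congrArg Subtype.val x.2
      have h2 : p (y.1 : Fin (n + 1) → R) = 0 := congrArg Subtype.val y.2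
      exact h1.trans h2.symm
    have : Module.Finite R (LinearMap.ker q) := Module.Finite.iff_fg.2 hk
    have := ih (LinearMap.range t) (LinearMap.range_eq_map t ▸ Submodule.FG.map t Module.Finite.fg_top)
    let : AddCommGroup (LinearMap.ker q) := Submodule.addCommGroup _
    let e : (LinearMap.range t : Submodule R (Fin n → R)) ≃ₗ[R] LinearMap.ker q :=
      (LinearEquiv.ofInjective t ht).symm
    have : Module.FinitePresentation R (LinearMap.ker q) := Module.FinitePresentation.of_equiv e
    exact Module.finitePresentation_of_ker q hq

/-- Finitely generated submodules of finitely presented modules are finitely presented. -/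
theorem finitePresentation_submodule (hR : IsCoherentR R) {M : Type u} [AddCommGroup M] [Module R M]
    [Module.FinitePresentation R M] (N : Submodule R M) (hN : N.FG) :
    Module.FinitePresentation R N := by
  obtain ⟨n, π, hπ⟩ := Module.Finite.exists_fin' R M
  have hk : (LinearMap.ker π).FG := Module.FinitePresentation.fg_ker π hπ
  have hC : (N.comap π).FG := by
    refine Submodule.fg_of_fg_map_of_fg_inf_ker π ?_ ?_
    · rwa [Submodule.map_comap_eq_of_surjective hπ]
    · rwa [inf_eq_right.2 (LinearMap.ker_le_comap π)]
  have := finitePresentation_submodule_pi hR n (N.comap π) hC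
  let g : (N.comap π : Submodule R (Fin n → R)) →ₗ[R] N := π.restrict fun x hx => hx
  refine Module.finitePresentation_of_surjective g (fun y => ?_) ?_
  · obtain ⟨x, hx⟩ := hπ y
    exact ⟨⟨x, by rw [Submodule.mem_comap, hx]; exact y.2⟩, Subtype.ext hx⟩
  · rw [LinearMap.ker_restrict]
    exact Submodule.fg_of_fg_map_injective (N.comap π).subtype Subtype.val_injective
      (by rwa [Submodule.map_comap_subtype, inf_eq_right.2 (LinearMap.ker_le_comap π)])

/-- Kernels of maps between finitely presented modules are finitely presented. -/
theorem finitePresentation_ker (hR : IsCoherentR R) {M N : Type u} [AddCommGroup M] [Module R M]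
    [AddCommGroup N] [Module R N] [Module.FinitePresentation R M] [Module.FinitePresentation R N]
    (f : M →ₗ[R] N) : Module.FinitePresentation R (LinearMap.ker f) := by
  have := finitePresentation_submodule hR (LinearMap.range f)
    (LinearMap.range_eq_map f ▸ Submodule.FG.map f Module.Finite.fg_top)
  refine finitePresentation_submodule hR _ ?_
  rw [← LinearMap.ker_rangeRestrict]
  exact Module.FinitePresentation.fg_ker f.rangeRestrict f.surjective_rangeRestrict

/-- Cohomology of a complex of finitely presented modules. -/
theorem finitePresentation_homology (hR : IsCoherentR R) (P : CochainComplex (ModuleCat.{u} R) ℤ)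
    (hP : ∀ i, Module.FinitePresentation R (P.X i)) (m : ℤ) :
    Module.FinitePresentation R (P.homology m) := by
  let S := P.sc' (m - 1) m (m + 1)
  have e : P.homology m ≅ S.moduleCatLeftHomologyData.H :=
    ShortComplex.homologyMapIso (P.isoSc' (m - 1) m (m + 1) (by simp) (by simp)) ≪≫
      S.moduleCatHomologyIso
  have : Module.FinitePresentation R S.X₁ := hP (m - 1)
  have : Module.FinitePresentation R S.X₂ := hP m
  have : Module.FinitePresentation R S.X₃ := hP (m + 1)
  have := finitePresentation_ker hR S.g.hom
  have : Module.FinitePresentation R
      (LinearMap.ker S.g.hom ⧸ LinearMap.range S.moduleCatToCycles) := by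
    refine Module.finitePresentation_of_surjective _ (Submodule.mkQ_surjective _) ?_
    rw [Submodule.ker_mkQ, LinearMap.range_eq_map]
    exact Submodule.FG.map _ Module.Finite.fg_top
  have : Module.FinitePresentation R S.moduleCatLeftHomologyData.H := this
  exact Module.FinitePresentation.of_equiv e.toLinearEquiv.symm

theorem IsBddFree.finitePresentation_X {E : CochainComplex (ModuleCat.{u} R) ℤ} (hE : IsBddFree E)
    (i : ℤ) : Module.FinitePresentation R (E.X i) := by
  obtain ⟨a, b, -, hf⟩ := hE
  have := (hf i).1
  have := (hf i).2
  exact Module.finitePresentation_of_projective R _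

/-- Pseudo-coherence over a coherent ring. -/
theorem isPseudoCoherent_iff_of_coherent (hR : IsCoherentR R) {K : Dual.D R} {m b : ℤ}
    (hz : ∀ i, b < i → IsZero ((Hn R i).obj K)) :
    DRing.IsPseudoCoherent R m K ↔ Module.Finite R ((Hn R m).obj K) ∧
      ∀ i, m < i → Module.FinitePresentation R ((Hn R i).obj K) := by
  constructor
  · intro h
    obtain ⟨E, α, hE, hα⟩ := isPseudoCoherent_iff.1 h
    have hfp : ∀ i, Module.FinitePresentation R ((Hn R i).obj (DerivedCategory.Q.obj E)) := fun i =>
      have : Module.FinitePresentation R
          ((homologyFunctor (ModuleCat.{u} R) (ComplexShape.up ℤ) i).obj E) :=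
        finitePresentation_homology hR E hE.finitePresentation_X i
      Module.FinitePresentation.of_equiv
        ((DerivedCategory.homologyFunctorFactors (ModuleCat.{u} R) i).app E).toLinearEquiv.symm
    refine ⟨?_, fun i hi => ?_⟩
    · have := hfp m
      exact Module.Finite.of_surjective ((Hn R m).map α).hom ((ModuleCat.epi_iff_surjective _).1 hα.2)
    · have := hfp i
      have := hα.1 i hi
      exact Module.FinitePresentation.of_equiv (asIso ((Hn R i).map α)).toLinearEquiv
  · rintro ⟨hm, hfp⟩
    suffices ∀ k : ℕ, DRing.IsPseudoCoherent R (max (b + 1 - k) m) K by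
      have := this (b + 1 - m).toNat
      rwa [max_eq_right (by have := Int.self_le_toNat (b + 1 - m); omega)] at this
    intro k
    induction k with
    | zero => exact isPseudoCoherent_of_isZero fun i hi => hz i (by omega)
    | succ k ih =>
      rcases le_or_gt (b + 1 - k) m with hk | hk
      · rwa [max_eq_right (by push_cast; omega), ← max_eq_right hk]
      obtain ⟨n, hn, hn'⟩ : ∃ n, max (b + 1 - k) m = n + 1 ∧ max (b + 1 - (k + 1 : ℕ)) m = n :=
        ⟨_, by push_cast; omega, rfl⟩
      rw [hn] at ih
      rw [hn']
      refine isPseudoCoherent_step ih ?_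
      intro E T hE hT h₁ h₂ hα
      subst h₂
      have := hfp (n + 1) (by omega)
      refine finite_Hn_obj₃ T hT n ?_ ?_
      · rcases eq_or_ne n m with rfl | h
        · exact hm
        · have := hfp n (by omega)
          infer_instance
      · have : Module.Finite R ((Hn R (n + 1)).obj T.obj₁) := by
          rw [h₁]
          have := finitePresentation_homology hR E hE.finitePresentation_X (n + 1)
          exact finite_Hn_Q inferInstance
        exact Module.FinitePresentation.fg_ker _ ((ModuleCat.epi_iff_surjective _).1 hα.2)

end Groth.Agent.DRingLib
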