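import Groth.Agent.KFlatLib.AlgColim

/-!
# Filtered colimits of K-flat complexes over a ring
-/

set_option autoImplicit false

universe u

open CategoryTheory CategoryTheory.Limits MonoidalCategory HomologicalComplex
open KFlatLib (tT ιT proj tMap exists_sum_proj ιT_tMap tMap_proj isZero_homology_iff_exists)

namespace Groth.Agent.DRingLib

variable {R : Type u} [CommRing R] {J : Type u} [SmallCategory J] [IsFiltered J]
  (S : J ⥤ CochainComplex (ModuleCat.{u} R) ℤ) (c : Cocone S)
  (hc : ∀ q, IsColimit ((eval _ (ComplexShape.up ℤ) q).mapCocone c))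

omit [IsFiltered J] in
theorem tMap_comp_app (L : CochainComplex (ModuleCat.{u} R) ℤ) {j k : J} (f : j ⟶ k) (n : ℤ) :
    (tMap (𝟙 L) (S.map f)).f n ≫ (tMap (𝟙 L) (c.ι.app k)).f n = (tMap (𝟙 L) (c.ι.app j)).f n := by
  refine mapBifunctor.hom_ext fun p q h => ?_
  refine ((Category.assoc _ _ _).symm.trans
    (congrArg (· ≫ _) (ιT_tMap (𝟙 L) (S.map f) p q n h))).trans ?_
  refine ((Category.assoc _ _ _).trans
    (congrArg (_ ≫ ·) (ιT_tMap (𝟙 L) (c.ι.app k) p q n h))).trans ?_
  rw [← Category.assoc, tensorHom_comp_tensorHom, ← comp_f, ← comp_f, Category.id_comp, c.w]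
  exact (ιT_tMap (𝟙 L) (c.ι.app j) p q n h).symm

include hc

/-- A filtered colimit of K-flat complexes is K-flat. -/
theorem isKFlat_filteredColim (hS : ∀ j, DRing.IsKFlat R (S.obj j)) : DRing.IsKFlat R c.pt := by
  classical
  have hT : ∀ (q : ℤ) (P : ModuleCat.{u} R),
      IsColimit ((tensorLeft P).mapCocone ((eval _ (ComplexShape.up ℤ) q).mapCocone c)) :=
    fun q P => isColimitOfPreserves _ (hc q)
  intro L hL n
  change IsZero ((tT L c.pt).homology n)
  rw [isZero_homology_iff_exists _ (n - 1) n (n + 1) (by omega) rfl]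
  intro z hz
  have hrep : ∀ (m : ℤ) (w : (tT L c.pt).X m), ∃ (j : J) (v : (tT L (S.obj j)).X m),
      ((tMap (𝟙 L) (c.ι.app j)).f m).hom v = w := by
    intro m w
    obtain ⟨s, hs⟩ := exists_sum_proj L c.pt w
    rw [← hs s (subset_refl s)]
    clear hs
    induction s using Finset.induction with
    | empty =>
      exact ⟨IsFiltered.nonempty.some, 0, by rw [map_zero, Finset.sum_empty]⟩
    | insert q s hq ih =>
      obtain ⟨j₁, v₁, hv₁⟩ := ih
      obtain ⟨j₂, b, hb⟩ := Concrete.isColimit_exists_rep _ (hT q (L.X (m - q)))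
        ((proj (m - q) q m (sub_add_cancel m q)).hom w)
      change (L.X (m - q) ◁ (c.ι.app j₂).f q).hom b = _ at hb
      let v₂ : (tT L (S.obj j₂)).X m :=
        (ιT L (S.obj j₂) (m - q) q m (sub_add_cancel _ _)).hom b
      have hv₂ : ((tMap (𝟙 L) (c.ι.app j₂)).f m).hom v₂ =
          (ιT L c.pt (m - q) q m (sub_add_cancel m q)).hom
            ((proj (m - q) q m (sub_add_cancel m q)).hom w) := by
        refine (congr($(ιT_tMap (𝟙 L) (c.ι.app j₂) (m - q) q m (sub_add_cancel _ _)).hom b)).trans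
          (congrArg (ιT L c.pt (m - q) q m (sub_add_cancel _ _)).hom ?_)
        rw [id_f, id_tensorHom]
        exact hb
      refine ⟨IsFiltered.max j₁ j₂,
        ((tMap (𝟙 L) (S.map (IsFiltered.leftToMax j₁ j₂))).f m).hom v₁ +
          ((tMap (𝟙 L) (S.map (IsFiltered.rightToMax j₁ j₂))).f m).hom v₂, ?_⟩
      rw [map_add, Finset.sum_insert hq, add_comm, ← hv₁, ← hv₂]
      exact congrArg₂ (· + ·)
        congr($(tMap_comp_app S c L (IsFiltered.rightToMax j₁ j₂) m).hom v₂)
        congr($(tMap_comp_app S c L (IsFiltered.leftToMax j₁ j₂) m).hom v₁)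
  have hzero : ∀ (m : ℤ) (j : J) (v : (tT L (S.obj j)).X m),
      ((tMap (𝟙 L) (c.ι.app j)).f m).hom v = 0 →
        ∃ (k : J) (f : j ⟶ k), ((tMap (𝟙 L) (S.map f)).f m).hom v = 0 := by
    intro m j v hv
    obtain ⟨s, hs⟩ := exists_sum_proj L (S.obj j) v
    have hcomp : ∀ q, (L.X (m - q) ◁ (c.ι.app j).f q).hom
        ((proj (m - q) q m (sub_add_cancel m q)).hom v) = 0 := by
      intro q
      have e := congr($(tMap_proj (𝟙 L) (c.ι.app j) (m - q) q m (sub_add_cancel m q)).hom v)
      rw [id_f, id_tensorHom] at e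
      refine e.symm.trans ?_
      change (proj _ _ _ _).hom (((tMap (𝟙 L) (c.ι.app j)).f m).hom v) = 0
      rw [hv, map_zero]
    have hkill : ∃ (k : J) (f : j ⟶ k), ∀ q ∈ s, (L.X (m - q) ◁ (S.map f).f q).hom
        ((proj (m - q) q m (sub_add_cancel m q)).hom v) = 0 := by
      clear hs
      induction s using Finset.induction with
      | empty => exact ⟨j, 𝟙 j, fun q hq => absurd hq (Finset.notMem_empty q)⟩
      | insert q s hq ih =>
        obtain ⟨k₁, f₁, hf₁⟩ := ih
        obtain ⟨k₂, f₂, g₂, hk₂⟩ := (Concrete.isColimit_rep_eq_iff_exists _ (hT q (L.X (m - q)))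
          (i := j) (j := j) ((proj (m - q) q m (sub_add_cancel m q)).hom v) 0).mp
          ((hcomp q).trans (map_zero _).symm)
        have hk₂' : (L.X (m - q) ◁ (S.map f₂).f q).hom
            ((proj (m - q) q m (sub_add_cancel m q)).hom v) = 0 := hk₂.trans (map_zero _)
        let k := IsFiltered.coeq (f₁ ≫ IsFiltered.leftToMax k₁ k₂) (f₂ ≫ IsFiltered.rightToMax k₁ k₂)
        let h := IsFiltered.coeqHom (f₁ ≫ IsFiltered.leftToMax k₁ k₂)
          (f₂ ≫ IsFiltered.rightToMax k₁ k₂)
        have key : ∀ {k' : J} (f' : j ⟶ k') (g : k' ⟶ k) (q' : ℤ)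
            (_ : (L.X (m - q') ◁ (S.map f').f q').hom
              ((proj (m - q') q' m (sub_add_cancel m q')).hom v) = 0),
            (L.X (m - q') ◁ (S.map (f' ≫ g)).f q').hom
              ((proj (m - q') q' m (sub_add_cancel m q')).hom v) = 0 := by
          intro k' f' g q' h0
          have e : L.X (m - q') ◁ (S.map (f' ≫ g)).f q' =
              L.X (m - q') ◁ (S.map f').f q' ≫ L.X (m - q') ◁ (S.map g).f q' := by
            rw [← whiskerLeft_comp, ← comp_f, ← S.map_comp]
          exact (congr($(e).hom _)).trans ((congrArg _ h0).trans (map_zero _))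
        refine ⟨k, (f₁ ≫ IsFiltered.leftToMax k₁ k₂) ≫ h, fun q' hq' => ?_⟩
        rcases Finset.mem_insert.1 hq' with rfl | hq'
        · rw [IsFiltered.coeq_condition, Category.assoc]
          exact key f₂ _ q' hk₂'
        · rw [Category.assoc]
          exact key f₁ _ q' (hf₁ q' hq')
    obtain ⟨k, f, hk⟩ := hkill
    refine ⟨k, f, ?_⟩
    rw [← hs s (subset_refl s), map_sum]
    refine Finset.sum_eq_zero fun q hq => ?_
    refine (congr($(ιT_tMap (𝟙 L) (S.map f) (m - q) q m
      (sub_add_cancel m q)).hom ((proj (m - q) q m (sub_add_cancel m q)).hom v))).trans ?_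
    refine (congrArg (ιT L (S.obj k) (m - q) q m (sub_add_cancel m q)).hom ?_).trans (map_zero _)
    rw [id_f, id_tensorHom]
    exact hk q hq
  obtain ⟨j, v, rfl⟩ := hrep n z
  have hdv : ((tMap (𝟙 L) (c.ι.app j)).f (n + 1)).hom (((tT L (S.obj j)).d n (n + 1)).hom v) = 0 :=
    (congr($((tMap (𝟙 L) (c.ι.app j)).comm n (n + 1)).hom v)).symm.trans hz
  obtain ⟨k, f, hk⟩ := hzero (n + 1) j _ hdv
  obtain ⟨y, hy⟩ := (isZero_homology_iff_exists (tT L (S.obj k)) (n - 1) n (n + 1) (by omega) rfl).mp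
    (hS k L hL n) (((tMap (𝟙 L) (S.map f)).f n).hom v)
    ((congr($((tMap (𝟙 L) (S.map f)).comm n (n + 1)).hom v)).trans hk)
  refine ⟨((tMap (𝟙 L) (c.ι.app k)).f (n - 1)).hom y, ?_⟩
  refine (congr($((tMap (𝟙 L) (c.ι.app k)).comm (n - 1) n).hom y)).trans ?_
  change ((tMap (𝟙 L) (c.ι.app k)).f n).hom (((tT L (S.obj k)).d (n - 1) n).hom y) = _
  rw [hy]
  exact congr($(tMap_comp_app S c L f n).hom v)

end Groth.Agent.DRingLib
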