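import Groth.Agent.DRingLib.PCohMore

/-!
# Pseudo-coherence from terms and from cohomology modules
-/

set_option autoImplicit false

universe u

open CategoryTheory CategoryTheory.Limits HomologicalComplex
open CategoryTheory.Pretriangulated (Triangle)

attribute [local instance] HasDerivedCategory.standard

namespace Groth.Agent.DRingLib

variable {R : Type u} [CommRing R]

/-- A module placed in degree `n`. -/
theorem isPseudoCoherent_singleFunctor {m n : ℤ} (N : ModuleCat.{u} R)
    (h : DRing.IsPseudoCoherentModule R (m - n) N) :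
    DRing.IsPseudoCoherent R m ((DerivedCategory.singleFunctor (ModuleCat.{u} R) n).obj N) := by
  have h' := isPseudoCoherent_shift h (-n)
  rw [sub_neg_eq_add, sub_add_cancel] at h'
  exact isPseudoCoherent_of_iso
    (((DerivedCategory.singleFunctors (ModuleCat.{u} R)).shiftIso (-n) n 0 (neg_add_cancel n)).app N) h'

theorem isPseudoCoherentModule_of_equiv {m : ℤ} {M N : Type u} [AddCommGroup M] [Module R M]
    [AddCommGroup N] [Module R N] (e : M ≃ₗ[R] N) (h : DRing.IsPseudoCoherentModule R m M) :
    DRing.IsPseudoCoherentModule R m N :=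
  isPseudoCoherent_of_iso
    ((DerivedCategory.singleFunctor (ModuleCat.{u} R) 0).mapIso e.toModuleIso) h

/-- Pseudo-coherence from the terms of a bounded above complex. -/
theorem isPseudoCoherent_of_terms (m : ℤ) : ∀ (k : ℕ) (K : CochainComplex (ModuleCat.{u} R) ℤ),
    (∀ i, m - 1 + k < i → IsZero (K.X i)) →
      (∀ i, DRing.IsPseudoCoherentModule R (m - i) (K.X i)) →
        DRing.IsPseudoCoherent R m (DerivedCategory.Q.obj K) := by
  intro k
  induction k with
  | zero => exact fun K hK _ => isPseudoCoherent_of_isZero fun i hi => isZero_Hn_Q K i (hK i (by omega))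
  | succ k ih =>
    intro K hK hpc
    obtain ⟨b, hb⟩ : ∃ b, b = m + k := ⟨_, rfl⟩
    let A := (single (ModuleCat.{u} R) (ComplexShape.up ℤ) b).obj (K.X b)
    let ι : A ⟶ K := mkHomFromSingle (𝟙 (K.X b)) fun l hl => by
      obtain rfl : b + 1 = l := hl
      exact (hK (b + 1) (by push_cast; omega)).eq_of_tgt _ _
    have hι : IsIso (ι.f b) := by
      rw [show ι.f b = (singleObjXSelf (ComplexShape.up ℤ) b (K.X b)).hom ≫ 𝟙 _ from
        mkHomFromSingle_f _ _, Category.comp_id]
      infer_instance
    have hmono : Mono ι := by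
      refine mono_of_mono_f ι fun i => ?_
      by_cases h : i = b
      · subst h
        infer_instance
      · exact ⟨fun _ _ _ => (isZero_single_obj_X _ b _ i h).eq_of_tgt _ _⟩
    let S : ShortComplex (CochainComplex (ModuleCat.{u} R) ℤ) :=
      ShortComplex.mk ι (cokernel.π ι) (cokernel.condition ι)
    have hS : S.ShortExact :=
      { exact := ShortComplex.exact_of_g_is_cokernel _ (cokernelIsCokernel ι) }
    have hdeg := (shortExact_iff_degreewise_shortExact S).mp hS
    have hC : ∀ i, i = b → IsZero (S.X₃.X i) := by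
      rintro i rfl
      exact (hdeg i).isIso_f_iff.1 hι
    have hC' : ∀ i, i ≠ b → IsIso ((cokernel.π ι).f i) := fun i hi =>
      (hdeg i).isIso_g_iff.2 (isZero_single_obj_X (ComplexShape.up ℤ) b (K.X b) i hi)
    refine isPseudoCoherent_obj₂ _ (DerivedCategory.triangleOfSES_distinguished hS) m ?_ (ih _ ?_ ?_)
    · exact isPseudoCoherent_singleFunctor (K.X b) (hpc b)
    · intro i hi
      by_cases h : i = b
      · exact hC i h
      · have := hC' i h
        exact (hK i (by push_cast; omega)).of_iso (asIso ((cokernel.π ι).f i)).symm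
    · intro i
      by_cases h : i = b
      · have hz := hC i h
        refine isPseudoCoherent_of_isZero fun j _ => ?_
        rcases eq_or_ne j 0 with rfl | hj
        · have := ModuleCat.subsingleton_of_isZero hz
          have : Subsingleton ((Hn R 0).obj (Dual.inD R (S.X₃.X i))) :=
            (inDEquiv (R := R) (S.X₃.X i)).toEquiv.subsingleton
          exact ModuleCat.isZero_of_subsingleton _
        · exact isZero_Hn_inD _ hj
      · have := hC' i h
        exact isPseudoCoherentModule_of_equiv (asIso ((cokernel.π ι).f i)).toLinearEquiv (hpc i)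

/-- Pseudo-coherence from the cohomology modules. -/
theorem isPseudoCoherent_of_homology (m : ℤ) : ∀ (k : ℕ) (K : DerivedCategory (ModuleCat.{u} R)),
    (∀ i, m - 1 + k < i → IsZero ((Hn R i).obj K)) →
      (∀ i, DRing.IsPseudoCoherentModule R (m - i) ((Hn R i).obj K)) →
        DRing.IsPseudoCoherent R m K := by
  intro k
  induction k with
  | zero => exact fun K hK _ => isPseudoCoherent_of_isZero fun i hi => hK i (by omega)
  | succ k ih =>
    intro K hK hpc
    obtain ⟨b, hb⟩ : ∃ b, b = m + k := ⟨_, rfl⟩
    obtain ⟨X, Y, hX, hY, f, g, h, hT⟩ :=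
      DerivedCategory.TStructure.t.exists_triangle K (b - 1) b (by omega)
    have : X.IsLE (b - 1) := ⟨hX⟩
    have : Y.IsGE b := ⟨hY⟩
    let T : Triangle (DerivedCategory (ModuleCat.{u} R)) := Triangle.mk f g h
    have hX0 : ∀ i, b ≤ i → IsZero ((Hn R i).obj X) := fun i hi =>
      DerivedCategory.isZero_of_isLE X (b - 1) i (by omega)
    have hY0 : ∀ i, i < b → IsZero ((Hn R i).obj Y) := fun i hi =>
      DerivedCategory.isZero_of_isGE Y b i hi
    have hf : ∀ i, i < b → IsIso ((Hn R i).map f) := fun i hi => by
      have := (DerivedCategory.HomologySequence.mono_homologyMap_mor₁_iff T hT (i - 1) i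
        (by omega)).mpr ((hY0 (i - 1) (by omega)).eq_of_src _ _)
      have := (DerivedCategory.HomologySequence.epi_homologyMap_mor₁_iff T hT i).mpr
        ((hY0 i hi).eq_of_tgt _ _)
      exact isIso_of_mono_of_epi ((Hn R i).map T.mor₁)
    have hg : ∀ i, b ≤ i → IsIso ((Hn R i).map g) := fun i hi => by
      have := (DerivedCategory.HomologySequence.exact₂ T hT i).mono_g
        ((hX0 i hi).eq_of_src _ _)
      have := (DerivedCategory.HomologySequence.exact₃ T hT i (i + 1) rfl).epi_f
        ((hX0 (i + 1) (by omega)).eq_of_tgt _ _)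
      exact isIso_of_mono_of_epi ((Hn R i).map T.mor₂)
    have : Y.IsLE b := (DerivedCategory.isLE_iff Y b).mpr fun i hi => by
      have := hg i hi.le
      exact (hK i (by push_cast; omega)).of_iso (asIso ((Hn R i).map g)).symm
    obtain ⟨N, ⟨eN⟩⟩ := DerivedCategory.exists_iso_singleFunctor_obj_of_isGE_of_isLE Y b
    refine isPseudoCoherent_obj₂ T hT m (ih X ?_ ?_) ?_
    · intro i hi
      exact hX0 i (by omega)
    · intro i
      rcases lt_or_ge i b with hi | hi
      · have := hf i hi
        exact isPseudoCoherentModule_of_equiv (asIso ((Hn R i).map f)).toLinearEquiv.symm (hpc i)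
      · refine isPseudoCoherent_of_isZero fun j _ => ?_
        rcases eq_or_ne j 0 with rfl | hj
        · have := ModuleCat.subsingleton_of_isZero (hX0 i hi)
          have : Subsingleton ((Hn R 0).obj (Dual.inD R ((Hn R i).obj X))) :=
            (inDEquiv (R := R) ((Hn R i).obj X)).toEquiv.subsingleton
          exact ModuleCat.isZero_of_subsingleton _
        · exact isZero_Hn_inD _ hj
    · refine isPseudoCoherent_of_iso eN.symm (isPseudoCoherent_singleFunctor N ?_)
      have := hg b le_rfl
      let e : (Hn R b).obj K ≅ N := asIso ((Hn R b).map g) ≪≫ (Hn R b).mapIso eN ≪≫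
        (DerivedCategory.singleFunctorCompHomologyFunctorIso (ModuleCat.{u} R) b).app N
      exact isPseudoCoherentModule_of_equiv e.toLinearEquiv (hpc b)

end Groth.Agent.DRingLib
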