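import Groth.Agent.KFlatLib.AlgColim
import Groth.Agent.KFlatLib.Cone
import Mathlib.Algebra.Category.ModuleCat.Adjunctions
import Mathlib.Algebra.Category.ModuleCat.Colimits
import Mathlib.CategoryTheory.Functor.OfSequence
import Mathlib.Algebra.Homology.HomotopyCategory.DegreewiseSplit
import Mathlib.Algebra.Homology.HomotopyCategory.Pretriangulated
import Mathlib.CategoryTheory.Limits.FunctorCategory.Basic

/-!
# Functorial free resolutions of complexes of modules over a ring

The construction of `KFlatLib.Resol`, for modules over a ring: a tower of cones whose attached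
cells are complexes of free modules with zero differential.
-/

set_option autoImplicit false

universe u

open CategoryTheory CategoryTheory.Limits HomologicalComplex
open CochainComplex (mappingCone)
open CochainComplex.HomComplex

namespace Groth.Agent.DRingLib

variable {R : Type u} [CommRing R]

/-- The functorial cover by a free module. -/
noncomputable abbrev cover : ModuleCat.{u} R ⥤ ModuleCat.{u} R :=
  CategoryTheory.forget (ModuleCat.{u} R) ⋙ ModuleCat.free R

/-- The covering map. -/
noncomputable abbrev coverπ : cover (R := R) ⟶ 𝟭 _ :=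
  (ModuleCat.adj R).counit

instance epi_coverπ (M : ModuleCat.{u} R) : Epi ((coverπ (R := R)).app M) :=
  (ModuleCat.epi_iff_surjective _).mpr fun m =>
    ⟨((ModuleCat.adj R).unit.app ((CategoryTheory.forget (ModuleCat.{u} R)).obj M)) m,
      congr($((ModuleCat.adj R).right_triangle_components M) m)⟩

theorem cover_flat (M : ModuleCat.{u} R) : Module.Flat R ((cover (R := R)).obj M) :=
  inferInstanceAs (Module.Flat R ((M : Type u) →₀ R))

/-- A complex with zero differential. -/
noncomputable def zeroCx (A : ℤ → (ModuleCat.{u} R)) : CochainComplex (ModuleCat.{u} R) ℤ where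
  X := A
  d _ _ := 0

/-- A map of complexes with zero differentials. -/
noncomputable def zeroCxMap {A B : ℤ → (ModuleCat.{u} R)} (f : ∀ n, A n ⟶ B n) : zeroCx A ⟶ zeroCx B where
  f := f
  comm' _ _ _ := by
    change f _ ≫ (0 : B _ ⟶ B _) = (0 : A _ ⟶ A _) ≫ f _
    rw [comp_zero, zero_comp]

theorem cone_map_congr {K₁ L₁ K₂ L₂ : CochainComplex (ModuleCat.{u} R) ℤ} {φ₁ : K₁ ⟶ L₁} {φ₂ : K₂ ⟶ L₂}
    {a a' : K₁ ⟶ K₂} {b b' : L₁ ⟶ L₂} (ha : a = a') (hb : b = b') (h : φ₁ ≫ b = a ≫ φ₂)
    (h' : φ₁ ≫ b' = a' ≫ φ₂) :
    CochainComplex.mappingCone.map φ₁ φ₂ a b h = CochainComplex.mappingCone.map φ₁ φ₂ a' b' h' := by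
  subst ha hb
  rfl

/-- A stage of the resolution. -/
structure Stg (R : Type u) [CommRing R] where
  /-- the functor -/
  P : CochainComplex (ModuleCat.{u} R) ℤ ⥤ CochainComplex (ModuleCat.{u} R) ℤ
  /-- the map to the identity -/
  π : P ⟶ 𝟭 _

section Base

variable (G : CochainComplex (ModuleCat.{u} R) ℤ)

/-- The generators of the base stage. -/
noncomputable abbrev baseObj : CochainComplex (ModuleCat.{u} R) ℤ :=
  zeroCx fun p => cover.obj (G.X (p - 1))

/-- The generators hit their section. -/
noncomputable def baseα : Cochain (baseObj G) G (-1) :=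
  Cochain.mk fun p q h => (coverπ (R := R)).app (G.X (p - 1)) ≫
    (G.XIsoOfEq (show p - 1 = q by omega)).hom

/-- The differentials of the sections. -/
noncomputable def baseβ : baseObj G ⟶ G where
  f p := (coverπ (R := R)).app (G.X (p - 1)) ≫ G.d (p - 1) p
  comm' p q _ := by
    change (_ ≫ _) ≫ _ = (0 : (baseObj G).X p ⟶ (baseObj G).X q) ≫ _
    rw [zero_comp, Category.assoc, G.d_comp_d, comp_zero]

theorem baseα_δ : δ (-1) 0 (baseα G) = Cochain.ofHom (𝟙 (baseObj G) ≫ baseβ G) := by
  ext p : 1
  rw [δ_v (-1) 0 (by omega) (baseα G) p p (add_zero p) (p - 1) (p + 1) (by omega) rfl,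
    Category.id_comp, Cochain.ofHom_v]
  rw [show (baseObj G).d p (p + 1) = 0 from rfl, zero_comp, smul_zero, add_zero, baseα,
    Cochain.mk_v, XIsoOfEq_rfl, Iso.refl_hom]
  exact congrArg (· ≫ G.d (p - 1) p) (Category.comp_id _)

/-- The map of generators. -/
noncomputable def baseMap {G' : CochainComplex (ModuleCat.{u} R) ℤ} (f : G ⟶ G') :
    baseObj G ⟶ baseObj G' :=
  zeroCxMap fun p => cover.map (f.f (p - 1))

theorem baseMap_id : baseMap G (𝟙 G) = 𝟙 _ := by
  ext p : 1
  exact cover.map_id _

theorem baseMap_comp {G' G'' : CochainComplex (ModuleCat.{u} R) ℤ} (f : G ⟶ G') (g : G' ⟶ G'') :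
    baseMap G (f ≫ g) = baseMap G f ≫ baseMap G' g := by
  ext p : 1
  exact cover.map_comp _ _

/-- The base stage: contractible, and degreewise surjective. -/
noncomputable def baseπ : mappingCone (𝟙 (baseObj G)) ⟶ G :=
  CochainComplex.mappingCone.desc _ (baseα G) (baseβ G) (baseα_δ G)

end Base

/-- The first stage. -/
noncomputable def base : Stg R where
  P :=
  { obj G := mappingCone (𝟙 (baseObj G))
    map {G G'} f := CochainComplex.mappingCone.map _ _ (baseMap G f) (baseMap G f)
      (by rw [Category.id_comp, Category.comp_id])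
    map_id G := (cone_map_congr (baseMap_id G) (baseMap_id G) _
      (by rw [Category.id_comp])).trans (CochainComplex.mappingCone.map_id _)
    map_comp {G G' G''} f g := (cone_map_congr (baseMap_comp G f g) (baseMap_comp G f g) _
      (by rw [Category.id_comp, Category.comp_id])).trans
        (CochainComplex.mappingCone.map_comp _ _ _ _ _ _ _ _ _) }
  π :=
  { app G := baseπ G
    naturality {G G'} f := by
      ext n : 1
      refine (CochainComplex.mappingCone.ext_from_iff (𝟙 (baseObj G)) (n + 1) n rfl _ _).mpr ⟨?_, ?_⟩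
      · simp only [comp_f, CochainComplex.mappingCone.map, baseπ, Functor.id_map,
          CochainComplex.mappingCone.inl_v_desc_f_assoc, Cochain.comp_v _ _ _ (n + 1) (n + 1) n
            (show (n + 1) + (0 : ℤ) = n + 1 from add_zero _) (show (n + 1) + (-1 : ℤ) = n by omega), Cochain.ofHom_v, Category.assoc,
          CochainComplex.mappingCone.inl_v_desc_f]
        change cover.map (f.f (n + 1 - 1)) ≫ (coverπ (R := R)).app _ ≫ _ =
          ((coverπ (R := R)).app _ ≫ _) ≫ f.f n
        rw [← Category.assoc, (coverπ (R := R)).naturality, Category.assoc, Category.assoc]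
        congr 1
        obtain ⟨m, rfl⟩ : ∃ m, m = n + 1 - 1 := ⟨_, rfl⟩
        exact (HomologicalComplex.XIsoOfEq_hom_naturality f (show n + 1 - 1 = n by omega))
      · simp only [comp_f, CochainComplex.mappingCone.map, baseπ, Functor.id_map,
          CochainComplex.mappingCone.inr_f_desc_f_assoc, Category.assoc,
          CochainComplex.mappingCone.inr_f_desc_f]
        change cover.map (f.f (n - 1)) ≫ (coverπ (R := R)).app _ ≫ _ =
          ((coverπ (R := R)).app _ ≫ _) ≫ f.f n
        rw [← Category.assoc, (coverπ (R := R)).naturality, Category.assoc, Category.assoc,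
          Functor.id_map, f.comm] }

section Step

variable (s : Stg R) (G : CochainComplex (ModuleCat.{u} R) ℤ)

/-- Cycles of a stage killed by the map to `G`. -/
noncomputable abbrev zq (n : ℤ) : (ModuleCat.{u} R) :=
  kernel (biprod.lift ((s.P.obj G).d n (n + 1)) ((s.π.app G).f n))

/-- The generators of the next stage. -/
noncomputable abbrev stepObj : CochainComplex (ModuleCat.{u} R) ℤ :=
  zeroCx fun n => cover.obj (zq s G n)

theorem zq_ι_d (n m : ℤ) : kernel.ι (biprod.lift ((s.P.obj G).d n (n + 1)) ((s.π.app G).f n)) ≫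
    (s.P.obj G).d n m = 0 := by
  by_cases h : n + 1 = m
  · subst h
    have := congr_arg (· ≫ biprod.fst) (kernel.condition
      (biprod.lift ((s.P.obj G).d n (n + 1)) ((s.π.app G).f n)))
    simpa only [Category.assoc, biprod.lift_fst, zero_comp] using this
  · rw [(s.P.obj G).shape n m h, comp_zero]

theorem zq_ι_π (n : ℤ) : kernel.ι (biprod.lift ((s.P.obj G).d n (n + 1)) ((s.π.app G).f n)) ≫
    (s.π.app G).f n = 0 := by
  have := congr_arg (· ≫ biprod.snd) (kernel.condition
    (biprod.lift ((s.P.obj G).d n (n + 1)) ((s.π.app G).f n)))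
  simpa only [Category.assoc, biprod.lift_snd, zero_comp] using this

/-- The attaching map. -/
noncomputable def stepφ : stepObj s G ⟶ s.P.obj G where
  f n := (coverπ (R := R)).app (zq s G n) ≫ kernel.ι _
  comm' p q _ := by
    change (_ ≫ _) ≫ _ = (0 : (stepObj s G).X p ⟶ (stepObj s G).X q) ≫ _
    rw [zero_comp, Category.assoc, zq_ι_d, comp_zero]

theorem stepφ_π : stepφ s G ≫ s.π.app G = 0 := by
  ext n : 1
  change (_ ≫ _) ≫ _ = 0
  rw [Category.assoc, zq_ι_π, comp_zero]

/-- Functoriality of the generators. -/
noncomputable def stepMap {G' : CochainComplex (ModuleCat.{u} R) ℤ} (f : G ⟶ G') :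
    stepObj s G ⟶ stepObj s G' :=
  zeroCxMap fun n => cover.map (kernel.map _ _ ((s.P.map f).f n)
    (biprod.map ((s.P.map f).f (n + 1)) (f.f n)) (by
      apply biprod.hom_ext
      · simp only [Category.assoc, biprod.map_fst, biprod.lift_fst, biprod.lift_fst_assoc]
        exact ((s.P.map f).comm n (n + 1)).symm
      · simp only [Category.assoc, biprod.map_snd, biprod.lift_snd, biprod.lift_snd_assoc]
        exact (congr($(s.π.naturality f).f n)).symm))

theorem stepMap_id : stepMap s G (𝟙 G) = 𝟙 _ := by
  ext n : 1
  refine (congrArg cover.map ?_).trans (cover.map_id _)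
  apply (cancel_mono (kernel.ι _)).mp
  rw [kernel.lift_ι, s.P.map_id, id_f, Category.id_comp]
  exact Category.comp_id _

theorem stepMap_comp {G' G'' : CochainComplex (ModuleCat.{u} R) ℤ} (f : G ⟶ G') (g : G' ⟶ G'') :
    stepMap s G (f ≫ g) = stepMap s G f ≫ stepMap s G' g := by
  ext n : 1
  refine (congrArg cover.map ?_).trans (cover.map_comp _ _)
  apply (cancel_mono (kernel.ι _)).mp
  rw [kernel.lift_ι, Category.assoc, kernel.lift_ι, kernel.lift_ι_assoc, s.P.map_comp, comp_f,
    Category.assoc]

theorem stepMap_φ {G' : CochainComplex (ModuleCat.{u} R) ℤ} (f : G ⟶ G') :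
    stepφ s G ≫ s.P.map f = stepMap s G f ≫ stepφ s G' := by
  ext n : 1
  change (_ ≫ _) ≫ _ = cover.map _ ≫ _ ≫ _
  rw [← Category.assoc (cover.map _), (coverπ (R := R)).naturality, Category.assoc, Category.assoc,
    Functor.id_map, kernel.lift_ι]

/-- The map of the next stage. -/
noncomputable def stepπ : mappingCone (stepφ s G) ⟶ G :=
  CochainComplex.mappingCone.desc _ 0 (s.π.app G)
    (by rw [δ_zero, stepφ_π, Cochain.ofHom_zero])

end Step

/-- The next stage. -/
noncomputable def next (s : Stg R) : Stg R where
  P :=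
  { obj G := mappingCone (stepφ s G)
    map {G G'} f := CochainComplex.mappingCone.map _ _ (stepMap s G f) (s.P.map f) (stepMap_φ s G f)
    map_id G := (cone_map_congr (stepMap_id s G) (s.P.map_id G) _
      (by rw [Category.id_comp, Category.comp_id])).trans (CochainComplex.mappingCone.map_id _)
    map_comp {G G' G''} f g := (cone_map_congr (stepMap_comp s G f g) (s.P.map_comp f g) _
      (by rw [reassoc_of% (stepMap_φ s G f), stepMap_φ s G' g, Category.assoc])).trans
        (CochainComplex.mappingCone.map_comp _ _ _ _ _ _ _ _ _) }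
  π :=
  { app G := stepπ s G
    naturality {G G'} f := by
      ext n : 1
      refine (CochainComplex.mappingCone.ext_from_iff (stepφ s G) (n + 1) n rfl _ _).mpr ⟨?_, ?_⟩
      · simp only [comp_f, CochainComplex.mappingCone.map, stepπ, Functor.id_map,
          CochainComplex.mappingCone.inl_v_desc_f_assoc, Cochain.comp_v _ _ _ (n + 1) (n + 1) n
            (show (n + 1) + (0 : ℤ) = n + 1 from add_zero _) (show (n + 1) + (-1 : ℤ) = n by omega), Cochain.ofHom_v, Category.assoc,
          CochainComplex.mappingCone.inl_v_desc_f, Cochain.zero_v, comp_zero, zero_comp]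
      · simp only [comp_f, CochainComplex.mappingCone.map, stepπ, Functor.id_map,
          CochainComplex.mappingCone.inr_f_desc_f_assoc, Category.assoc,
          CochainComplex.mappingCone.inr_f_desc_f]
        exact congr($(s.π.naturality f).f n) }

/-- The inclusion of a stage in the next one. -/
noncomputable def nextι (s : Stg R) : s.P ⟶ (next s).P where
  app G := CochainComplex.mappingCone.inr (stepφ s G)
  naturality {G G'} f := by
    ext n : 1
    simp only [next, comp_f, CochainComplex.mappingCone.map,
      CochainComplex.mappingCone.inr_f_desc_f]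

theorem nextι_π (s : Stg R) : nextι s ≫ (next s).π = s.π := by
  ext G : 2
  ext n : 1
  change (CochainComplex.mappingCone.inr (stepφ s G)).f n ≫ (stepπ s G).f n = _
  rw [stepπ, CochainComplex.mappingCone.inr_f_desc_f]

/-- The stages. -/
noncomputable def stg : ℕ → Stg R
  | 0 => base
  | n + 1 => next (stg n)

/-- The tower. -/
noncomputable def tower : ℕ ⥤ (CochainComplex (ModuleCat.{u} R) ℤ ⥤ CochainComplex (ModuleCat.{u} R) ℤ) :=
  Functor.ofSequence (X := fun n => (stg (R := R) n).P) fun n => nextι (stg n)

/-- The cocone to the identity. -/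
noncomputable def towerCocone : Cocone (tower (R := R)) where
  pt := 𝟭 _
  ι := NatTrans.ofSequence (fun n => (stg (R := R) n).π) (fun n => by
    refine Eq.trans ?_ (Category.comp_id _).symm
    refine Eq.trans ?_ (nextι_π (stg n))
    exact congrArg (· ≫ (stg (n + 1)).π) (Functor.ofSequence_map_homOfLE_succ _ n))

/-- The functorial resolution. -/
noncomputable def resP (R : Type u) [CommRing R] :
    CochainComplex (ModuleCat.{u} R) ℤ ⥤ CochainComplex (ModuleCat.{u} R) ℤ :=
  colimit (tower (R := R))

/-- The map of the resolution. -/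
noncomputable def resψ (R : Type u) [CommRing R] : resP R ⟶ 𝟭 _ :=
  colimit.desc (tower (R := R)) (towerCocone (R := R))

end Groth.Agent.DRingLib
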