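import Groth.Agent.DRingLib.RgammaCompletion
import Mathlib.Algebra.Homology.DerivedCategory.SingleTriangle
import Mathlib.CategoryTheory.Preadditive.Yoneda.Basic

/-!
# Killed homological functors do not see deep parts of the adic filtration
-/

set_option autoImplicit false
set_option linter.style.haveILetI false
set_option linter.unusedSectionVars false
set_option backward.isDefEq.respectTransparency false

universe u

open CategoryTheory CategoryTheory.Limits
open CategoryTheory.Pretriangulated (Triangle)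

attribute [local instance] HasDerivedCategory.standard

namespace Groth.Agent.DRingLib

variable {A : Type u} [CommRing A]

/-- Exact at the middle of distinguished triangles. -/
def IsExactMid (F : Dual.D A ⥤ AddCommGrpCat.{u + 1}) : Prop :=
  ∀ (S : Triangle (Dual.D A)), S ∈ Pretriangulated.distinguishedTriangles →
    ∀ y : F.obj S.obj₂, F.map S.mor₂ y = 0 → ∃ x : F.obj S.obj₁, F.map S.mor₁ x = y

theorem IsExactMid.shift {F : Dual.D A ⥤ AddCommGrpCat.{u + 1}} [F.Additive] (h : IsExactMid F) :
    IsExactMid (shiftFunctor (Dual.D A) (1 : ℤ) ⋙ F) := fun S hS y hy => by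
  have h3 := Triangle.shift_distinguished _ hS 1
  have e : ∀ {X Y : Dual.D A} (f : X ⟶ Y) (x : F.obj X), F.map ((1 : ℤ).negOnePow • f) x = -(F.map f x) := by
    intro X Y f x
    rw [Int.negOnePow_one, Units.neg_smul, one_smul, Functor.map_neg]
    rfl
  obtain ⟨x, hx⟩ := h _ h3 y ((e _ y).trans (neg_eq_zero.2 hy))
  exact ⟨-x, (map_neg _ _).trans ((e _ x).symm.trans hx)⟩

/-- The single functor. -/
noncomputable abbrev sF : ModuleCat.{u} A ⥤ Dual.D A := DerivedCategory.singleFunctor (ModuleCat.{u} A) 0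

/-- Maps of finite modules with range deep in the filtration are killed. -/
theorem exists_deep_zero [IsNoetherianRing A] (l : List A) :
    ∀ (F : Dual.D A ⥤ AddCommGrpCat.{u + 1}) [F.Additive], IsExactMid F →
      (∀ g ∈ l, ∀ (X : Dual.D A) (x : F.obj X), F.map (g • 𝟙 X) x = 0) →
      ∀ (M : ModuleCat.{u} A) [Module.Finite A M], ∃ n : ℕ, ∀ (P : ModuleCat.{u} A) (v : P ⟶ M),
        LinearMap.range v.hom ≤ Ideal.span {a | a ∈ l} ^ n • ⊤ → ∀ x, F.map (sF.map v) x = 0 := by
  induction l with
  | nil =>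
    intro F _ hF hk M _
    refine ⟨1, fun P v hv x => ?_⟩
    have h0 : Ideal.span {a : A | a ∈ ([] : List A)} = ⊥ := by simp
    rw [h0, pow_one, Submodule.bot_smul, le_bot_iff, LinearMap.range_eq_bot] at hv
    have : v = 0 := ModuleCat.hom_ext hv
    rw [this, Functor.map_zero, Functor.map_zero]
    rfl
  | cons g l ih =>
    intro F _ hF hk M _
    let J := Ideal.span {a : A | a ∈ g :: l}
    let J' := Ideal.span {a : A | a ∈ l}
    have hJ : J = Ideal.span {g} ⊔ J' := by
      change Ideal.span _ = _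
      rw [← Ideal.span_union]
      congr 1
      ext a
      simp
    have hkill : ∀ (N : Type u) [AddCommGroup N] [Module A N], (∀ x : N, g • x = 0) → ∀ k : ℕ,
        (J ^ k • ⊤ : Submodule A N) ≤ J' ^ k • ⊤ := by
      intro N _ _ hN k
      induction k with
      | zero => simp
      | succ k ihk =>
        rw [pow_succ', pow_succ', Submodule.mul_smul, Submodule.mul_smul]
        refine (Submodule.smul_mono le_rfl ihk).trans ?_
        rw [hJ, Submodule.sup_smul]
        refine sup_le (Submodule.smul_le.2 fun r hr x _ => ?_) le_rfl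
        obtain ⟨c, rfl⟩ := Ideal.mem_span_singleton'.1 hr
        rw [mul_smul, hN, smul_zero]
        exact zero_mem _
    let μ : M.carrier →ₗ[A] M.carrier := LinearMap.lsmul A M g
    let Mg := ModuleCat.of A (LinearMap.ker μ)
    haveI : IsNoetherian A M := isNoetherian_of_isNoetherianRing_of_finite A M
    obtain ⟨n₃, hn₃⟩ := ih (shiftFunctor (Dual.D A) (1 : ℤ) ⋙ F) hF.shift
      (fun g' hg' X x => by
        change F.map ((shiftFunctor (Dual.D A) (1 : ℤ)).map (g' • 𝟙 X)) x = 0
        rw [DerLib.NilpTest.smul_shift]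
        exact hk g' (List.mem_cons_of_mem g hg') _ x) Mg
    obtain ⟨c, hc⟩ := Ideal.exists_pow_inf_eq_pow_smul J (LinearMap.ker μ)
    let n₂ := n₃ + c
    let Qs : Submodule A M := J ^ n₂ • ⊤
    let μQ : Qs →ₗ[A] Qs := LinearMap.lsmul A Qs g
    let Qbar := ModuleCat.of A (Qs ⧸ LinearMap.range μQ)
    obtain ⟨n₁, hn₁⟩ := ih F hF (fun g' hg' => hk g' (List.mem_cons_of_mem g hg')) Qbar
    refine ⟨n₁ + n₂, fun P v hv x => ?_⟩
    have hmap : ∀ k : ℕ, ((J ^ k • ⊤ : Submodule A Qs)).map Qs.subtype = J ^ (k + n₂) • ⊤ := fun k => by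
      rw [Submodule.map_smul'', Submodule.map_top, Submodule.range_subtype, pow_add, Submodule.mul_smul]
    have hvQ : ∀ p, v.hom p ∈ Qs := fun p =>
      Submodule.smul_mono (Ideal.pow_le_pow_right (Nat.le_add_left n₂ n₁)) le_rfl (hv ⟨p, rfl⟩)
    let v' : P ⟶ ModuleCat.of A Qs := ModuleCat.ofHom (LinearMap.codRestrict Qs v.hom hvQ)
    let π : ModuleCat.of A Qs ⟶ Qbar := ModuleCat.ofHom (LinearMap.range μQ).mkQ
    have hz : F.map (sF.map (v' ≫ π)) x = 0 := by
      refine hn₁ P (v' ≫ π) ?_ x
      refine le_trans ?_ (hkill _ (fun q => ?_) n₁)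
      · rintro _ ⟨p, rfl⟩
        have hp : v'.hom p ∈ (J ^ n₁ • ⊤ : Submodule A Qs) := by
          obtain ⟨q, hq, hqp⟩ : v.hom p ∈ ((J ^ n₁ • ⊤ : Submodule A Qs)).map Qs.subtype :=
            (hmap n₁).symm ▸ hv ⟨p, rfl⟩
          exact (Subtype.ext hqp : q = v'.hom p) ▸ hq
        have : π.hom (v'.hom p) ∈ ((J ^ n₁ • ⊤ : Submodule A Qs)).map (LinearMap.range μQ).mkQ :=
          ⟨_, hp, rfl⟩
        rw [Submodule.map_smul'', Submodule.map_top, Submodule.range_mkQ] at this
        exact this
      · obtain ⟨q, rfl⟩ := Submodule.Quotient.mk_surjective _ q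
        exact (Submodule.Quotient.mk_eq_zero _).2 ⟨q, rfl⟩
    let S₁ : ShortComplex (ModuleCat.{u} A) := ShortComplex.mk
      (ModuleCat.ofHom (LinearMap.range μQ).subtype) π (by
        ext ⟨q, hq⟩
        exact (Submodule.Quotient.mk_eq_zero _).2 hq)
    have hS₁ : S₁.ShortExact :=
      { exact := (ShortComplex.moduleCat_exact_iff _).2 fun q hq =>
          ⟨⟨q, (Submodule.Quotient.mk_eq_zero _).1 hq⟩, rfl⟩
        mono_f := (ModuleCat.mono_iff_injective _).2 Subtype.val_injective
        epi_g := (ModuleCat.epi_iff_surjective _).2 (Submodule.mkQ_surjective _) }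
    obtain ⟨b, hb⟩ := hF _ hS₁.singleTriangle_distinguished (F.map (sF.map v') x) (by
      change F.map (sF.map π) (F.map (sF.map v') x) = 0
      rw [Functor.map_comp, Functor.map_comp] at hz
      exact hz)
    let SQ : ShortComplex (ModuleCat.{u} A) := ShortComplex.mk
      (ModuleCat.ofHom (LinearMap.ker μQ).subtype) (ModuleCat.ofHom μQ.rangeRestrict) (by
        ext ⟨q, hq⟩
        exact congrArg Subtype.val hq)
    let SM : ShortComplex (ModuleCat.{u} A) := ShortComplex.mk
      (ModuleCat.ofHom (LinearMap.ker μ).subtype) (ModuleCat.ofHom μ.rangeRestrict) (by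
        ext ⟨q, hq⟩
        exact hq)
    have hSQ : SQ.ShortExact :=
      { exact := (ShortComplex.moduleCat_exact_iff _).2 fun q hq => ⟨⟨q, congrArg Subtype.val hq⟩, rfl⟩
        mono_f := (ModuleCat.mono_iff_injective _).2 Subtype.val_injective
        epi_g := (ModuleCat.epi_iff_surjective _).2 (LinearMap.surjective_rangeRestrict _) }
    have hSM : SM.ShortExact :=
      { exact := (ShortComplex.moduleCat_exact_iff _).2 fun q hq => ⟨⟨q, congrArg Subtype.val hq⟩, rfl⟩
        mono_f := (ModuleCat.mono_iff_injective _).2 Subtype.val_injective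
        epi_g := (ModuleCat.epi_iff_surjective _).2 (LinearMap.surjective_rangeRestrict _) }
    let φ : SQ ⟶ SM :=
      { τ₁ := ModuleCat.ofHom (LinearMap.codRestrict (LinearMap.ker μ) (Qs.subtype ∘ₗ (LinearMap.ker μQ).subtype)
          fun q => show g • (q.1 : M) = 0 from congrArg Subtype.val (show g • q.1 = 0 from q.2))
        τ₂ := ModuleCat.ofHom Qs.subtype
        τ₃ := ModuleCat.ofHom (LinearMap.codRestrict (LinearMap.range μ) (Qs.subtype ∘ₗ (LinearMap.range μQ).subtype)
          fun q => by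
            obtain ⟨_, q', rfl⟩ := q
            exact ⟨q'.1, rfl⟩)
        comm₁₂ := rfl
        comm₂₃ := rfl }
    have hdeep : LinearMap.range φ.τ₁.hom ≤ J' ^ n₃ • (⊤ : Submodule A Mg) := by
      refine le_trans ?_ (hkill _ (fun q => Subtype.ext q.2) n₃)
      rintro _ ⟨q, rfl⟩
      have hq : (q.1.1 : M) ∈ J ^ n₂ • (⊤ : Submodule A M) ⊓ LinearMap.ker μ := ⟨q.1.2, (φ.τ₁.hom q).2⟩
      rw [hc n₂ (Nat.le_add_left c n₃)] at hq
      have hq' : ((φ.τ₁.hom q).1 : M) ∈ (J ^ n₃ • ⊤ : Submodule A (LinearMap.ker μ)).map (LinearMap.ker μ).subtype := by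
        rw [Submodule.map_smul'', Submodule.map_top, Submodule.range_subtype]
        refine Submodule.smul_mono (Ideal.pow_le_pow_right ?_) inf_le_right hq
        omega
      obtain ⟨q₀, hq₀, he⟩ := hq'
      exact (Subtype.ext he : q₀ = φ.τ₁.hom q) ▸ hq₀
    have hδ : F.map hSM.singleδ (F.map (sF.map φ.τ₃) b) = 0 := by
      have h := congrArg (fun f => F.map f b)
        (ShortComplex.ShortExact.singleTriangle.map hSQ hSM φ).comm₃
      simp only [Functor.map_comp] at h
      exact h.symm.trans (hn₃ _ φ.τ₁ hdeep (F.map hSQ.singleδ b))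
    obtain ⟨b', hb'⟩ := hF _ (Pretriangulated.rot_of_distTriang _ hSM.singleTriangle_distinguished)
      (F.map (sF.map φ.τ₃) b) hδ
    have e1 : v = v' ≫ ModuleCat.ofHom Qs.subtype := rfl
    have e2 : ModuleCat.ofHom (LinearMap.range μQ).subtype ≫ ModuleCat.ofHom Qs.subtype =
        φ.τ₃ ≫ ModuleCat.ofHom (LinearMap.range μ).subtype := rfl
    have e3 : SM.g ≫ ModuleCat.ofHom (LinearMap.range μ).subtype = g • 𝟙 M := by
      ext m
      rfl
    calc F.map (sF.map v) x
        = F.map (sF.map (ModuleCat.ofHom Qs.subtype)) (F.map (sF.map v') x) := by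
          rw [e1, Functor.map_comp, Functor.map_comp]; rfl
      _ = F.map (sF.map (ModuleCat.ofHom Qs.subtype)) (F.map (sF.map S₁.f) b) := by rw [← hb]; rfl
      _ = F.map (sF.map (ModuleCat.ofHom (LinearMap.range μ).subtype)) (F.map (sF.map φ.τ₃) b) := by
          have := congrArg (fun f => F.map (sF.map f) b) e2
          simp only [Functor.map_comp] at this
          exact this
      _ = F.map (sF.map (ModuleCat.ofHom (LinearMap.range μ).subtype)) (F.map (sF.map SM.g) b') := by
          rw [← hb']; rfl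
      _ = F.map (g • 𝟙 (sF.obj M)) b' := by
          have := congrArg (fun f => F.map (sF.map f) b') e3
          have h0 : sF.map (g • 𝟙 M) = g • 𝟙 (sF.obj M) :=
            (Functor.map_smul _ _ _).trans (congrArg (g • ·) (sF.map_id M))
          rw [h0, Functor.map_comp, Functor.map_comp] at this
          exact this
      _ = 0 := hk g List.mem_cons_self _ b'

end Groth.Agent.DRingLib
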